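import Cfsg.Agent.Chev.Engine
import Cfsg.Prelude.Def_ChevStructure

/-!
# Accessor records for Chevalley data and the sparse operator of a root element
-/

set_option autoImplicit false

namespace Cfsg.Agent.Chev
open Cfsg.Lie

/-- The tables of a Chevalley datum, as plain functions. -/
structure Acc where
  l : ℕ
  n : ℕ
  simple : ℕ → ℕ
  neg : ℕ → ℕ
  A : ℕ → ℕ → ℤ
  H : ℕ → ℕ → ℤ
  ent : ℕ → ℕ → List (ℕ × ℤ)

/-- the accessor record of a datum -/
def acc (D : ChevalleyDatum) : Acc where
  l := D.rank
  n := D.nroots
  simple := D.simple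
  neg := D.neg
  A := D.cartan
  H := fun r i => (D.coroot.getD r #[]).getD i 0
  ent := D.chainEntry

/-! ### polynomial helpers -/

section poly
variable {F : Type*} [CommRing F]

/-- value of a polynomial (a list of terms whose keys are ignored) -/
def pv (a b : F) : Vec → F
  | [] => 0
  | μ :: p => μ.val a b + pv a b p

@[simp] theorem pv_nil (a b : F) : pv a b [] = 0 := rfl
@[simp] theorem pv_cons (a b : F) (μ : Tm) (p : Vec) : pv a b (μ :: p) = μ.val a b + pv a b p := rfl

theorem pv_scaleBy (a b : F) (τ : Tm) (w rest : Vec) :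
    pv a b (scaleBy τ w rest) = τ.val a b * pv a b w + pv a b rest := by
  induction w with
  | nil => simp [scaleBy_nil]
  | cons σ w ih =>
    rw [scaleBy_cons, pv_cons, ih, pv_cons]
    simp only [Tm.val, Nat.add_eq, Nat.mul_eq, Nat.cast_add, Nat.cast_mul, pow_add]
    ring

/-- product of polynomials -/
noncomputable def pmul (p q : Vec) : Vec :=
  List.rec (motive := fun _ => Vec) [] (fun μ _ ih => scaleBy μ q ih) p

theorem pmul_cons (μ : Tm) (p q : Vec) : pmul (μ :: p) q = scaleBy μ q (pmul p q) := rfl

theorem pv_pmul (a b : F) (p q : Vec) : pv a b (pmul p q) = pv a b p * pv a b q := by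
  induction p with
  | nil => simp [pmul]
  | cons μ p ih => rw [pmul_cons, pv_scaleBy, ih, pv_cons]; ring

/-- the polynomial `c * p` placed at key `k`, followed by `rest` -/
noncomputable def place (k : ℕ) (c : ℤ) (p rest : Vec) : Vec :=
  List.rec (motive := fun _ => Vec) rest
    (fun μ _ ih => ⟨k, μ.i, μ.j,
      Nat.add (Nat.mul (Int.toNat c) μ.p) (Nat.mul (Int.toNat (Int.neg c)) μ.n),
      Nat.add (Nat.mul (Int.toNat c) μ.n) (Nat.mul (Int.toNat (Int.neg c)) μ.p)⟩ :: ih) p

theorem place_nil (k : ℕ) (c : ℤ) (rest : Vec) : place k c [] rest = rest := rfl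
theorem place_cons (k : ℕ) (c : ℤ) (μ : Tm) (p rest : Vec) : place k c (μ :: p) rest =
    ⟨k, μ.i, μ.j,
      Nat.add (Nat.mul (Int.toNat c) μ.p) (Nat.mul (Int.toNat (Int.neg c)) μ.n),
      Nat.add (Nat.mul (Int.toNat c) μ.n) (Nat.mul (Int.toNat (Int.neg c)) μ.p)⟩ :: place k c p rest := rfl

theorem toNat_sub_toNat_neg_cast (c : ℤ) : ((Int.toNat c : ℕ) : F) - ((Int.toNat (-c) : ℕ) : F) = (c : F) := by
  have h := Int.toNat_sub_toNat_neg c
  have h2 : (((Int.toNat c : ℕ) : ℤ) - ((Int.toNat (-c) : ℕ) : ℤ) : ℤ) = c := h
  have h3 := congrArg (Int.cast : ℤ → F) h2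
  push_cast at h3
  exact h3

theorem ev_place (a b : F) (k : ℕ) (c : ℤ) (p rest : Vec) (x : ℕ) :
    ev a b (place k c p rest) x = (if k = x then (c : F) * pv a b p else 0) + ev a b rest x := by
  induction p with
  | nil => simp [place_nil]
  | cons μ p ih =>
    rw [place_cons, ev_cons, ih, pv_cons]
    have hc := toNat_sub_toNat_neg_cast (F := F) c
    have hneg : Int.neg c = -c := rfl
    simp only [Tm.val, Nat.add_eq, Nat.mul_eq, Nat.cast_add, Nat.cast_mul, hneg]
    split_ifs
    · rw [← hc]; ring
    · ring

end poly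

/-! ### the operator of `x_r(p)` -/

/-- the terms `M_k p^k e_{u_k}` of a chain; `q` is the current power of `p` -/
noncomputable def chainT (l : ℕ) (p : Vec) (L : List (ℕ × ℤ)) (q rest : Vec) : Vec :=
  List.rec (motive := fun _ => Vec → Vec) (fun _ => rest)
    (fun e _ ih q => place (Nat.add l e.1) e.2 q (ih (pmul p q))) L q

theorem chainT_nil (l : ℕ) (p q rest : Vec) : chainT l p [] q rest = rest := rfl
theorem chainT_cons (l : ℕ) (p : Vec) (e : ℕ × ℤ) (L : List (ℕ × ℤ)) (q rest : Vec) :
    chainT l p (e :: L) q rest = place (Nat.add l e.1) e.2 q (chainT l p L (pmul p q) rest) := rfl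

/-- the terms `H r i * p * h_i`, `i < m` -/
noncomputable def hterms (H : ℕ → ℤ) (p : Vec) (m : ℕ) (rest : Vec) : Vec :=
  Nat.rec (motive := fun _ => Vec) rest (fun i ih => place i (H i) p ih) m

theorem hterms_zero (H : ℕ → ℤ) (p rest : Vec) : hterms H p 0 rest = rest := rfl
theorem hterms_succ (H : ℕ → ℤ) (p : Vec) (m : ℕ) (rest : Vec) :
    hterms H p (m+1) rest = place m (H m) p (hterms H p m rest) := rfl

/-- the column `key` of `x_r(p)` -/
noncomputable def Acc.xop (T : Acc) (r : ℕ) (p : Vec) (key : ℕ) : Vec :=
  bite (Nat.ble T.l key)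
    (bite (Nat.beq (Nat.sub key T.l) r) (unitV key)
      (bite (Nat.beq (Nat.sub key T.l) (T.neg r))
        (⟨key, 0, 0, 1, 0⟩ :: hterms (T.H r) p T.l (place (Nat.add T.l r) (Int.negSucc 0) (pmul p p) []))
        (⟨key, 0, 0, 1, 0⟩ :: chainT T.l p (T.ent r (Nat.sub key T.l)) p [])))
    (⟨key, 0, 0, 1, 0⟩ :: place (Nat.add T.l r) (Int.neg (T.A key r)) p [])

section sound
variable {F : Type*} [Field F]

theorem ev_hterms (a b : F) (H : ℕ → ℤ) (p : Vec) (m : ℕ) (rest : Vec) (x : ℕ) :
    ev a b (hterms H p m rest) x = (if x < m then (H x : F) * pv a b p else 0) + ev a b rest x := by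
  induction m with
  | zero => simp [hterms_zero]
  | succ m ih =>
    rw [hterms_succ, ev_place, ih]
    by_cases h1 : m = x
    · subst h1; simp
    · have : x < m + 1 ↔ x < m := by omega
      simp [h1, this]

theorem ev_chainT (a b : F) (l : ℕ) (p : Vec) (L : List (ℕ × ℤ)) (q rest : Vec) (x : ℕ) :
    ev a b (chainT l p L q rest) x =
      ((L.zipIdx).map fun e => if l + e.1.1 = x then (e.1.2 : F) * (pv a b q * pv a b p ^ e.2) else 0).sum
        + ev a b rest x := by
  induction L generalizing q with
  | nil => simp [chainT_nil]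
  | cons e L ih =>
    rw [chainT_cons, ev_place, ih, List.zipIdx_cons, List.map_cons, List.sum_cons]
    have : (List.map (fun e : (ℕ × ℤ) × ℕ => if l + e.1.1 = x then (e.1.2 : F) * (pv a b q * pv a b p ^ e.2) else 0)
        (L.zipIdx (0 + 1))).sum =
        (List.map (fun e : (ℕ × ℤ) × ℕ => if l + e.1.1 = x then (e.1.2 : F) * (pv a b (pmul p q) * pv a b p ^ e.2) else 0)
        L.zipIdx).sum := by
      rw [List.zipIdx_succ, List.map_map]
      congr 1
      apply List.map_congr_left
      intro e _
      simp only [Function.comp, pv_pmul, pow_succ]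
      split_ifs <;> ring
    rw [this]
    simp only [Nat.add_eq, pow_zero, mul_one]
    ring

/-- well-formedness of the tables, as needed to describe the columns of `x_r(t)` -/
structure WF (D : ChevalleyDatum) : Prop where
  neg_lt : ∀ r < D.nroots, D.neg r < D.nroots
  ent_oor : ∀ r s, D.nroots ≤ s → D.chainEntry r s = []
  coeff : ∀ r s u, D.chainCoeff r s u =
    ((D.chainEntry r s).zipIdx.filter (fun q => q.1.1 = u)).map (fun q => (q.2 + 1, q.1.2))

theorem sum_filter_map_aux (L : List ((ℕ × ℤ) × ℕ)) (u : ℕ) (t : F) :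
    (((L.filter (fun q => q.1.1 = u)).map (fun q => (q.2 + 1, q.1.2))).map
      fun km : ℕ × ℤ => ((km.2 : ℤ) : F) * t ^ km.1).sum =
    (L.map fun e => if e.1.1 = u then (e.1.2 : F) * (t * t ^ e.2) else 0).sum := by
  induction L with
  | nil => simp
  | cons e L ih =>
    rw [List.filter_cons]
    by_cases h : e.1.1 = u
    · simp only [h, decide_true, if_true, List.map_cons, List.sum_cons, ih, pow_succ]
      ring
    · simp only [h, decide_false, List.map_cons, List.sum_cons, if_false, zero_add]
      exact ih

/-- closed form of the coordinates of a column of the operator `xop` -/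
theorem ev_xop (T : Acc) (a b : F) (r : ℕ) (p : Vec) (key x : ℕ) :
    ev a b (T.xop r p key) x =
      if key < T.l then
        (if key = x then 1 else 0) + (if T.l + r = x then -(T.A key r : F) * pv a b p else 0)
      else if key - T.l = r then (if key = x then 1 else 0)
      else if key - T.l = T.neg r then
        (if key = x then 1 else 0) + ((if x < T.l then (T.H r x : F) * pv a b p else 0) +
          (if T.l + r = x then -(pv a b p * pv a b p) else 0))
      else (if key = x then 1 else 0) +
        (((T.ent r (key - T.l)).zipIdx).map fun e =>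
          if T.l + e.1.1 = x then (e.1.2 : F) * (pv a b p * pv a b p ^ e.2) else 0).sum := by
  have hu : ∀ k : ℕ, (⟨k, 0, 0, 1, 0⟩ : Tm).val a b = 1 := by intro k; simp [Tm.val]
  have hneg : ∀ c : ℤ, Int.neg c = -c := fun _ => rfl
  unfold Acc.xop
  by_cases h0 : key < T.l
  · have hk : Nat.ble T.l key = false := by
      rw [← Bool.not_eq_true, Nat.ble_eq]; omega
    rw [hk, bite_false, if_pos h0, ev_cons, ev_place, ev_nil, add_zero, hu, hneg, Nat.add_eq]
    push_cast
    rfl
  · have hk : Nat.ble T.l key = true := by rw [Nat.ble_eq]; omega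
    rw [hk, bite_true, if_neg h0, Nat.sub_eq]
    by_cases h1 : key - T.l = r
    · rw [(nbeq_iff _ _).mpr h1, bite_true, if_pos h1, ev_unitV]
    · rw [(nbeq_false_iff _ _).mpr h1, bite_false, if_neg h1]
      by_cases h2 : key - T.l = T.neg r
      · rw [(nbeq_iff _ _).mpr h2, bite_true, if_pos h2, ev_cons, ev_hterms, ev_place, ev_nil, add_zero,
          hu, pv_pmul, Nat.add_eq]
        have : ((Int.negSucc 0 : ℤ) : F) = -1 := by simp
        rw [this]
        simp only [neg_mul, one_mul]
      · rw [(nbeq_false_iff _ _).mpr h2, bite_false, if_neg h2, ev_cons, ev_chainT, ev_nil, add_zero, hu]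

theorem rep_x (D : ChevalleyDatum) (hD : WF D) (a b : F) (r : ℕ) (hr : r < D.nroots) (p : Vec) :
    Rep (l := D.rank) (n := D.nroots) a b ((acc D).xop r p) (D.x F r (pv a b p)) := by
  have hx : D.x F r (pv a b p) = D.xMat F ⟨r, hr⟩ (pv a b p) := by simp [ChevalleyDatum.x, hr]
  have hl : (acc D).l = D.rank := rfl
  have hcl : ∀ i : Fin D.rank, code (Sum.inl i : Fin D.rank ⊕ Fin D.nroots) = (i : ℕ) := fun _ => rfl
  have hcr : ∀ s : Fin D.nroots, code (Sum.inr s : Fin D.rank ⊕ Fin D.nroots) = D.rank + (s : ℕ) := fun _ => rfl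
  constructor
  · intro row col
    rw [hx, ev_xop, hl]
    rcases col with i | s
    · -- column h_i
      have hi := i.2
      rw [if_pos (show code (Sum.inl i : Fin D.rank ⊕ Fin D.nroots) < D.rank from hi)]
      rcases row with i' | u
      · have hi' := i'.2
        rw [if_neg (show ¬ (D.rank + r = code (Sum.inl i' : Fin D.rank ⊕ Fin D.nroots)) by
          rw [hcl]; omega), add_zero]
        simp only [ChevalleyDatum.xMat, Matrix.of_apply]
        by_cases h2 : i' = i
        · rw [if_pos h2, if_pos (by rw [h2])]
        · rw [if_neg h2, if_neg (fun e => h2 (Sum.inl.inj (code_injective e)).symm)]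
      · rw [if_neg (show ¬ (code (Sum.inl i : Fin D.rank ⊕ Fin D.nroots) = code (Sum.inr u : Fin D.rank ⊕ Fin D.nroots)) by
          rw [hcl, hcr]; omega), zero_add]
        simp only [ChevalleyDatum.xMat, Matrix.of_apply]
        by_cases h2 : u = ⟨r, hr⟩
        · rw [if_pos h2, if_pos (by rw [h2, hcr])]
          rfl
        · rw [if_neg h2, if_neg (fun e => h2 (Fin.ext (by rw [hcr] at e; simp only; omega)))]
    · -- column e_s
      rw [if_neg (show ¬ (code (Sum.inr s : Fin D.rank ⊕ Fin D.nroots) < D.rank) by rw [hcr]; omega)]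
      have hs : code (Sum.inr s : Fin D.rank ⊕ Fin D.nroots) - D.rank = s := by
        rw [hcr]; omega
      rw [hs]
      by_cases h1 : s = ⟨r, hr⟩
      · rw [if_pos (show (s : ℕ) = r by rw [h1])]
        simp only [ChevalleyDatum.xMat, Matrix.of_apply, h1, if_true]
        rcases row with i' | u
        · have hi' := i'.2
          rw [if_neg (by rw [hcl, hcr]; omega)]
        · dsimp only
          by_cases h2 : u = ⟨r, hr⟩
          · rw [if_pos h2, if_pos (by rw [h2])]
          · rw [if_neg h2, if_neg (fun e => h2 (Sum.inr.inj (code_injective e)).symm)]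
      · rw [if_neg (show ¬ ((s : ℕ) = r) from fun e => h1 (Fin.ext e))]
        by_cases h3 : (s : ℕ) = D.negIdx.getD r 0
        · rw [if_pos (show (s : ℕ) = (acc D).neg r from h3)]
          simp only [ChevalleyDatum.xMat, Matrix.of_apply, h1, if_false, h3, if_true]
          rcases row with i' | u
          · have hi' := i'.2
            rw [if_neg (by rw [hcl, hcr]; omega), if_pos (show code (Sum.inl i' : Fin D.rank ⊕ Fin D.nroots) < D.rank from hi'),
              if_neg (by rw [hcl]; omega), zero_add, add_zero]
            rfl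
          · rw [if_neg (show ¬ (code (Sum.inr u : Fin D.rank ⊕ Fin D.nroots) < D.rank) by rw [hcr]; omega), zero_add]
            dsimp only
            by_cases h4 : u = s
            · rw [if_pos h4, if_pos (by rw [h4]),
                if_neg (fun e => h1 (h4 ▸ Fin.ext (by rw [hcr] at e; simp only; omega))), add_zero]
            · rw [if_neg h4, if_neg (fun e => h4 (Sum.inr.inj (code_injective e)).symm), zero_add]
              by_cases h5 : u = ⟨r, hr⟩
              · rw [if_pos h5, if_pos (by rw [h5, hcr]), pow_two]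
              · rw [if_neg h5, if_neg (fun e => h5 (Fin.ext (by rw [hcr] at e; simp only; omega)))]
        · rw [if_neg (show ¬ ((s : ℕ) = (acc D).neg r) from h3)]
          simp only [ChevalleyDatum.xMat, Matrix.of_apply, h1, if_false, h3]
          rcases row with i' | u
          · have hi' := i'.2
            rw [if_neg (by rw [hcl, hcr]; omega), zero_add]
            symm
            apply List.sum_eq_zero
            intro y hy
            obtain ⟨e, _, rfl⟩ := List.mem_map.mp hy
            rw [if_neg (by rw [hcl]; omega)]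
          · dsimp only
            rw [hD.coeff, sum_filter_map_aux]
            congr 1
            · by_cases h4 : u = s
              · rw [if_pos h4, if_pos (by rw [h4])]
              · rw [if_neg h4, if_neg (fun e => h4 (Sum.inr.inj (code_injective e)).symm)]
            · congr 1
              apply List.map_congr_left
              intro e _
              have : (D.rank + e.1.1 = code (Sum.inr u : Fin D.rank ⊕ Fin D.nroots)) ↔ e.1.1 = u := by
                rw [hcr]; omega
              simp only [this]
  · intro k hk row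
    have h5 : ¬ (k = code row) := by
      have := code_lt row; omega
    have h6 := hD.neg_lt r hr
    rw [ev_xop, hl, if_neg (by omega), if_neg (by omega),
      if_neg (show ¬ (k - D.rank = (acc D).neg r) by
        have : (acc D).neg r = D.neg r := rfl
        omega),
      if_neg h5, zero_add,
      show (acc D).ent r (k - D.rank) = [] from hD.ent_oor _ _ (by omega)]
    rfl

end sound

end Cfsg.Agent.Chev
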