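import Cfsg.Agent.Chev.Rel6

/-!
# Root coordinates

Auxiliary table: the coordinates `rc r j` of the roots on the fundamental roots, with the kernel checks that
tie it to the tables of the datum.
-/

set_option autoImplicit false

namespace Cfsg.Agent.Chev
open Cfsg.Lie

/-- root coordinates, shifted by `8` -/
structure RAux where
  rcN : ℕ → ℕ → ℕ

/-- the coordinate of the root `r` on the `j`-th fundamental root -/
def RAux.rc (R : RAux) (r j : ℕ) : ℤ := Int.subNatNat (R.rcN r j) 8

theorem RAux.rc_eq (R : RAux) (r j : ℕ) : R.rc r j = (R.rcN r j : ℤ) - 8 := by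
  unfold RAux.rc; rw [Int.subNatNat_eq_coe]; rfl

/-- additivity of the coordinates along a chain -/
noncomputable def entOK (n l : ℕ) (rcN : ℕ → ℕ → ℕ) (r s : ℕ) (L : List (ℕ × ℤ)) (k : ℕ) : Bool :=
  List.rec (motive := fun _ => ℕ → Bool) (fun _ => true)
    (fun e _ ih k => band (nlt e.1 n)
      (band (allBelow (fun j => Nat.beq (Nat.add (rcN e.1 j) (Nat.mul k 8))
          (Nat.add (rcN s j) (Nat.mul k (rcN r j)))) l) (ih (Nat.succ k)))) L k

theorem entOK_cons (n l : ℕ) (rcN : ℕ → ℕ → ℕ) (r s : ℕ) (e : ℕ × ℤ) (L : List (ℕ × ℤ)) (k : ℕ) :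
    entOK n l rcN r s (e :: L) k = band (nlt e.1 n)
      (band (allBelow (fun j => Nat.beq (Nat.add (rcN e.1 j) (Nat.mul k 8))
          (Nat.add (rcN s j) (Nat.mul k (rcN r j)))) l) (entOK n l rcN r s L (Nat.succ k))) := rfl

theorem entOK_spec (n l : ℕ) (R : RAux) (r s : ℕ) (L : List (ℕ × ℤ)) (k : ℕ)
    (h : entOK n l R.rcN r s L k = true) (i : ℕ) (e : ℕ × ℤ) (he : L[i]? = some e) :
    e.1 < n ∧ ∀ j < l, R.rc e.1 j = R.rc s j + ((k + i : ℕ) : ℤ) * R.rc r j := by
  induction L generalizing k i with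
  | nil => simp at he
  | cons x L ih =>
    rw [entOK_cons] at h
    simp only [band_eq_true, nlt_iff, allBelow_iff, nbeq_iff] at h
    cases i with
    | zero =>
      simp only [List.getElem?_cons_zero, Option.some.injEq] at he
      subst he
      refine ⟨h.1, fun j hj => ?_⟩
      have := h.2.1 j hj
      simp only [Nat.add_eq, Nat.mul_eq] at this
      have h2 : ((R.rcN x.1 j : ℤ) + k * 8) = R.rcN s j + k * R.rcN r j := by exact_mod_cast this
      simp only [RAux.rc_eq, Nat.add_zero]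
      linear_combination h2
    | succ i =>
      simp only [List.getElem?_cons_succ] at he
      have := ih (Nat.succ k) h.2.2 i he
      rw [show k + (i + 1) = Nat.succ k + i by simp only [Nat.succ_eq_add_one]; omega]
      exact this

/-- row check of the additivity -/
noncomputable def chkEnt (P : Packed) (R : RAux) (r : ℕ) : Bool :=
  allBelow (fun s => entOK P.n P.l R.rcN r s (P.acc.ent r s) 1) P.n

/-- the weight `32^(l-1-j)` -/
def wgt (l j : ℕ) : ℤ := Int.ofNat (Nat.pow 32 (Nat.sub (Nat.sub l 1) j))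

/-- a linear function of the coordinates which is strictly increasing in the index of the root -/
noncomputable def RAux.ht (R : RAux) (l r : ℕ) : ℤ := isum (fun j => Int.mul (R.rc r j) (wgt l j)) l

/-- `∃ k < n, f k` -/
noncomputable def anyBelow (f : ℕ → Bool) (n : ℕ) : Bool :=
  Nat.rec (motive := fun _ => Bool) false (fun k ih => Bool.rec ih true (f k)) n

theorem anyBelow_iff (f : ℕ → Bool) (n : ℕ) : anyBelow f n = true ↔ ∃ k < n, f k = true := by
  induction n with
  | zero => simp [anyBelow]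
  | succ m ih =>
    have h : anyBelow f (m+1) = Bool.rec (anyBelow f m) true (f m) := rfl
    rw [h]
    cases hf : f m with
    | true =>
      simp only [true_iff]
      exact ⟨m, by omega, hf⟩
    | false =>
      change anyBelow f m = true ↔ _
      rw [ih]
      constructor
      · rintro ⟨k, hk, h⟩; exact ⟨k, by omega, h⟩
      · rintro ⟨k, hk, h⟩
        rcases Nat.lt_succ_iff_lt_or_eq.mp hk with h1 | h1
        · exact ⟨k, h1, h⟩
        · rw [h1, hf] at h; cases h

/-- the cheap checks on the coordinates -/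
noncomputable def chkRoot (P : Packed) (X : NAux) (R : RAux) : Bool :=
  band (decide (0 < P.l ∧ P.n = 2 * (P.n / 2)))
  (band (allBelow (fun r => allBelow (fun j => decide (R.rc (P.acc.neg r) j = - R.rc r j)) P.l) P.n)
  (band (allBelow (fun r => decide (R.ht P.l r < R.ht P.l (r + 1))) (P.n - 1))
  (band (allBelow (fun i => allBelow (fun s => decide (P.acc.A i s =
      isum (fun j => R.rc s j * P.acc.A i (P.acc.simple j)) P.l)) P.n) P.l)
  (band (allBelow (fun r => allBelow (fun i =>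
      decide ((P.acc.H r i = 0 ↔ R.rc r i = 0) ∧ (0 < P.acc.H r i ↔ 0 < R.rc r i))) P.l) P.n)
  (band (allBelow (fun i => band (nlt (P.acc.simple i) P.n)
      (allBelow (fun j => decide (R.rc (P.acc.simple i) j = (if i = j then 1 else 0) ∧
        P.acc.H (P.acc.simple i) j = if i = j then 1 else 0)) P.l)) P.l)
  (band (allBelow (fun i => allBelow (fun s => allBelow (fun j =>
      decide (R.rc (X.w i s) j = R.rc s j - if i = j then P.acc.A i s else 0)) P.l) P.n) P.l)
  (band (allBelow (fun i => allBelow (fun s =>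
      decide (P.n / 2 ≤ s → s ≠ P.acc.simple i → anyBelow (fun j => decide (j ≠ i ∧ 0 < R.rc s j)) P.l = true))
        P.n) P.l)
  (allBelow (fun r => allBelow (fun j =>
      decide ((P.n / 2 ≤ r → 0 ≤ R.rc r j) ∧ (r < P.n / 2 → R.rc r j ≤ 0))) P.l) P.n))))))))

/-- the propositional part of `Good` -/
structure GoodP (D : ChevalleyDatum) (rc : ℕ → ℕ → ℤ) (eta : ℕ → ℕ → ℤ) : Prop where
  wf : WF D
  rank_pos : 0 < D.rank
  even : D.nroots = 2 * (D.nroots / 2)
  neg_eq : ∀ r < D.nroots, D.neg r = D.nroots - 1 - r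
  coroot_size : ∀ r < D.nroots, (D.coroot.getD r #[]).size = D.rank
  ent_add : ∀ r < D.nroots, ∀ s < D.nroots, ∀ (k : ℕ) (e : ℕ × ℤ), (D.chainEntry r s)[k]? = some e →
    e.1 < D.nroots ∧ ∀ j < D.rank, rc e.1 j = rc s j + ((k + 1 : ℕ) : ℤ) * rc r j
  rc_neg : ∀ r < D.nroots, ∀ j < D.rank, rc (D.neg r) j = - rc r j
  ht_mono : ∀ r < D.nroots - 1,
    isum (fun j => Int.mul (rc r j) (wgt D.rank j)) D.rank < isum (fun j => Int.mul (rc (r + 1) j) (wgt D.rank j)) D.rank
  cartan_lin : ∀ i < D.rank, ∀ s < D.nroots,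
    D.cartan i s = isum (fun j => rc s j * D.cartan i (D.simple j)) D.rank
  H_sign : ∀ r < D.nroots, ∀ i < D.rank, ((D.coroot.getD r #[]).getD i 0 = 0 ↔ rc r i = 0) ∧
    (0 < (D.coroot.getD r #[]).getD i 0 ↔ 0 < rc r i)
  simple_lt : ∀ i < D.rank, D.simple i < D.nroots
  rc_simple : ∀ i < D.rank, ∀ j < D.rank, rc (D.simple i) j = if i = j then 1 else 0
  H_simple : ∀ i < D.rank, ∀ j < D.rank, (D.coroot.getD (D.simple i) #[]).getD j 0 = if i = j then 1 else 0
  refl_lt : ∀ i < D.rank, ∀ s < D.nroots, D.reflectRoot i s < D.nroots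
  rc_refl : ∀ i < D.rank, ∀ s < D.nroots, ∀ j < D.rank,
    rc (D.reflectRoot i s) j = rc s j - if i = j then D.cartan i s else 0
  other_coord : ∀ i < D.rank, ∀ s < D.nroots, D.nroots / 2 ≤ s → s ≠ D.simple i →
    ∃ j < D.rank, j ≠ i ∧ 0 < rc s j
  rc_sign : ∀ r < D.nroots, ∀ j < D.rank, (D.nroots / 2 ≤ r → 0 ≤ rc r j) ∧ (r < D.nroots / 2 → rc r j ≤ 0)
  eta_sq : ∀ i < D.rank, ∀ s < D.nroots, eta i s = 1 ∨ eta i s = -1
  refl_refl : ∀ i < D.rank, ∀ s < D.nroots, D.reflectRoot i (D.reflectRoot i s) = s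
  refl_neg : ∀ i < D.rank, ∀ s < D.nroots, D.reflectRoot i (D.neg s) = D.neg (D.reflectRoot i s)
  eta_neg : ∀ i < D.rank, ∀ s < D.nroots, eta i s * eta i (D.neg s) = 1

/-- Root coordinates and signs for a datum, with the facts the theory needs. -/
structure Good (D : ChevalleyDatum) where
  rc : ℕ → ℕ → ℤ
  eta : ℕ → ℕ → ℤ
  prop : GoodP D rc eta

theorem GoodP.ofChk {D : ChevalleyDatum} {P : Packed} (hD : Fast D P) (X : NAux) (R : RAux)
    (hX : chkAux P X = true) (hX2 : chkAux2 P X = true)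
    (hE : ∀ r < P.n, chkEnt P R r = true) (hR : chkRoot P X R = true) : GoodP D R.rc X.eta := by
  have hl : P.l = D.rank := hD.bridge.rank.symm
  have hn : P.n = D.nroots := hD.bridge.nroots.symm
  have hacc : P.acc = acc D := hD.bridge.acc_eq.symm
  simp only [chkRoot, band_eq_true, allBelow_iff, decide_eq_true_eq, nlt_iff, anyBelow_iff, hacc, hl, hn] at hR
  simp only [chkAux, band_eq_true, allBelow_iff, decide_eq_true_eq, nlt_iff, nbeq_iff, hacc, hl, hn] at hX
  simp only [chkAux2, band_eq_true, allBelow_iff, decide_eq_true_eq, nbeq_iff, hacc, hl, hn] at hX2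
  obtain ⟨h0, h1, h2, h3, h4, h5, h6, h7, h8⟩ := hR
  have hw : ∀ i < D.rank, ∀ s < D.nroots, X.w i s = D.reflectRoot i s := fun i hi s hs => (hX i hi s hs).1
  exact
  { wf := hD.wf
    rank_pos := h0.1
    even := h0.2
    neg_eq := fun r hr => by
      have : D.neg r = P.acc.neg r := by rw [hacc]; rfl
      rw [this]
      simp only [Packed.acc]
      rw [(nlt_iff _ _).mpr (hn ▸ hr), bite_true, hn]; rfl
    coroot_size := fun r hr => by
      have := (allBelow_iff _ _).mp hD.bridge.sH' r (hn ▸ hr)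
      rw [nbeq_iff] at this
      rw [this, hl]
    ent_add := fun r hr s hs k e he => by
      have h := (allBelow_iff _ _).mp (hE r (hn ▸ hr)) s (hn ▸ hs)
      rw [hacc] at h
      have := entOK_spec P.n P.l R r s _ 1 h k e he
      rw [hn, hl, Nat.add_comm 1 k] at this
      exact this
    rc_neg := h1
    ht_mono := h2
    cartan_lin := h3
    H_sign := h4
    simple_lt := fun i hi => (h5 i hi).1
    rc_simple := fun i hi j hj => ((h5 i hi).2 j hj).1
    H_simple := fun i hi j hj => ((h5 i hi).2 j hj).2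
    refl_lt := fun i hi s hs => hw i hi s hs ▸ (hX i hi s hs).2.1
    rc_refl := fun i hi s hs j hj => hw i hi s hs ▸ h6 i hi s hs j hj
    other_coord := fun i hi s hs h1 h2 => by
      obtain ⟨j, hj, h⟩ := h7 i hi s hs h1 h2
      exact ⟨j, hj, h⟩
    rc_sign := h8
    eta_sq := fun i hi s hs => (hX i hi s hs).2.2
    refl_refl := fun i hi s hs => by
      have := (hX2 i hi s hs).1
      rwa [hw i hi s hs, hw i hi _ (hw i hi s hs ▸ (hX i hi s hs).2.1)] at this
    refl_neg := fun i hi s hs => by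
      have : X.w i (D.neg s) = D.neg (X.w i s) := (hX2 i hi s hs).2.1
      rwa [hw i hi s hs, hw i hi _ (hD.wf.neg_lt s hs)] at this
    eta_neg := fun i hi s hs => (hX2 i hi s hs).2.2 }

/-- assembling `Good` from the checks -/
def Good.ofChk {D : ChevalleyDatum} {P : Packed} (hD : Fast D P) (X : NAux) (R : RAux)
    (hX : chkAux P X = true) (hX2 : chkAux2 P X = true)
    (hE : ∀ r < P.n, chkEnt P R r = true) (hR : chkRoot P X R = true) : Good D :=
  ⟨R.rc, X.eta, GoodP.ofChk hD X R hX hX2 hE hR⟩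

namespace Good
variable {D : ChevalleyDatum} (G : Good D)
include G
theorem wf : WF D := G.prop.wf
theorem rank_pos : 0 < D.rank := G.prop.rank_pos
theorem even : D.nroots = 2 * (D.nroots / 2) := G.prop.even
theorem neg_eq : ∀ r < D.nroots, D.neg r = D.nroots - 1 - r := G.prop.neg_eq
theorem coroot_size : ∀ r < D.nroots, (D.coroot.getD r #[]).size = D.rank := G.prop.coroot_size
theorem ent_add : ∀ r < D.nroots, ∀ s < D.nroots, ∀ (k : ℕ) (e : ℕ × ℤ), (D.chainEntry r s)[k]? = some e →
    e.1 < D.nroots ∧ ∀ j < D.rank, G.rc e.1 j = G.rc s j + ((k + 1 : ℕ) : ℤ) * G.rc r j := G.prop.ent_add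
theorem rc_neg : ∀ r < D.nroots, ∀ j < D.rank, G.rc (D.neg r) j = - G.rc r j := G.prop.rc_neg
theorem ht_mono : ∀ r < D.nroots - 1,
    isum (fun j => Int.mul (G.rc r j) (wgt D.rank j)) D.rank <
      isum (fun j => Int.mul (G.rc (r + 1) j) (wgt D.rank j)) D.rank := G.prop.ht_mono
theorem cartan_lin : ∀ i < D.rank, ∀ s < D.nroots,
    D.cartan i s = isum (fun j => G.rc s j * D.cartan i (D.simple j)) D.rank := G.prop.cartan_lin
theorem H_sign : ∀ r < D.nroots, ∀ i < D.rank, ((D.coroot.getD r #[]).getD i 0 = 0 ↔ G.rc r i = 0) ∧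
    (0 < (D.coroot.getD r #[]).getD i 0 ↔ 0 < G.rc r i) := G.prop.H_sign
theorem simple_lt : ∀ i < D.rank, D.simple i < D.nroots := G.prop.simple_lt
theorem rc_simple : ∀ i < D.rank, ∀ j < D.rank, G.rc (D.simple i) j = if i = j then 1 else 0 := G.prop.rc_simple
theorem H_simple : ∀ i < D.rank, ∀ j < D.rank,
    (D.coroot.getD (D.simple i) #[]).getD j 0 = if i = j then 1 else 0 := G.prop.H_simple
theorem refl_lt : ∀ i < D.rank, ∀ s < D.nroots, D.reflectRoot i s < D.nroots := G.prop.refl_lt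
theorem rc_refl : ∀ i < D.rank, ∀ s < D.nroots, ∀ j < D.rank,
    G.rc (D.reflectRoot i s) j = G.rc s j - if i = j then D.cartan i s else 0 := G.prop.rc_refl
theorem other_coord : ∀ i < D.rank, ∀ s < D.nroots, D.nroots / 2 ≤ s → s ≠ D.simple i →
    ∃ j < D.rank, j ≠ i ∧ 0 < G.rc s j := G.prop.other_coord
theorem rc_sign : ∀ r < D.nroots, ∀ j < D.rank,
    (D.nroots / 2 ≤ r → 0 ≤ G.rc r j) ∧ (r < D.nroots / 2 → G.rc r j ≤ 0) := G.prop.rc_sign
theorem eta_sq : ∀ i < D.rank, ∀ s < D.nroots, G.eta i s = 1 ∨ G.eta i s = -1 := G.prop.eta_sq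
theorem refl_refl : ∀ i < D.rank, ∀ s < D.nroots, D.reflectRoot i (D.reflectRoot i s) = s := G.prop.refl_refl
theorem refl_neg : ∀ i < D.rank, ∀ s < D.nroots, D.reflectRoot i (D.neg s) = D.neg (D.reflectRoot i s) :=
  G.prop.refl_neg
theorem eta_neg : ∀ i < D.rank, ∀ s < D.nroots, G.eta i s * G.eta i (D.neg s) = 1 := G.prop.eta_neg
end Good

end Cfsg.Agent.Chev
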