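import Cfsg.Agent.Chev.Thy1

/-!
# The basic relations, packaged
-/

set_option autoImplicit false
set_option linter.unusedSectionVars false
set_option linter.unusedVariables false

namespace Cfsg.Agent.Chev
open Cfsg.Lie

variable {D : ChevalleyDatum}

/-- the pairing `⟨r, s⟩ = 2 (r, s) / (r, r)` -/
def pairing (D : ChevalleyDatum) (r s : ℕ) : ℤ :=
  ∑ i ∈ Finset.range D.rank, (D.coroot.getD r #[]).getD i 0 * D.cartan i s

theorem pairing_eq (D : ChevalleyDatum) (r s : ℕ) : pairing D r s = (acc D).pair r s := by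
  unfold pairing Acc.pair
  rw [isum_eq]; rfl

noncomputable def chkPair1 (P : Packed) (pr : ℕ → ℕ → ℤ) (r : ℕ) : Bool :=
  allBelow (fun s => decide (pr r s = P.acc.pair r s)) P.n

theorem Good.cartan_eq_lin (G : Good D) (i : ℕ) (hi : i < D.rank) (s : ℕ) (hs : s < D.nroots) :
    D.cartan i s = G.lin (fun j => D.cartan i (D.simple j)) s := by
  rw [G.cartan_lin i hi s hs, isum_eq]; rfl

theorem Good.cartan_addFn (G : Good D) (i : ℕ) (hi : i < D.rank) : AddFn D (D.cartan i) where
  neg := fun r hr => by
    rw [G.cartan_eq_lin i hi _ (G.neg_lt hr), G.cartan_eq_lin i hi r hr]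
    exact (G.lin_addFn _).neg r hr
  ent := fun r hr s hs k e he => by
    rw [G.cartan_eq_lin i hi _ (G.ent_add r hr s hs k e he).1, G.cartan_eq_lin i hi r hr, G.cartan_eq_lin i hi s hs]
    exact (G.lin_addFn _).ent r hr s hs k e he

theorem Good.pairing_addFn (G : Good D) (r : ℕ) : AddFn D (pairing D r) where
  neg := fun s hs => by
    unfold pairing
    rw [← Finset.sum_neg_distrib]
    apply Finset.sum_congr rfl
    intro i hi
    rw [(G.cartan_addFn i (Finset.mem_range.mp hi)).neg s hs]; ring
  ent := fun r' hr s hs k e he => by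
    unfold pairing
    rw [Finset.mul_sum, ← Finset.sum_add_distrib]
    apply Finset.sum_congr rfl
    intro i hi
    rw [(G.cartan_addFn i (Finset.mem_range.mp hi)).ent r' hr s hs k e he]; ring

theorem Good.pairing_simple (G : Good D) (i : ℕ) (hi : i < D.rank) (s : ℕ) :
    pairing D (D.simple i) s = D.cartan i s := by
  unfold pairing
  rw [Finset.sum_eq_single i]
  · rw [G.H_simple i hi i hi, if_pos rfl, one_mul]
  · intro j hj hji
    rw [G.H_simple i hi j (Finset.mem_range.mp hj), if_neg (fun h => hji h.symm), zero_mul]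
  · intro h; exact absurd (Finset.mem_range.mpr hi) h

/-- the basic relations over a field -/
structure Rels (D : ChevalleyDatum) (G : Good D) (F : Type*) [Field F] : Prop where
  add : ∀ r < D.nroots, ∀ t u : F, D.x F r t * D.x F r u = D.x F r (t + u)
  comm : ∀ r s, r < D.nroots → s < D.nroots → s ≠ r → s ≠ D.neg r → CommRel D F r s
  nmat : ∀ i < D.rank, D.nMat F (D.simple i) 1 =
    monoMat D.rank D.nroots F i (fun j => D.cartan j (D.simple i)) (D.reflectRoot i) (G.eta i)
  nconj : ∀ i < D.rank, ∀ s < D.nroots, ∀ t : F, D.nMat F (D.simple i) 1 * D.x F s t =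
    D.x F (D.reflectRoot i s) ((G.eta i s : F) * t) * D.nMat F (D.simple i) 1
  hmat : ∀ r < D.nroots, ∀ c : F, c ≠ 0 → D.hMat F r c = Matrix.diagonal (fun a => c ^ wtI D (pairing D r) a)

theorem Rels.ofChk {F : Type*} [Field F] {P : Packed} (hD : Fast D P) (X : NAux) (R : RAux) (pr : ℕ → ℕ → ℤ)
    (hX : chkAux P X = true) (hX2 : chkAux2 P X = true)
    (hE : ∀ r < P.n, chkEnt P R r = true) (hR : chkRoot P X R = true)
    (hadd : chkAdd P = true) (hH : chkH P pr = true) (hP : ∀ r < P.n, chkPair1 P pr r = true)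
    (hN : chkN P X = true) (hC : ∀ i < P.l, chkConj P X i = true)
    (hcomm : ∀ r s, r < D.nroots → s < D.nroots → s ≠ r → s ≠ D.neg r → CommRel D F r s) :
    Rels D (Good.ofChk hD X R hX hX2 hE hR) F := by
  have hl : P.l = D.rank := hD.bridge.rank.symm
  have hn : P.n = D.nroots := hD.bridge.nroots.symm
  have hacc : P.acc = acc D := hD.bridge.acc_eq.symm
  have hX' := hX
  simp only [chkAux, band_eq_true, allBelow_iff, decide_eq_true_eq, nlt_iff, nbeq_iff, hacc, hl, hn] at hX'
  have hw : ∀ i < D.rank, ∀ s < D.nroots, X.w i s = D.reflectRoot i s := fun i hi s hs => (hX' i hi s hs).1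
  have hnm : ∀ i < D.rank, D.nMat F (D.simple i) 1 =
      monoMat D.rank D.nroots F i (fun j => D.cartan j (D.simple i)) (D.reflectRoot i) (X.eta i) := by
    intro i hi
    rw [nMat_of_chk hD hN i hi]
    unfold nExp monoMat
    ext row col
    rcases row with a | a <;> rcases col with b | b <;> simp only [Matrix.of_apply]
    rw [hw i hi b b.2]
  refine ⟨x_add_of_chk hD hadd, hcomm, hnm, ?_, ?_⟩
  · intro i hi s hs t
    have := conj_of_chk (F := F) hD hX i hi (hC i (by rw [hl]; exact hi)) s hs t
    rw [← nMat_of_chk hD hN i hi, hw i hi s hs] at this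
    exact this
  · intro r hr c hc
    rw [hMat_of_chk hD hH r hr c hc]
    congr 1
    funext a
    congr 1
    rcases a with i | s
    · simp only [chi, code, wtI, Sum.elim_inl]
      rw [(nlt_iff _ _).mpr i.2, bite_true]
    · simp only [chi, code, wtI, Sum.elim_inr]
      rw [(nlt_false_iff _ _).mpr (by omega), bite_false]
      have := (allBelow_iff _ _).mp (hP r (by rw [hn]; exact hr)) s (by rw [hn]; exact s.2)
      rw [decide_eq_true_eq, hacc] at this
      rw [pairing_eq, ← this]
      congr 1
      simp only [Nat.sub_eq]; omega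

end Cfsg.Agent.Chev
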