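import Cfsg.Agent.Chev.Chk.G2Fin
import Cfsg.Agent.Chev.Chk.B2Fin
import Cfsg.Agent.Chev.Chk.D4Fin
import Cfsg.Agent.Chev.Chk.F4Fin
import Cfsg.Agent.Chev.Chk.E6Fin
import Cfsg.Agent.Chev.Chk.E7Fin
import Cfsg.Agent.Chev.Chk.E8Fin

/-!
# All seven types satisfy the basic relations
-/

set_option autoImplicit false

namespace Cfsg.Agent.Chev
open Cfsg.Lie

universe u

theorem exists_good {D : ChevalleyDatum}
    (hD : D ∈ [chevG2, chevB2, chevD4, chevF4, chevE6, chevE7, chevE8]) :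
    ∃ G : Good D, ∀ (F : Type u) [Field F], Rels D G F := by
  simp only [List.mem_cons, List.not_mem_nil, or_false] at hD
  rcases hD with rfl | rfl | rfl | rfl | rfl | rfl | rfl
  · exact ⟨goodG2, fun F _ => relsG2 F⟩
  · exact ⟨goodB2, fun F _ => relsB2 F⟩
  · exact ⟨goodD4, fun F _ => relsD4 F⟩
  · exact ⟨goodF4, fun F _ => relsF4 F⟩
  · exact ⟨goodE6, fun F _ => relsE6 F⟩
  · exact ⟨goodE7, fun F _ => relsE7 F⟩
  · exact ⟨goodE8, fun F _ => relsE8 F⟩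

end Cfsg.Agent.Chev
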