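import Cfsg.Agent.Chev.Root

/-!
# More tables: paths to the fundamental roots, the longest element, Bezout coefficients of the coroots
-/

set_option autoImplicit false

namespace Cfsg.Agent.Chev
open Cfsg.Lie

/-- auxiliary tables -/
structure SAux where
  nxt : ℕ → ℕ
  dep : ℕ → ℕ
  bz : ℕ → ℕ → ℤ
  w0 : List ℕ

/-- apply a word in the fundamental reflections to a root -/
noncomputable def appW (w : ℕ → ℕ → ℕ) (L : List ℕ) (s : ℕ) : ℕ :=
  List.rec (motive := fun _ => ℕ) s (fun i _ ih => w i ih) L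

theorem appW_eq (w : ℕ → ℕ → ℕ) (L : List ℕ) (s : ℕ) : appW w L s = L.foldr w s := by
  induction L with
  | nil => rfl
  | cons i L ih =>
    have : appW w (i :: L) s = w i (appW w L s) := rfl
    rw [this, ih]; rfl

noncomputable def chkS (P : Packed) (X : NAux) (Y : SAux) : Bool :=
  band (allBelow (fun r => band (nlt (Y.nxt r) P.l) (Bool.rec
      (nlt (Y.dep (X.w (Y.nxt r) r)) (Y.dep r)) (Nat.beq r (P.acc.simple (Y.nxt r))) (Nat.beq (Y.dep r) 0))) P.n)
  (band (allBelow (fun r => decide (isum (fun i => Y.bz r i * P.acc.H r i) P.l = 1)) P.n)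
  (band (kall (fun i => nlt i P.l) Y.w0)
  (allBelow (fun s => nlt (appW X.w Y.w0 (Nat.add (P.n / 2) s)) (P.n / 2)) (P.n / 2))))

/-- consequences of the tables -/
structure Good2 (D : ChevalleyDatum) : Prop where
  root_ind : ∀ p : ℕ → Prop, (∀ i < D.rank, p (D.simple i)) →
    (∀ i < D.rank, ∀ s < D.nroots, p s → p (D.reflectRoot i s)) → ∀ r < D.nroots, p r
  bezout : ∀ r < D.nroots, ∃ b : ℕ → ℤ, ∑ i ∈ Finset.range D.rank, b i * (D.coroot.getD r #[]).getD i 0 = 1
  w0 : ∃ L : List ℕ, (∀ i ∈ L, i < D.rank) ∧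
    ∀ s, D.nroots / 2 ≤ s → s < D.nroots → L.foldr D.reflectRoot s < D.nroots / 2

theorem Good2.ofChk {D : ChevalleyDatum} {P : Packed} (hD : Fast D P) (X : NAux) (Y : SAux) (G : Good D)
    (hX : chkAux P X = true) (hS : chkS P X Y = true) : Good2 D := by
  have hl : P.l = D.rank := hD.bridge.rank.symm
  have hn : P.n = D.nroots := hD.bridge.nroots.symm
  have hacc : P.acc = acc D := hD.bridge.acc_eq.symm
  simp only [chkAux, band_eq_true, allBelow_iff, decide_eq_true_eq, nlt_iff, nbeq_iff, hacc, hl, hn] at hX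
  simp only [chkS, band_eq_true, allBelow_iff, decide_eq_true_eq, nlt_iff, kall_iff, hacc, hl, hn] at hS
  have hw : ∀ i < D.rank, ∀ s < D.nroots, X.w i s = D.reflectRoot i s := fun i hi s hs => (hX i hi s hs).1
  obtain ⟨h1, h2, h3, h4⟩ := hS
  refine ⟨?_, ?_, ?_⟩
  · intro p hp1 hp2
    have key : ∀ d r, r < D.nroots → Y.dep r = d → p r := by
      intro d
      induction d using Nat.strong_induction_on with
      | _ d ih =>
        intro r hr hd
        obtain ⟨ha, hb⟩ := h1 r hr
        cases hc : Nat.beq (Y.dep r) 0 with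
        | true =>
          rw [hc] at hb
          have hb : r = D.simple (Y.nxt r) := (nbeq_iff _ _).mp hb
          rw [hb]; exact hp1 _ ha
        | false =>
          rw [hc] at hb
          have hb : Y.dep (X.w (Y.nxt r) r) < Y.dep r := (nlt_iff _ _).mp hb
          rw [hw _ ha r hr] at hb
          have h5 := ih _ (hd ▸ hb) _ (G.refl_lt _ ha r hr) rfl
          have h6 := hp2 _ ha _ (G.refl_lt _ ha r hr) h5
          rwa [G.refl_refl _ ha r hr] at h6
    exact fun r hr => key _ r hr rfl
  · intro r hr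
    refine ⟨Y.bz r, ?_⟩
    have := h2 r hr
    rw [isum_eq] at this
    exact this
  · refine ⟨Y.w0, h3, ?_⟩
    intro s hs1 hs2
    have h5 := h4 (s - D.nroots / 2) (by have := G.even; omega)
    rw [show Nat.add (D.nroots / 2) (s - D.nroots / 2) = s by simp only [Nat.add_eq]; omega, appW_eq] at h5
    have key : ∀ L : List ℕ, (∀ i ∈ L, i < D.rank) →
        L.foldr X.w s = L.foldr D.reflectRoot s ∧ L.foldr D.reflectRoot s < D.nroots := by
      intro L
      induction L with
      | nil => intro _; exact ⟨rfl, hs2⟩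
      | cons i L ih =>
        intro hL
        obtain ⟨e1, e2⟩ := ih (fun j hj => hL j (List.mem_cons_of_mem _ hj))
        have hi := hL i List.mem_cons_self
        simp only [List.foldr_cons]
        rw [e1, hw i hi _ e2]
        exact ⟨rfl, G.refl_lt i hi _ e2⟩
    rw [(key Y.w0 h3).1] at h5
    exact h5

end Cfsg.Agent.Chev
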