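import Cfsg.Agent.Chev.Acc

/-!
# Packed tables with O(1) kernel lookups, and the bridge to the official tables
-/

set_option autoImplicit false

namespace Cfsg.Agent.Chev
open Cfsg.Lie

/-- packed tables -/
structure Packed where
  l : ℕ
  n : ℕ
  /-- bits per chain record -/
  w : ℕ
  /-- `2^w - 1` -/
  mask : ℕ
  tS : ℕ
  tA : ℕ
  tH : ℕ
  tE : ℕ
  /-- `l + n` -/
  m : ℕ
  /-- column descriptors -/
  tC : ℕ
  /-- row mask `2^(w*n) - 1` of `tE` -/
  rE : ℕ
  /-- row mask `2^(w*m) - 1` of `tC` -/
  rC : ℕ

/-- decode one 12-bit slot of a chain record -/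
noncomputable def dec1 (x : ℕ) (rest : List (ℕ × ℤ)) : List (ℕ × ℤ) :=
  bite (Nat.beq x 0) []
    ((Nat.sub (Nat.land x 255) 1, Int.subNatNat (Nat.land (Nat.shiftRight x 8) 15) 8) :: rest)

noncomputable def decRec (x : ℕ) : List (ℕ × ℤ) :=
  dec1 x (dec1 (Nat.shiftRight x 12) (dec1 (Nat.shiftRight x 24) []))

/-- `a < b` as a kernel friendly Boolean -/
def nlt (a b : ℕ) : Bool := Nat.ble (Nat.succ a) b

theorem nlt_iff (a b : ℕ) : nlt a b = true ↔ a < b := by
  unfold nlt; rw [Nat.ble_eq]; exact Iff.rfl

theorem nlt_false_iff (a b : ℕ) : nlt a b = false ↔ ¬ a < b := by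
  rw [← nlt_iff]; simp

noncomputable def Packed.acc (P : Packed) : Acc where
  l := P.l
  n := P.n
  simple := fun i => bite (nlt i P.l) (Nat.land (Nat.shiftRight P.tS (Nat.mul 8 i)) 255) 0
  neg := fun r => bite (nlt r P.n) (Nat.sub (Nat.sub P.n 1) r) 0
  A := fun i r => bite (nlt i P.l) (bite (nlt r P.n)
    (Int.subNatNat (Nat.land (Nat.shiftRight P.tA (Nat.mul 4 (Nat.add (Nat.mul i P.n) r))) 15) 8) 0) 0
  H := fun r i => bite (nlt r P.n) (bite (nlt i P.l)
    (Int.subNatNat (Nat.land (Nat.shiftRight P.tH (Nat.mul 4 (Nat.add (Nat.mul r P.l) i))) 15) 8) 0) 0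
  ent := fun r s => bite (nlt r P.n) (bite (nlt s P.n)
    (decRec (Nat.land (Nat.shiftRight (Nat.land (Nat.shiftRight P.tE (Nat.mul (Nat.mul P.w P.n) r)) P.rE)
      (Nat.mul P.w s)) P.mask)) []) []

/-! ### checks on the official tables -/

/-- first components are strictly increasing, `≥ lo` and `< hi` -/
def sortedFst (hi : ℕ) : ℕ → List (ℕ × Array (ℕ × ℤ)) → Bool
  | _, [] => true
  | lo, e :: L => Nat.ble lo e.1 && nlt e.1 hi && sortedFst hi (e.1 + 1) L

theorem sortedFst_mem {hi lo : ℕ} {L : List (ℕ × Array (ℕ × ℤ))} (h : sortedFst hi lo L = true) :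
    ∀ e ∈ L, lo ≤ e.1 ∧ e.1 < hi := by
  induction L generalizing lo with
  | nil => simp
  | cons e L ih =>
    simp only [sortedFst, Bool.and_eq_true, Nat.ble_eq, nlt_iff] at h
    intro e' he'
    rcases List.mem_cons.mp he' with rfl | h1
    · exact ⟨h.1.1, h.1.2⟩
    · have := ih h.2 e' h1
      exact ⟨by omega, this.2⟩

theorem filter_flatMap_eq_find {β : Type} {hi lo : ℕ} {L : List (ℕ × Array (ℕ × ℤ))}
    (h : sortedFst hi lo L = true) (s : ℕ) (g : ℕ × Array (ℕ × ℤ) → List β) :
    (L.filter (fun e => e.1 = s)).flatMap g =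
      match L.find? (fun e => e.1 = s) with
      | none => []
      | some e => g e := by
  induction L generalizing lo with
  | nil => simp
  | cons e L ih =>
    have h' := h
    simp only [sortedFst, Bool.and_eq_true, Nat.ble_eq, nlt_iff] at h
    by_cases h1 : e.1 = s
    · have h2 : L.filter (fun e => e.1 = s) = [] := by
        rw [List.filter_eq_nil_iff]
        intro e' he'
        have := (sortedFst_mem h.2 e' he').1
        simp; omega
      simp [h1, h2]
    · simp only [List.filter_cons, List.find?_cons, h1, decide_false]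
      exact ih h.2

/-- `f s = []` for `lo ≤ s < hi` -/
noncomputable def gapEmpty (f : ℕ → List (ℕ × ℤ)) (lo hi : ℕ) : Bool :=
  allBelow (fun k => List.isEmpty (f (Nat.add lo k))) (Nat.sub hi lo)

theorem gapEmpty_spec {f : ℕ → List (ℕ × ℤ)} {lo hi : ℕ} (h : gapEmpty f lo hi = true) (s : ℕ)
    (h1 : lo ≤ s) (h2 : s < hi) : f s = [] := by
  have := (allBelow_iff _ _).mp h (s - lo) (by simp only [Nat.sub_eq]; omega)
  simp only [Nat.add_eq, List.isEmpty_iff] at this
  rwa [show lo + (s - lo) = s by omega] at this

/-- the official row `L` agrees with the function `f` on `[lo, hi)` -/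
noncomputable def rowOK (f : ℕ → List (ℕ × ℤ)) (hi : ℕ) : ℕ → List (ℕ × Array (ℕ × ℤ)) → Bool
  | lo, [] => gapEmpty f lo hi
  | lo, e :: L => gapEmpty f lo e.1 && decide (e.2.toList = f e.1) && rowOK f hi (e.1 + 1) L

theorem rowOK_spec {f : ℕ → List (ℕ × ℤ)} {hi lo : ℕ} {L : List (ℕ × Array (ℕ × ℤ))}
    (hs : sortedFst hi lo L = true) (h : rowOK f hi lo L = true) (s : ℕ) (h1 : lo ≤ s) (h2 : s < hi) :
    (match L.find? (fun e => e.1 = s) with
      | none => []
      | some e => e.2.toList) = f s := by
  induction L generalizing lo with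
  | nil => simp only [List.find?_nil]; exact (gapEmpty_spec h s h1 h2).symm
  | cons e L ih =>
    simp only [rowOK, Bool.and_eq_true, decide_eq_true_eq] at h
    simp only [sortedFst, Bool.and_eq_true, Nat.ble_eq, nlt_iff] at hs
    rcases Nat.lt_trichotomy s e.1 with h3 | h3 | h3
    · have h4 : (e :: L).find? (fun e => e.1 = s) = none := by
        rw [List.find?_eq_none]
        intro e' he'
        rcases List.mem_cons.mp he' with rfl | h5
        · simp; omega
        · have := (sortedFst_mem hs.2 e' h5).1
          simp; omega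
      rw [h4]
      exact (gapEmpty_spec h.1.1 s h1 h3).symm
    · simp only [List.find?_cons, h3.symm, decide_true]
      rw [h3]; exact h.1.2
    · have : ¬ (e.1 = s) := by omega
      simp only [List.find?_cons, this, decide_false]
      exact ih hs.2 h.2 (by omega)

/-- row check of the chain table -/
noncomputable def eEf (D : ChevalleyDatum) (P : Packed) (r : ℕ) : Bool :=
  rowOK (P.acc.ent r) P.n 0 (D.chain.getD r #[]).toList

/-- all the checks linking the official tables of `D` to the packed tables `P` -/
structure Bridge (D : ChevalleyDatum) (P : Packed) : Prop where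
  rank : D.rank = P.l
  nroots : D.nroots = P.n
  sS : D.simpleIdx.size = P.l
  sN : D.negIdx.size = P.n
  sA : D.cartanSR.size = P.l
  sA' : allBelow (fun i => Nat.beq (D.cartanSR.getD i #[]).size P.n) P.l = true
  sH : D.coroot.size = P.n
  sH' : allBelow (fun r => Nat.beq (D.coroot.getD r #[]).size P.l) P.n = true
  sE : D.chain.size = P.n
  sE' : allBelow (fun r => sortedFst P.n 0 (D.chain.getD r #[]).toList) P.n = true
  eS : allBelow (fun i => Nat.beq (D.simple i) (P.acc.simple i)) P.l = true
  eN : allBelow (fun r => Nat.beq (D.neg r) (P.acc.neg r)) P.n = true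
  eA : allBelow (fun i => allBelow (fun r => decide (D.cartan i r = P.acc.A i r)) P.n) P.l = true
  eH : allBelow (fun r => allBelow (fun i => decide ((D.coroot.getD r #[]).getD i 0 = P.acc.H r i)) P.l) P.n = true
  eE : ∀ r < P.n, eEf D P r = true

theorem getD_oor {α : Type} (a : Array α) (i : ℕ) (d : α) (h : a.size ≤ i) : a.getD i d = d := by
  simp [Array.getD, not_lt.mpr h]

theorem Bridge.sorted {D : ChevalleyDatum} {P : Packed} (h : Bridge D P) (r : ℕ) :
    sortedFst P.n 0 (D.chain.getD r #[]).toList = true := by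
  by_cases hr : r < P.n
  · exact (allBelow_iff _ _).mp h.sE' r hr
  · rw [getD_oor _ _ _ (by rw [h.sE]; omega)]; rfl

theorem Bridge.chainEntry_oor {D : ChevalleyDatum} {P : Packed} (h : Bridge D P) (r s : ℕ)
    (hs : P.n ≤ s) : D.chainEntry r s = [] := by
  unfold ChevalleyDatum.chainEntry
  have : (D.chain.getD r #[]).toList.find? (fun e => e.1 = s) = none := by
    rw [List.find?_eq_none]
    intro e he
    have := (sortedFst_mem (h.sorted r) e he).2
    simp; omega
  rw [this]

theorem Bridge.acc_eq {D : ChevalleyDatum} {P : Packed} (h : Bridge D P) : acc D = P.acc := by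
  have e1 : ∀ i, D.simple i = P.acc.simple i := by
    intro i
    by_cases hi : i < P.l
    · exact (nbeq_iff _ _).mp ((allBelow_iff _ _).mp h.eS i hi)
    · have : P.acc.simple i = 0 := by
        simp only [Packed.acc, (nlt_false_iff _ _).mpr hi, bite_false]
      rw [this]
      exact getD_oor _ _ _ (by rw [h.sS]; omega)
  have e2 : ∀ r, D.neg r = P.acc.neg r := by
    intro i
    by_cases hi : i < P.n
    · exact (nbeq_iff _ _).mp ((allBelow_iff _ _).mp h.eN i hi)
    · have : P.acc.neg i = 0 := by
        simp only [Packed.acc, (nlt_false_iff _ _).mpr hi, bite_false]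
      rw [this]
      exact getD_oor _ _ _ (by rw [h.sN]; omega)
  have e3 : ∀ i r, D.cartan i r = P.acc.A i r := by
    intro i r
    by_cases hi : i < P.l
    · by_cases hr : r < P.n
      · exact of_decide_eq_true ((allBelow_iff _ _).mp ((allBelow_iff _ _).mp h.eA i hi) r hr)
      · have : P.acc.A i r = 0 := by
          simp only [Packed.acc, (nlt_false_iff _ _).mpr hr, (nlt_iff _ _).mpr hi, bite_false, bite_true]
        rw [this]
        have hs := (nbeq_iff _ _).mp ((allBelow_iff _ _).mp h.sA' i hi)
        exact getD_oor _ _ _ (by rw [hs]; omega)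
    · have : P.acc.A i r = 0 := by
        simp only [Packed.acc, (nlt_false_iff _ _).mpr hi, bite_false]
      rw [this]
      unfold ChevalleyDatum.cartan
      rw [getD_oor _ i _ (by rw [h.sA]; omega)]
      rfl
  have e4 : ∀ r i, (D.coroot.getD r #[]).getD i 0 = P.acc.H r i := by
    intro r i
    by_cases hr : r < P.n
    · by_cases hi : i < P.l
      · exact of_decide_eq_true ((allBelow_iff _ _).mp ((allBelow_iff _ _).mp h.eH r hr) i hi)
      · have : P.acc.H r i = 0 := by
          simp only [Packed.acc, (nlt_false_iff _ _).mpr hi, (nlt_iff _ _).mpr hr, bite_false, bite_true]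
        rw [this]
        have hs := (nbeq_iff _ _).mp ((allBelow_iff _ _).mp h.sH' r hr)
        exact getD_oor _ _ _ (by rw [hs]; omega)
    · have : P.acc.H r i = 0 := by
        simp only [Packed.acc, (nlt_false_iff _ _).mpr hr, bite_false]
      rw [this]
      rw [getD_oor _ r _ (by rw [h.sH]; omega)]
      rfl
  have e5 : ∀ r s, D.chainEntry r s = P.acc.ent r s := by
    intro r s
    by_cases hr : r < P.n
    · by_cases hs : s < P.n
      · exact rowOK_spec (h.sorted r) (h.eE r hr) s (Nat.zero_le _) hs
      · have : P.acc.ent r s = [] := by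
          simp only [Packed.acc, (nlt_false_iff _ _).mpr hs, (nlt_iff _ _).mpr hr, bite_false, bite_true]
        rw [this]
        exact h.chainEntry_oor r s (by omega)
    · have : P.acc.ent r s = [] := by
        simp only [Packed.acc, (nlt_false_iff _ _).mpr hr, bite_false]
      rw [this]
      unfold ChevalleyDatum.chainEntry
      rw [getD_oor _ r _ (by rw [h.sE]; omega)]
      rfl
  unfold acc
  have f1 : D.simple = P.acc.simple := funext e1
  have f2 : D.neg = P.acc.neg := funext e2
  have f3 : D.cartan = P.acc.A := funext fun i => funext (e3 i)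
  have f4 : (fun r i => (D.coroot.getD r #[]).getD i 0) = P.acc.H := funext fun r => funext (e4 r)
  have f5 : D.chainEntry = P.acc.ent := funext fun r => funext (e5 r)
  rw [f1, f2, f3, f4, f5, h.rank, h.nroots]
  rfl

theorem Bridge.wf {D : ChevalleyDatum} {P : Packed} (h : Bridge D P) : WF D where
  neg_lt := by
    intro r hr
    rw [h.nroots] at hr ⊢
    have h1 : D.neg r = P.acc.neg r := (nbeq_iff _ _).mp ((allBelow_iff _ _).mp h.eN r hr)
    rw [h1]
    simp only [Packed.acc, (nlt_iff _ _).mpr hr, bite_true, Nat.sub_eq]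
    omega
  ent_oor := by
    intro r s hs
    exact h.chainEntry_oor r s (by rw [← h.nroots]; exact hs)
  coeff := by
    intro r s u
    unfold ChevalleyDatum.chainCoeff ChevalleyDatum.chainEntry
    rw [filter_flatMap_eq_find (h.sorted r)]
    cases (D.chain.getD r #[]).toList.find? (fun e => e.1 = s) with
    | none => simp
    | some e => rfl

end Cfsg.Agent.Chev
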