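import Cfsg.Agent.Chev.Weyl
import Cfsg.Agent.Lib.Helper3.BNPair

/-!
# The sharp form of the Bruhat decomposition
-/

set_option autoImplicit false
set_option linter.unusedSectionVars false
set_option linter.unusedVariables false

namespace Cfsg.Agent.Chev
open Cfsg.Lie
open scoped MatrixGroups

variable {D : ChevalleyDatum} {G : Good D} {F : Type*} [Field F]

/-- the positive roots made negative by `σ` -/
def negP (D : ChevalleyDatum) (σ : Equiv.Perm (Fin D.nroots)) : ℕ → Prop :=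
  fun s => ∃ h : s < D.nroots, D.nroots / 2 ≤ s ∧ (σ ⟨s, h⟩ : ℕ) < D.nroots / 2

namespace Rels
variable (R : Rels D G F)
include R

/-- the monomial elements inducing an element of the Weyl group -/
def MonW : Subgroup (GL D.Idx F) where
  carrier := {g | ∃ σ ∈ G.W, R.IsMono g σ}
  one_mem' := ⟨1, Subgroup.one_mem _, IsMono.of_tor R (IsTor.one R)⟩
  mul_mem' := by
    rintro a b ⟨σ, hs, h⟩ ⟨σ', hs', h'⟩
    exact ⟨σ * σ', Subgroup.mul_mem _ hs hs', IsMono.mul R h h'⟩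
  inv_mem' := by
    rintro a ⟨σ, hs, h⟩
    exact ⟨σ⁻¹, Subgroup.inv_mem _ hs, IsMono.inv R h⟩

theorem N_mono (G2 : Good2 D) {n : GL D.Idx F} (hn : n ∈ D.monomialSubgroup F) : ∃ σ ∈ G.W, R.IsMono n σ := by
  have : D.monomialSubgroup F ≤ R.MonW := by
    rw [R.N_eq_N0 G2]
    unfold N0
    apply sup_le
    · intro g hg
      exact ⟨1, Subgroup.one_mem _, IsMono.of_tor R (R.H_le_Tor hg)⟩
    · rw [Subgroup.closure_le]
      rintro g ⟨i, hi, hg⟩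
      rw [(R.eq_wg_iff _ _).mp hg]
      exact ⟨_, G.wP_mem i hi, IsMono.ni R hi⟩
  exact this hn

theorem exists_N_of_W {σ : Equiv.Perm (Fin D.nroots)} (hσ : σ ∈ G.W) :
    ∃ n ∈ D.monomialSubgroup F, R.IsMono n σ := by
  refine G.W_ind_left (p := fun σ => ∃ n ∈ D.monomialSubgroup F, R.IsMono n σ)
    ⟨1, Subgroup.one_mem _, IsMono.of_tor R (IsTor.one R)⟩ ?_ σ hσ
  rintro i hi σ _ ⟨n, hn, h⟩
  exact ⟨R.ng (D.simple i) 1 * n, Subgroup.mul_mem _ (R.ng_mem_N (G.simple_lt i hi)) hn, IsMono.mul R (IsMono.ni R hi) h⟩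

theorem mono_conj_B (G2 : Good2 D) {n : GL D.Idx F} (hn : n ∈ D.monomialSubgroup F) {σ : Equiv.Perm (Fin D.nroots)}
    (h : R.IsMono n σ) (hpos : ∀ r : Fin D.nroots, D.nroots / 2 ≤ (r : ℕ) → D.nroots / 2 ≤ (σ r : ℕ)) :
    ∀ b ∈ D.borelSubgroup F, n * b * n⁻¹ ∈ D.borelSubgroup F := by
  intro b hb
  obtain ⟨u, hu, t, ht, rfl⟩ := exists_mul_of_mem_sup R.H_le_normalizer_U hb
  have h1 : n * u * n⁻¹ ∈ D.posUnipotent F :=
    IsMono.conj_UU R h (p := D.IsPosRoot) (q := D.IsPosRoot) (fun s hs => hs.1)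
      (fun s hs => (G.isPosRoot_iff _).mpr ⟨hpos s ((G.isPosRoot_iff _).mp hs).1, (σ s).2⟩) u hu
  have h2 : n * t * n⁻¹ ∈ D.diagonalSubgroup F :=
    (Subgroup.mem_normalizer_iff.mp (R.N_le_normalizer_H G2 hn) _).mp ht
  have e : n * (u * t) * n⁻¹ = (n * u * n⁻¹) * (n * t * n⁻¹) := by group
  rw [e]
  exact Subgroup.mul_mem _ (R.U_le_B h1) (R.H_le_B h2)

/-- a monomial element preserving the positive roots lies in `H` -/
theorem mono_mem_H (G2 : Good2 D) {n : GL D.Idx F} (hn : n ∈ D.monomialSubgroup F) {σ : Equiv.Perm (Fin D.nroots)}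
    (h : R.IsMono n σ) (hpos : ∀ r : Fin D.nroots, D.nroots / 2 ≤ (r : ℕ) → D.nroots / 2 ≤ (σ r : ℕ)) :
    n ∈ D.diagonalSubgroup F := by
  have hB := R.mono_conj_B G2 hn h hpos
  have h1 : (⟨n, R.N_le_group hn⟩ : ↥(D.group F)) ∈ (R.bnPair G2).B := by
    apply Cfsg.Agent.Lib.Helper3.BN.mem_of_conj_le (P := R.bnPair G2) (le_refl _)
    · show _ ∈ (D.monomialSubgroup F).subgroupOf (D.group F)
      rw [Subgroup.mem_subgroupOf]; exact hn
    · intro b hb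
      have hb' : (b : GL D.Idx F) ∈ D.borelSubgroup F := Subgroup.mem_subgroupOf.mp hb
      show _ ∈ (D.borelSubgroup F).subgroupOf (D.group F)
      rw [Subgroup.mem_subgroupOf]
      exact hB _ hb'
  have h2 : n ∈ D.borelSubgroup F := Subgroup.mem_subgroupOf.mp h1
  rw [← R.B_inf_N G2]
  exact ⟨h2, hn⟩

/-- an element of the Weyl group preserving the positive roots is trivial -/
theorem W_eq_one (G2 : Good2 D) {σ : Equiv.Perm (Fin D.nroots)} (hσ : σ ∈ G.W) (h : G.nn σ = 0) : σ = 1 := by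
  obtain ⟨n, hn, hm⟩ := R.exists_N_of_W hσ
  have h1 := R.mono_mem_H G2 hn hm ((G.nn_eq_zero_iff σ).mp h)
  exact IsMono.unique R hm (IsMono.of_tor R (R.H_le_Tor h1))

theorem mono_one_mem_H (G2 : Good2 D) {n : GL D.Idx F} (hn : n ∈ D.monomialSubgroup F) (h : R.IsMono n 1) :
    n ∈ D.diagonalSubgroup F := R.mono_mem_H G2 hn h (fun r hr => hr)

theorem bruhat_GL (G2 : Good2 D) {g : GL D.Idx F} (hg : g ∈ D.group F) :
    ∃ n ∈ D.monomialSubgroup F, ∃ b ∈ D.borelSubgroup F, ∃ b' ∈ D.borelSubgroup F, g = b * n * b' := by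
  obtain ⟨n, hn, h⟩ := Cfsg.Agent.Lib.Helper3.BN.bruhat (P := R.bnPair G2) ⟨g, hg⟩
  obtain ⟨b, hb, b', hb', e⟩ := Cfsg.Agent.Lib.Helper3.BN.mem_C.mp h
  exact ⟨n, Subgroup.mem_subgroupOf.mp hn, b, Subgroup.mem_subgroupOf.mp hb, b', Subgroup.mem_subgroupOf.mp hb',
    congrArg Subtype.val e⟩

theorem bruhat_unique_GL (G2 : Good2 D) {n n' b1 b2 b1' b2' : GL D.Idx F} (hn : n ∈ D.monomialSubgroup F)
    (hn' : n' ∈ D.monomialSubgroup F) (h1 : b1 ∈ D.borelSubgroup F) (h2 : b2 ∈ D.borelSubgroup F)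
    (h1' : b1' ∈ D.borelSubgroup F) (h2' : b2' ∈ D.borelSubgroup F) (e : b1 * n * b2 = b1' * n' * b2') :
    n⁻¹ * n' ∈ D.diagonalSubgroup F := by
  let P := R.bnPair G2
  let m : ↥(D.group F) := ⟨n, R.N_le_group hn⟩
  let m' : ↥(D.group F) := ⟨n', R.N_le_group hn'⟩
  have hm : m ∈ P.N := Subgroup.mem_subgroupOf.mpr hn
  have hm' : m' ∈ P.N := Subgroup.mem_subgroupOf.mpr hn'
  have hC : Cfsg.Agent.Lib.Helper3.BN.C P m = Cfsg.Agent.Lib.Helper3.BN.C P m' := by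
    apply Cfsg.Agent.Lib.Helper3.BN.C_eq_of_mem_mem (g := ⟨b1 * n * b2, Subgroup.mul_mem _ (Subgroup.mul_mem _ (R.B_le_group h1) (R.N_le_group hn)) (R.B_le_group h2)⟩)
    · exact Cfsg.Agent.Lib.Helper3.BN.mem_C.mpr ⟨⟨b1, R.B_le_group h1⟩, Subgroup.mem_subgroupOf.mpr h1,
        ⟨b2, R.B_le_group h2⟩, Subgroup.mem_subgroupOf.mpr h2, rfl⟩
    · exact Cfsg.Agent.Lib.Helper3.BN.mem_C.mpr ⟨⟨b1', R.B_le_group h1'⟩, Subgroup.mem_subgroupOf.mpr h1',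
        ⟨b2', R.B_le_group h2'⟩, Subgroup.mem_subgroupOf.mpr h2', Subtype.ext e⟩
  have h3 : m⁻¹ * m' ∈ P.B := Cfsg.Agent.Lib.Helper3.BN.rel_of_C_eq hm hm' hC
  have h4 : n⁻¹ * n' ∈ D.borelSubgroup F := Subgroup.mem_subgroupOf.mp h3
  rw [← R.B_inf_N G2]
  exact ⟨h4, Subgroup.mul_mem _ (Subgroup.inv_mem _ hn) hn'⟩

/-- `n U ⊆ B n U_w⁻` -/
theorem nU_subset (k : ℕ) : ∀ σ ∈ G.W, G.nn σ = k → ∀ n : GL D.Idx F, R.IsMono n σ → ∀ u ∈ D.posUnipotent F,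
    ∃ b ∈ D.posUnipotent F, ∃ u' ∈ UU D F (negP D σ), n * u = b * n * u' := by
  induction k with
  | zero =>
    intro σ hσ hk n hn u hu
    have hpos := (G.nn_eq_zero_iff σ).mp hk
    have h1 : n * u * n⁻¹ ∈ D.posUnipotent F :=
      IsMono.conj_UU R hn (p := D.IsPosRoot) (q := D.IsPosRoot) (fun s hs => hs.1)
        (fun s hs => (G.isPosRoot_iff _).mpr ⟨hpos s ((G.isPosRoot_iff _).mp hs).1, (σ s).2⟩) u hu
    exact ⟨_, h1, 1, Subgroup.one_mem _, by group⟩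
  | succ k ih =>
    intro σ hσ hk n hn u hu
    obtain ⟨i, hi, hneg⟩ := G.exists_simple_neg hσ (by omega)
    have hsl := G.simple_lt i hi
    have hsp := G.simple_pos hi
    have h1 := G.nn_mul_refl hσ i hi
    rw [if_pos hneg, if_neg (by omega)] at h1
    set ni := R.ng (D.simple i) 1 with hni
    have hn' : R.IsMono (n * ni⁻¹) (σ * G.wP i hi) := IsMono.mul R hn (IsMono.inv R (IsMono.ni R hi))
    rw [← R.Ui_sup hi] at hu
    obtain ⟨u1, hu1, x, hx, rfl⟩ := exists_mul_of_mem_sup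
      (R.rootSubgroup_le (fun t => R.simple_normalizes hi _ (Or.inl rfl) t)) hu
    obtain ⟨a, rfl⟩ := (R.mem_rootSubgroup _ x).mp hx
    have h2 : ni * u1 * ni⁻¹ ∈ D.posUnipotent F := UU_mono (fun s hs => hs.1) (R.ni_conj_Ui hi u1 hu1)
    obtain ⟨b, hb, u2, hu2, e⟩ := ih (σ * G.wP i hi) (Subgroup.mul_mem _ hσ (G.wP_mem i hi)) (by omega) _ hn' _ h2
    have h3 : ni⁻¹ * u2 * ni ∈ UU D F (negP D σ) := by
      have := IsMono.conj_UU R (IsMono.inv R (IsMono.ni R hi)) (p := negP D (σ * G.wP i hi)) (q := negP D σ)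
        (fun s hs => hs.1) ?_ u2 hu2
      · rwa [inv_inv] at this
      · rintro s ⟨hs1, hs2, hs3⟩
        rw [G.wP_inv]
        have hs4 : (s : ℕ) ≠ D.simple i := by
          intro e
          have e1 : (⟨(s : ℕ), hs1⟩ : Fin D.nroots) = G.sF i hi := Fin.ext e
          rw [e1, Equiv.Perm.mul_apply] at hs3
          have e2 : G.wP i hi (G.sF i hi) = G.negF (G.sF i hi) := Fin.ext (G.refl_simple i)
          rw [e2, G.W_neg hσ] at hs3
          have := G.half_le_neg hneg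
          simp only [Good.negF] at hs3
          omega
        refine ⟨(G.wP i hi s).2, (G.refl_pos hi s.2 hs2 hs4).1, ?_⟩
        exact hs3
    refine ⟨b, hb, ni⁻¹ * u2 * ni * R.xg (D.simple i) a,
      Subgroup.mul_mem _ h3 (R.xg_mem_UU (p := negP D σ) ⟨hsl, hsp, hneg⟩ a), ?_⟩
    calc n * (u1 * R.xg (D.simple i) a) = (n * ni⁻¹ * (ni * u1 * ni⁻¹)) * ni * R.xg (D.simple i) a := by group
      _ = _ := by rw [e]; group

theorem normal_form_exists (G2 : Good2 D) {g : GL D.Idx F} (hg : g ∈ D.group F) :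
    ∃ b ∈ D.borelSubgroup F, ∃ n ∈ D.monomialSubgroup F, ∃ σ ∈ G.W, R.IsMono n σ ∧
      ∃ u ∈ UU D F (negP D σ), g = b * n * u := by
  obtain ⟨n, hn, b1, hb1, b2, hb2, rfl⟩ := R.bruhat_GL G2 hg
  obtain ⟨u, hu, h, hh, rfl⟩ := exists_mul_of_mem_sup R.H_le_normalizer_U hb2
  obtain ⟨σ, hσ, hm⟩ := R.N_mono G2 hn
  obtain ⟨b, hb, u', hu', e⟩ := R.nU_subset _ σ hσ rfl n hm u hu
  have hT := IsMono.of_tor R (R.H_le_Tor hh)
  have hm' : R.IsMono (n * h) σ := by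
    have := IsMono.mul R hm hT
    rwa [mul_one] at this
  have h1 : h⁻¹ * u' * h ∈ UU D F (negP D σ) := by
    have := IsMono.conj_UU R (IsMono.inv R hT) (p := negP D σ) (q := negP D σ) (fun s hs => hs.1)
      (fun s hs => by simpa using hs) u' hu'
    rwa [inv_inv] at this
  refine ⟨b1 * b, Subgroup.mul_mem _ hb1 (R.U_le_B hb), n * h, Subgroup.mul_mem _ hn (R.H_le_N hh), σ, hσ, hm',
    _, h1, ?_⟩
  calc b1 * n * (u * h) = b1 * (n * u) * h := by group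
    _ = _ := by rw [e]; group

theorem normal_form_unique {b b' n u u' : GL D.Idx F} {σ : Equiv.Perm (Fin D.nroots)}
    (hb : b ∈ D.borelSubgroup F) (hb' : b' ∈ D.borelSubgroup F) (hm : R.IsMono n σ)
    (hu : u ∈ UU D F (negP D σ)) (hu' : u' ∈ UU D F (negP D σ)) (e : b * n * u = b' * n * u') : b = b' ∧ u = u' := by
  have h1 : n * (u * u'⁻¹) * n⁻¹ ∈ D.negUnipotent F :=
    IsMono.conj_UU R hm (p := negP D σ) (q := D.IsNegRoot) (fun s hs => hs.1)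
      (fun s hs => (G.isNegRoot_iff _).mpr hs.2.2) _ (Subgroup.mul_mem _ hu (Subgroup.inv_mem _ hu'))
  have h2 : n * (u * u'⁻¹) * n⁻¹ = b⁻¹ * b' := by
    calc n * (u * u'⁻¹) * n⁻¹ = b⁻¹ * (b * n * u) * u'⁻¹ * n⁻¹ := by group
      _ = _ := by rw [e]; group
  have h3 : n * (u * u'⁻¹) * n⁻¹ ∈ D.borelSubgroup F ⊓ D.negUnipotent F :=
    ⟨h2 ▸ Subgroup.mul_mem _ (Subgroup.inv_mem _ hb) hb', h1⟩
  rw [R.B_inf_V, Subgroup.mem_bot] at h3
  constructor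
  · rw [h3] at h2
    exact inv_mul_eq_one.mp h2.symm
  · have : u * u'⁻¹ = 1 := by
      have e1 : u * u'⁻¹ = n⁻¹ * (n * (u * u'⁻¹) * n⁻¹) * n := by group
      rw [e1, h3]; group
    exact mul_inv_eq_one.mp this

theorem negP_iff {n : GL D.Idx F} {σ : Equiv.Perm (Fin D.nroots)} (hm : R.IsMono n σ) (r : ℕ) :
    (D.IsPosRoot r ∧ (D.rootSubgroup F r).map (MulAut.conj n).toMonoidHom ≤ D.negUnipotent F) ↔ negP D σ r := by
  constructor
  · rintro ⟨h1, h2⟩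
    obtain ⟨h3, h4⟩ := (G.isPosRoot_iff r).mp h1
    refine ⟨h4, h3, ?_⟩
    by_contra h5
    obtain ⟨c, hc, e⟩ := hm.conj ⟨r, h4⟩
    have h6 : n * R.xg r 1 * n⁻¹ ∈ D.negUnipotent F := h2 ⟨R.xg r 1, R.xg_mem_rootSubgroup r 1, rfl⟩
    rw [e 1] at h6
    have h7 : R.xg (σ ⟨r, h4⟩ : Fin D.nroots) (c * 1) ∈ D.borelSubgroup F ⊓ D.negUnipotent F :=
      ⟨R.U_le_B (R.xg_mem_U _ (by omega) (σ _).2 _), h6⟩
    rw [R.B_inf_V, Subgroup.mem_bot, R.xg_eq_one_iff (σ _).2, mul_one] at h7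
    exact hc h7
  · rintro ⟨h1, h2, h3⟩
    refine ⟨(G.isPosRoot_iff r).mpr ⟨h2, h1⟩, ?_⟩
    rintro _ ⟨x, hx, rfl⟩
    obtain ⟨t, rfl⟩ := (R.mem_rootSubgroup r x).mp hx
    obtain ⟨c, hc, e⟩ := hm.conj ⟨r, h1⟩
    show n * R.xg r t * n⁻¹ ∈ _
    rw [e t]
    exact R.xg_mem_V _ h3 _

theorem Um_eq {n : GL D.Idx F} {σ : Equiv.Perm (Fin D.nroots)} (hm : R.IsMono n σ) :
    Subgroup.closure {x : GL D.Idx F | ∃ (r : ℕ) (t : F), D.IsPosRoot r ∧
      (D.rootSubgroup F r).map (MulAut.conj n).toMonoidHom ≤ D.negUnipotent F ∧ (x : Matrix D.Idx D.Idx F) = D.x F r t} =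
    UU D F (negP D σ) := by
  unfold UU
  congr 1
  ext x
  constructor
  · rintro ⟨r, t, h1, h2, h3⟩
    exact ⟨r, t, (R.negP_iff hm r).mp ⟨h1, h2⟩, h3⟩
  · rintro ⟨r, t, h1, h3⟩
    obtain ⟨h1, h2⟩ := (R.negP_iff hm r).mpr h1
    exact ⟨r, t, h1, h2, h3⟩

end Rels

end Cfsg.Agent.Chev
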