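import Cfsg.Agent.Chev.Closed

/-!
# The order of the group in terms of the Weyl group
-/

set_option autoImplicit false
set_option linter.unusedSectionVars false
set_option linter.unusedVariables false

namespace Cfsg.Agent.Chev
open Cfsg.Lie
open scoped MatrixGroups

variable {D : ChevalleyDatum} {G : Good D} {F : Type*} [Field F]

/-- the sum of `q ^ n(σ)` over a set of permutations -/
noncomputable def Good.psum (G : Good D) (S : Set (Equiv.Perm (Fin D.nroots))) (q : ℕ) : ℕ :=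
  ∑ σ ∈ (Set.toFinite S).toFinset, q ^ G.nn σ

namespace Rels
variable (R : Rels D G F)
include R

theorem Um_le_B (σ : Equiv.Perm (Fin D.nroots)) : UU D F (negP D σ) ≤ D.borelSubgroup F :=
  le_trans (UU_mono (fun s hs => (G.isPosRoot_iff s).mpr ⟨hs.2.1, hs.1⟩)) R.U_le_B

theorem card_group (G2 : Good2 D) [Fintype F] :
    Nat.card (D.group F) = Nat.card (D.borelSubgroup F) * G.psum G.W (Fintype.card F) := by
  classical
  have hps : G.psum G.W (Fintype.card F) = ∑ σ : ↥G.W, Fintype.card F ^ G.nn σ.1 := by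
    unfold Good.psum
    exact Finset.sum_subtype _ (fun x => by simp) _
  rw [hps]
  choose rep hrepN hrep using fun σ : ↥G.W => R.exists_N_of_W σ.2
  let ψ : (Σ σ : ↥G.W, ↥(D.borelSubgroup F) × ↥(UU D F (negP D σ.1))) → ↥(D.group F) := fun x =>
    ⟨x.2.1.1 * rep x.1 * x.2.2.1, Subgroup.mul_mem _ (Subgroup.mul_mem _ (R.B_le_group x.2.1.2)
      (R.N_le_group (hrepN x.1))) (R.B_le_group (R.Um_le_B _ x.2.2.2))⟩
  have hψ : Function.Bijective ψ := by
    constructor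
    · rintro ⟨σ, b, u⟩ ⟨σ', b', u'⟩ h
      have e : b.1 * rep σ * u.1 = b'.1 * rep σ' * u'.1 := congrArg Subtype.val h
      have h1 := R.bruhat_unique_GL G2 (hrepN σ) (hrepN σ') b.2 (R.Um_le_B _ u.2) b'.2 (R.Um_le_B _ u'.2) e
      have h2 := IsMono.unique R (IsMono.of_tor R (R.H_le_Tor h1)) (IsMono.mul R (IsMono.inv R (hrep σ)) (hrep σ'))
      have h3 : σ = σ' := by
        apply Subtype.ext
        exact inv_mul_eq_one.mp h2.symm
      subst h3
      obtain ⟨e1, e2⟩ := R.normal_form_unique b.2 b'.2 (hrep σ) u.2 u'.2 e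
      have e1' : b = b' := Subtype.ext e1
      have e2' : u = u' := Subtype.ext e2
      rw [e1', e2']
    · rintro ⟨g, hg⟩
      obtain ⟨b, hb, n, hn, σ, hσ, hm, u, hu, e⟩ := R.normal_form_exists G2 hg
      have h1 : n * (rep ⟨σ, hσ⟩)⁻¹ ∈ D.diagonalSubgroup F := by
        apply R.mono_one_mem_H G2 (Subgroup.mul_mem _ hn (Subgroup.inv_mem _ (hrepN _)))
        have := IsMono.mul R hm (IsMono.inv R (hrep ⟨σ, hσ⟩))
        rwa [mul_inv_cancel] at this
      refine ⟨⟨⟨σ, hσ⟩, ⟨b * (n * (rep ⟨σ, hσ⟩)⁻¹), Subgroup.mul_mem _ hb (R.H_le_B h1)⟩, ⟨u, hu⟩⟩, ?_⟩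
      apply Subtype.ext
      simp only [ψ]
      rw [e]; group
  rw [← Nat.card_congr (Equiv.ofBijective ψ hψ), Nat.card_sigma, Finset.mul_sum]
  apply Finset.sum_congr rfl
  intro σ _
  rw [Nat.card_prod, R.card_Um G2 σ.2]

theorem card_B (G2 : Good2 D) [Fintype F] :
    Nat.card (D.borelSubgroup F) = Fintype.card F ^ (D.nroots / 2) * Nat.card (D.diagonalSubgroup F) := by
  rw [← R.card_U G2]
  let ψ : ↥(D.posUnipotent F) × ↥(D.diagonalSubgroup F) → ↥(D.borelSubgroup F) := fun x =>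
    ⟨x.1.1 * x.2.1, Subgroup.mul_mem _ (R.U_le_B x.1.2) (R.H_le_B x.2.2)⟩
  have hψ : Function.Bijective ψ := by
    constructor
    · rintro ⟨u, h⟩ ⟨u', h'⟩ e
      have e1 : u.1 * h.1 = u'.1 * h'.1 := congrArg Subtype.val e
      have e2 : u'.1⁻¹ * u.1 = h'.1 * h.1⁻¹ := by
        calc u'.1⁻¹ * u.1 = u'.1⁻¹ * (u.1 * h.1) * h.1⁻¹ := by group
          _ = _ := by rw [e1]; group
      have h1 : u'.1⁻¹ * u.1 ∈ D.posUnipotent F ⊓ D.diagonalSubgroup F :=
        ⟨Subgroup.mul_mem _ (Subgroup.inv_mem _ u'.2) u.2, e2 ▸ Subgroup.mul_mem _ h'.2 (Subgroup.inv_mem _ h.2)⟩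
      rw [R.U_inf_H, Subgroup.mem_bot] at h1
      have h2 : u = u' := Subtype.ext (inv_mul_eq_one.mp h1).symm
      have h3 : h = h' := by
        apply Subtype.ext
        rw [h1] at e2
        exact (mul_inv_eq_one.mp e2.symm).symm
      rw [h2, h3]
    · rintro ⟨g, hg⟩
      obtain ⟨u, hu, h, hh, rfl⟩ := exists_mul_of_mem_sup R.H_le_normalizer_U hg
      exact ⟨⟨⟨u, hu⟩, ⟨h, hh⟩⟩, rfl⟩
  rw [← Nat.card_congr (Equiv.ofBijective ψ hψ), Nat.card_prod]

end Rels

end Cfsg.Agent.Chev
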