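import Cfsg.Agent.Chev.Bruhat

/-!
# Unique products over the closed sets of positive roots cut out by an additive function
-/

set_option autoImplicit false
set_option linter.unusedSectionVars false
set_option linter.unusedVariables false

namespace Cfsg.Agent.Chev
open Cfsg.Lie
open scoped MatrixGroups

variable {D : ChevalleyDatum} {G : Good D} {F : Type*} [Field F]

/-- the roots with index at least `k` at which `f` is negative -/
def geN (D : ChevalleyDatum) (f : ℕ → ℤ) (k : ℕ) : ℕ → Prop := fun s => k ≤ s ∧ s < D.nroots ∧ f s < 0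

namespace Rels
variable (R : Rels D G F)
include R

theorem xk_normalizes_f {f : ℕ → ℤ} (hf : AddFn D f) {k : ℕ} (hk1 : D.nroots / 2 ≤ k) (hk2 : k < D.nroots)
    (hfk : f k < 0) (t : F) :
    R.xg k t ∈ Subgroup.normalizer (UU D F (geN D f (k + 1)) : Set (GL D.Idx F)) := by
  apply R.xg_normalizes _ k hk2
  rintro s ⟨hs1, hs2, hs3⟩
  have hnl := G.neg_lt_half hk2 hk1
  refine ⟨hs2, by omega, by omega, ?_⟩
  intro c hc
  obtain ⟨h1, h2, h3, h4⟩ := commTerms_add G G.ht_addFn hk2 hs2 c hc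
  obtain ⟨_, _, _, h4'⟩ := commTerms_add G hf hk2 hs2 c hc
  have e1 : (1 : ℤ) ≤ (c.2.2.1 : ℤ) := by exact_mod_cast h2
  have e2 : (1 : ℤ) ≤ (c.2.2.2 : ℤ) := by exact_mod_cast h3
  refine ⟨?_, h1, ?_⟩
  · have h5 := (G.ht_pos_iff hk2).mpr hk1
    have h6 := (G.ht_pos_iff hs2).mpr (by omega)
    have h7 : G.ht s < G.ht c.1 := by
      rw [h4]
      nlinarith
    have := (G.ht_lt_iff hs2 h1).mp h7
    omega
  · rw [h4']
    nlinarith

theorem exists_prodFrom_f {f : ℕ → ℤ} (hf : AddFn D f) (m : ℕ) :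
    ∀ k, D.nroots / 2 ≤ k → k + m = D.nroots → ∀ g ∈ UU D F (geN D f k),
    ∃ t : ℕ → F, (∀ r, ¬ f r < 0 → t r = 0) ∧ g = R.prodFrom t k m := by
  induction m with
  | zero =>
    intro k hk1 hk2 g hg
    have : UU D F (geN D f k) ≤ ⊥ := by
      apply R.UU_le
      rintro s ⟨h1, h2, _⟩ u
      omega
    exact ⟨fun _ => 0, fun _ _ => rfl, by rw [prodFrom_zero]; exact this hg⟩
  | succ m ih =>
    intro k hk1 hk2 g hg
    have hk3 : k < D.nroots := by omega
    by_cases hfk : f k < 0
    · have h1 : UU D F (geN D f k) ≤ D.rootSubgroup F k ⊔ UU D F (geN D f (k + 1)) := by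
        apply R.UU_le
        rintro s ⟨h1, h2, h3⟩ u
        by_cases h : s = k
        · subst h; exact Subgroup.mem_sup_left (R.xg_mem_rootSubgroup _ u)
        · exact Subgroup.mem_sup_right (R.xg_mem_UU (p := geN D f (k + 1)) ⟨by omega, h2, h3⟩ u)
      have h2 : D.rootSubgroup F k ≤ Subgroup.normalizer (UU D F (geN D f (k + 1)) : Set (GL D.Idx F)) :=
        R.rootSubgroup_le (fun t => R.xk_normalizes_f hf hk1 hk3 hfk t)
      have h3 : g ∈ ((D.rootSubgroup F k ⊔ UU D F (geN D f (k + 1)) : Subgroup (GL D.Idx F)) : Set (GL D.Idx F)) := h1 hg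
      rw [Subgroup.coe_mul_of_left_le_normalizer_right _ _ h2, Set.mem_mul] at h3
      obtain ⟨x, hx, g', hg', rfl⟩ := h3
      obtain ⟨a, rfl⟩ := (R.mem_rootSubgroup k x).mp hx
      obtain ⟨t', ht', rfl⟩ := ih (k + 1) (by omega) (by omega) g' hg'
      refine ⟨Function.update t' k a, ?_, ?_⟩
      · intro r hr
        rw [Function.update_of_ne (fun e : r = k => hr (by rw [e]; exact hfk))]
        exact ht' r hr
      · rw [prodFrom_succ, Function.update_self]
        congr 1
        apply R.prodFrom_congr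
        intro r hr1 hr2
        rw [Function.update_of_ne (by omega)]
    · have h1 : UU D F (geN D f k) ≤ UU D F (geN D f (k + 1)) := by
        apply UU_mono
        rintro s ⟨h1, h2, h3⟩
        refine ⟨?_, h2, h3⟩
        rcases Nat.eq_or_lt_of_le h1 with h | h
        · exact absurd (h ▸ h3) hfk
        · exact h
      obtain ⟨t', ht', e⟩ := ih (k + 1) (by omega) (by omega) g (h1 hg)
      refine ⟨Function.update t' k 0, ?_, ?_⟩
      · intro r hr
        by_cases h : r = k
        · subst h; rw [Function.update_self]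
        · rw [Function.update_of_ne h]; exact ht' r hr
      · rw [prodFrom_succ, Function.update_self, R.xg_zero, one_mul, e]
        apply R.prodFrom_congr
        intro r hr1 hr2
        rw [Function.update_of_ne (by omega)]

theorem prodFrom_mem_f {f : ℕ → ℤ} (t : ℕ → F) (ht : ∀ r, ¬ f r < 0 → t r = 0) (k m : ℕ) (hkm : k + m ≤ D.nroots) :
    R.prodFrom t k m ∈ UU D F (geN D f k) := by
  apply Subgroup.list_prod_mem
  intro x hx
  rw [List.mem_map] at hx
  obtain ⟨r, hr, rfl⟩ := hx
  rw [List.mem_range'_1] at hr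
  by_cases h : f r < 0
  · exact R.xg_mem_UU (p := geN D f k) ⟨hr.1, by omega, h⟩ _
  · rw [ht r h, R.xg_zero]; exact Subgroup.one_mem _

theorem card_UU_f (G2 : Good2 D) [Fintype F] {f : ℕ → ℤ} (hf : AddFn D f) :
    Nat.card (UU D F (geN D f (D.nroots / 2))) = Fintype.card F ^ G.cnt (fun r => f r) := by
  classical
  have hev := G.even
  let S := G.posF.filter (fun r : Fin D.nroots => f r < 0)
  let ext : (S → F) → ℕ → F := fun t r =>
    if h : r < D.nroots ∧ D.nroots / 2 ≤ r ∧ f r < 0 then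
      t ⟨⟨r, h.1⟩, Finset.mem_filter.mpr ⟨(G.mem_posF _).mpr h.2.1, h.2.2⟩⟩ else 0
  have hext : ∀ t r, ¬ f r < 0 → ext t r = 0 := by
    intro t r hr
    simp only [ext]
    rw [dif_neg (fun h => hr h.2.2)]
  let φ : (S → F) → UU D F (geN D f (D.nroots / 2)) := fun t =>
    ⟨R.prodFrom (ext t) (D.nroots / 2) (D.nroots / 2), R.prodFrom_mem_f _ (hext t) _ _ (by omega)⟩
  have hφ : Function.Bijective φ := by
    constructor
    · intro t t' h
      have h1 : R.prodFrom (ext t) (D.nroots / 2) (D.nroots / 2) = R.prodFrom (ext t') (D.nroots / 2) (D.nroots / 2) :=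
        congrArg Subtype.val h
      funext ⟨i, hi⟩
      obtain ⟨hi1, hi2⟩ := Finset.mem_filter.mp hi
      have hi3 := (G.mem_posF _).mp hi1
      have := R.prodFrom_inj G2 _ _ (le_refl _) (by omega) _ _ h1 i hi3 i.2
      simp only [ext] at this
      rw [dif_pos ⟨i.2, hi3, hi2⟩, dif_pos ⟨i.2, hi3, hi2⟩] at this
      exact this
    · rintro ⟨g, hg⟩
      obtain ⟨t0, ht0, e⟩ := R.exists_prodFrom_f hf (D.nroots / 2) (D.nroots / 2) (le_refl _) (by omega) g hg
      refine ⟨fun i => t0 i.1, ?_⟩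
      apply Subtype.ext
      simp only [φ]
      rw [e]
      apply R.prodFrom_congr
      intro r h1 h2
      simp only [ext]
      by_cases h : f r < 0
      · rw [dif_pos ⟨by omega, h1, h⟩]
      · rw [dif_neg (fun h' => h h'.2.2), ht0 r h]
  rw [← Nat.card_congr (Equiv.ofBijective φ hφ), Nat.card_fun, Nat.card_eq_fintype_card, Nat.card_eq_fintype_card,
    Fintype.card_coe]
  rfl

theorem card_Um (G2 : Good2 D) [Fintype F] {σ : Equiv.Perm (Fin D.nroots)} (hσ : σ ∈ G.W) :
    Nat.card (UU D F (negP D σ)) = Fintype.card F ^ G.nn σ := by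
  obtain ⟨lam', h⟩ := G.W_lin hσ (wgt D.rank)
  have h1 : UU D F (negP D σ) = UU D F (geN D (G.lin lam') (D.nroots / 2)) := by
    apply le_antisymm
    · apply UU_mono
      rintro s ⟨h1, h2, h3⟩
      refine ⟨h2, h1, ?_⟩
      rw [← h ⟨s, h1⟩]
      exact (G.ht_neg_iff (σ _).2).mpr h3
    · apply UU_mono
      rintro s ⟨h1, h2, h3⟩
      refine ⟨h2, h1, ?_⟩
      rw [← h ⟨s, h2⟩] at h3
      exact (G.ht_neg_iff (σ _).2).mp h3
  rw [h1, R.card_UU_f G2 (G.lin_addFn lam')]
  congr 1
  unfold Good.nn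
  congr 1
  funext r
  exact (h r).symm

end Rels

end Cfsg.Agent.Chev
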