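import Mathlib

/-!
# A small reflection engine for identities between sparse matrices with polynomial entries

Vectors are lists of terms `(key, i, j, p, n)` standing for `(p - n) * a^i * b^j • e_key`.
All functions that are meant to be evaluated by the kernel are written with raw recursors.
-/

set_option autoImplicit false

namespace Cfsg.Agent.Chev

/-- A term `(p - n) * a^i * b^j • e_k`. -/
structure Tm where
  k : ℕ
  i : ℕ
  j : ℕ
  p : ℕ
  n : ℕ

abbrev Vec := List Tm

/-! ### kernel-friendly loops -/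

/-- `f k = true` for all `k < n`. -/
noncomputable def allBelow (f : ℕ → Bool) (n : ℕ) : Bool :=
  Nat.rec (motive := fun _ => Bool) true (fun k ih => Bool.rec false ih (f k)) n

theorem allBelow_iff (f : ℕ → Bool) (n : ℕ) : allBelow f n = true ↔ ∀ k < n, f k = true := by
  induction n with
  | zero => simp [allBelow]
  | succ m ih =>
    have h : allBelow f (m+1) = Bool.rec false (allBelow f m) (f m) := rfl
    rw [h]
    constructor
    · intro hh k hk
      cases hfm : f m with
      | false => rw [hfm] at hh; exact absurd hh (by simp)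
      | true =>
        rw [hfm] at hh
        rcases Nat.lt_succ_iff_lt_or_eq.mp hk with h1 | h1
        · exact ih.mp hh k h1
        · rw [h1]; exact hfm
    · intro hh
      have h1 := hh m (Nat.lt_succ_self m)
      rw [h1]
      exact ih.mpr (fun k hk => hh k (Nat.lt_succ_of_lt hk))

/-- `f r = true` for `lo ≤ r < lo + len` -/
noncomputable def allRange (f : ℕ → Bool) (lo len : ℕ) : Bool := allBelow (fun k => f (Nat.add lo k)) len

theorem allRange_spec {f : ℕ → Bool} {lo len : ℕ} (h : allRange f lo len = true) (r : ℕ)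
    (h1 : lo ≤ r) (h2 : r < lo + len) : f r = true := by
  have := (allBelow_iff _ _).mp h (r - lo) (by omega)
  simp only [Nat.add_eq] at this
  rwa [show lo + (r - lo) = r by omega] at this

/-- kernel friendly `and` -/
noncomputable def band (a b : Bool) : Bool := Bool.rec false b a

@[simp] theorem band_eq_true (a b : Bool) : band a b = true ↔ a = true ∧ b = true := by
  cases a <;> simp [band]

/-- kernel friendly if-then-else on Bool -/
noncomputable def bite {α : Type} (c : Bool) (t e : α) : α := Bool.rec e t c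

@[simp] theorem bite_true {α : Type} (t e : α) : bite true t e = t := rfl
@[simp] theorem bite_false {α : Type} (t e : α) : bite false t e = e := rfl

theorem bite_eq_ite {α : Type} (c : Bool) (t e : α) : bite c t e = if c = true then t else e := by
  cases c <;> simp

/-- kernel friendly append -/
noncomputable def vapp (v w : Vec) : Vec :=
  List.rec (motive := fun _ => Vec) w (fun σ _ ih => σ :: ih) v

@[simp] theorem vapp_eq (v w : Vec) : vapp v w = v ++ w := by
  induction v with
  | nil => rfl
  | cons σ v ih =>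
    have : vapp (σ :: v) w = σ :: vapp v w := rfl
    rw [this, ih]; rfl

/-! ### evaluation -/

section eval
variable {F : Type*} [CommRing F]

/-- the scalar value of a term -/
def Tm.val (τ : Tm) (a b : F) : F := ((τ.p : F) - (τ.n : F)) * a ^ τ.i * b ^ τ.j

/-- the coordinate `x` of the vector described by a list of terms -/
def ev (a b : F) (v : Vec) (x : ℕ) : F :=
  match v with
  | [] => 0
  | τ :: v => (if τ.k = x then τ.val a b else 0) + ev a b v x

@[simp] theorem ev_nil (a b : F) (x : ℕ) : ev a b [] x = 0 := rfl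
@[simp] theorem ev_cons (a b : F) (τ : Tm) (v : Vec) (x : ℕ) :
    ev a b (τ :: v) x = (if τ.k = x then τ.val a b else 0) + ev a b v x := rfl

@[simp] theorem ev_append (a b : F) (v w : Vec) (x : ℕ) :
    ev a b (v ++ w) x = ev a b v x + ev a b w x := by
  induction v with
  | nil => simp
  | cons τ v ih => simp [ih, add_assoc]

end eval

/-! ### normalisation -/

noncomputable def sameKey (σ τ : Tm) : Bool :=
  Bool.rec false (Bool.rec false (Nat.beq σ.j τ.j) (Nat.beq σ.i τ.i)) (Nat.beq σ.k τ.k)

theorem nbeq_iff (a b : ℕ) : Nat.beq a b = true ↔ a = b :=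
  ⟨Nat.eq_of_beq_eq_true, fun h => h ▸ Nat.beq_refl a⟩

theorem nbeq_false_iff (a b : ℕ) : Nat.beq a b = false ↔ a ≠ b := by
  constructor
  · intro h e
    rw [(nbeq_iff a b).mpr e] at h
    exact Bool.noConfusion h
  · intro h
    cases h1 : Nat.beq a b
    · rfl
    · exact absurd ((nbeq_iff a b).mp h1) h

theorem sameKey_iff (σ τ : Tm) : sameKey σ τ = true ↔ σ.k = τ.k ∧ σ.i = τ.i ∧ σ.j = τ.j := by
  unfold sameKey
  by_cases h1 : σ.k = τ.k
  · rw [(nbeq_iff _ _).mpr h1]
    by_cases h2 : σ.i = τ.i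
    · rw [(nbeq_iff _ _).mpr h2]
      simp [h1, h2]
    · rw [(nbeq_false_iff _ _).mpr h2]; simp [h2]
  · rw [(nbeq_false_iff _ _).mpr h1]; simp [h1]

/-- insert a term in an accumulator, merging coefficients of equal keys -/
noncomputable def ins (τ : Tm) (v : Vec) : Vec :=
  List.rec (motive := fun _ => Vec) [τ]
    (fun σ v ih => Bool.rec (σ :: ih) (⟨σ.k, σ.i, σ.j, Nat.add σ.p τ.p, Nat.add σ.n τ.n⟩ :: v)
        (sameKey σ τ)) v

theorem ins_nil (τ : Tm) : ins τ [] = [τ] := rfl
theorem ins_cons (τ σ : Tm) (v : Vec) : ins τ (σ :: v) =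
    Bool.rec (σ :: ins τ v) (⟨σ.k, σ.i, σ.j, Nat.add σ.p τ.p, Nat.add σ.n τ.n⟩ :: v) (sameKey σ τ) := rfl

theorem ev_ins {F : Type*} [CommRing F] (a b : F) (τ : Tm) (v : Vec) (x : ℕ) :
    ev a b (ins τ v) x = (if τ.k = x then τ.val a b else 0) + ev a b v x := by
  induction v with
  | nil => simp [ins_nil]
  | cons σ v ih =>
    rw [ins_cons]
    cases h : sameKey σ τ with
    | false =>
      simp only [ev_cons, ih]; ring
    | true =>
      obtain ⟨h1, h2, h3⟩ := (sameKey_iff σ τ).mp h
      simp only [ev_cons, Tm.val, h1, h2, h3, Nat.add_eq, Nat.cast_add]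
      split_ifs <;> ring

/-- insert all terms of `w` (negated if `sw`) in the accumulator -/
noncomputable def insAll (w acc : Vec) : Vec :=
  List.rec (motive := fun _ => Vec → Vec) (fun acc => acc) (fun τ _ ih acc => ih (ins τ acc)) w acc

theorem insAll_nil (acc : Vec) : insAll [] acc = acc := rfl
theorem insAll_cons (τ : Tm) (w acc : Vec) : insAll (τ :: w) acc = insAll w (ins τ acc) := rfl

theorem ev_insAll {F : Type*} [CommRing F] (a b : F) (w acc : Vec) (x : ℕ) :
    ev a b (insAll w acc) x = ev a b w x + ev a b acc x := by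
  induction w generalizing acc with
  | nil => simp [insAll_nil]
  | cons τ w ih => rw [insAll_cons, ih, ev_ins]; simp only [ev_cons]; ring

/-- insert all terms of `w`, negated -/
noncomputable def insAllNeg (w acc : Vec) : Vec :=
  List.rec (motive := fun _ => Vec → Vec) (fun acc => acc)
    (fun τ _ ih acc => ih (ins ⟨τ.k, τ.i, τ.j, τ.n, τ.p⟩ acc)) w acc

theorem insAllNeg_nil (acc : Vec) : insAllNeg [] acc = acc := rfl
theorem insAllNeg_cons (τ : Tm) (w acc : Vec) :
    insAllNeg (τ :: w) acc = insAllNeg w (ins ⟨τ.k, τ.i, τ.j, τ.n, τ.p⟩ acc) := rfl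

theorem ev_insAllNeg {F : Type*} [CommRing F] (a b : F) (w acc : Vec) (x : ℕ) :
    ev a b (insAllNeg w acc) x = - ev a b w x + ev a b acc x := by
  induction w generalizing acc with
  | nil => simp [insAllNeg_nil]
  | cons τ w ih =>
    rw [insAllNeg_cons, ih, ev_ins]; simp only [ev_cons, Tm.val]
    split_ifs <;> ring

noncomputable def isZero (v : Vec) : Bool :=
  List.rec (motive := fun _ => Bool) true (fun σ _ ih => Bool.rec false ih (Nat.beq σ.p σ.n)) v

theorem isZero_cons (σ : Tm) (v : Vec) :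
    isZero (σ :: v) = Bool.rec false (isZero v) (Nat.beq σ.p σ.n) := rfl

theorem ev_of_isZero {F : Type*} [CommRing F] (a b : F) (v : Vec) (h : isZero v = true) (x : ℕ) :
    ev a b v x = 0 := by
  induction v with
  | nil => rfl
  | cons σ v ih =>
    rw [isZero_cons] at h
    cases h1 : Nat.beq σ.p σ.n with
    | false => rw [h1] at h; exact absurd h (by simp)
    | true =>
      rw [h1] at h
      have h2 : σ.p = σ.n := (nbeq_iff _ _).mp h1
      simp [ev_cons, Tm.val, h2, ih h]

/-- the two vectors are equal (as formal polynomial vectors) -/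
noncomputable def vecEq (v w : Vec) : Bool := isZero (insAllNeg w (insAll v []))

theorem ev_eq_of_vecEq {F : Type*} [CommRing F] (a b : F) (v w : Vec) (h : vecEq v w = true) (x : ℕ) :
    ev a b v x = ev a b w x := by
  have := ev_of_isZero a b _ h x
  rw [ev_insAllNeg, ev_insAll] at this
  simp only [ev_nil, add_zero] at this
  linear_combination this

/-- reduce a monomial using `a * b = 1` -/
noncomputable def redTm (τ : Tm) : Tm :=
  ⟨τ.k, Nat.sub τ.i τ.j, Nat.sub τ.j τ.i, τ.p, τ.n⟩

theorem redTm_val {F : Type*} [CommRing F] (a b : F) (hab : a * b = 1) (τ : Tm) :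
    (redTm τ).val a b = τ.val a b := by
  unfold redTm Tm.val
  simp only [Nat.sub_eq]
  rcases Nat.le_total τ.i τ.j with h | h
  · obtain ⟨d, hd⟩ := Nat.exists_eq_add_of_le h
    rw [hd]
    simp only [Nat.sub_eq_zero_of_le (Nat.le_add_right _ _), Nat.add_sub_cancel_left, pow_zero, mul_one]
    have : a ^ τ.i * b ^ τ.i = 1 := by rw [← mul_pow, hab, one_pow]
    rw [pow_add]
    linear_combination (-(↑τ.p - ↑τ.n) * b ^ d) * this
  · obtain ⟨d, hd⟩ := Nat.exists_eq_add_of_le h
    rw [hd]
    simp only [Nat.sub_eq_zero_of_le (Nat.le_add_right _ _), Nat.add_sub_cancel_left, pow_zero, mul_one]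
    have : a ^ τ.j * b ^ τ.j = 1 := by rw [← mul_pow, hab, one_pow]
    rw [pow_add]
    linear_combination (-(↑τ.p - ↑τ.n) * a ^ d) * this

noncomputable def redVec (v : Vec) : Vec :=
  List.rec (motive := fun _ => Vec) [] (fun τ _ ih => redTm τ :: ih) v

theorem redVec_cons (τ : Tm) (v : Vec) : redVec (τ :: v) = redTm τ :: redVec v := rfl

theorem ev_redVec {F : Type*} [CommRing F] (a b : F) (hab : a * b = 1) (v : Vec) (x : ℕ) :
    ev a b (redVec v) x = ev a b v x := by
  induction v with
  | nil => rfl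
  | cons τ v ih =>
    rw [redVec_cons, ev_cons, ev_cons, ih, redTm_val a b hab]
    rfl

/-! ### applying a sparse operator (given by its columns) to a vector -/

/-- multiply the vector `w` by the scalar part of `τ` -/
noncomputable def scaleBy (τ : Tm) (w : Vec) (rest : Vec) : Vec :=
  List.rec (motive := fun _ => Vec) rest
    (fun σ _ ih => ⟨σ.k, Nat.add σ.i τ.i, Nat.add σ.j τ.j,
      Nat.add (Nat.mul σ.p τ.p) (Nat.mul σ.n τ.n), Nat.add (Nat.mul σ.p τ.n) (Nat.mul σ.n τ.p)⟩ :: ih) w

theorem scaleBy_nil (τ : Tm) (rest : Vec) : scaleBy τ [] rest = rest := rfl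
theorem scaleBy_cons (τ σ : Tm) (w rest : Vec) : scaleBy τ (σ :: w) rest =
    ⟨σ.k, Nat.add σ.i τ.i, Nat.add σ.j τ.j,
      Nat.add (Nat.mul σ.p τ.p) (Nat.mul σ.n τ.n), Nat.add (Nat.mul σ.p τ.n) (Nat.mul σ.n τ.p)⟩ ::
      scaleBy τ w rest := rfl

theorem ev_scaleBy {F : Type*} [CommRing F] (a b : F) (τ : Tm) (w rest : Vec) (x : ℕ) :
    ev a b (scaleBy τ w rest) x = τ.val a b * ev a b w x + ev a b rest x := by
  induction w with
  | nil => simp [scaleBy_nil]
  | cons σ w ih =>
    rw [scaleBy_cons, ev_cons, ih, ev_cons]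
    simp only [Tm.val, Nat.add_eq, Nat.mul_eq, Nat.cast_add, Nat.cast_mul, pow_add]
    split_ifs <;> ring

/-- insert the vector `w` multiplied by the scalar part of `τ` into the accumulator -/
noncomputable def scaleIns (τ : Tm) (w : Vec) (acc : Vec) : Vec :=
  List.rec (motive := fun _ => Vec → Vec) (fun acc => acc)
    (fun σ _ ih acc => ih (ins ⟨σ.k, Nat.add σ.i τ.i, Nat.add σ.j τ.j,
      Nat.add (Nat.mul σ.p τ.p) (Nat.mul σ.n τ.n), Nat.add (Nat.mul σ.p τ.n) (Nat.mul σ.n τ.p)⟩ acc)) w acc

theorem scaleIns_nil (τ : Tm) (acc : Vec) : scaleIns τ [] acc = acc := rfl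
theorem scaleIns_cons (τ σ : Tm) (w acc : Vec) : scaleIns τ (σ :: w) acc =
    scaleIns τ w (ins ⟨σ.k, Nat.add σ.i τ.i, Nat.add σ.j τ.j,
      Nat.add (Nat.mul σ.p τ.p) (Nat.mul σ.n τ.n), Nat.add (Nat.mul σ.p τ.n) (Nat.mul σ.n τ.p)⟩ acc) := rfl

theorem ev_scaleIns {F : Type*} [CommRing F] (a b : F) (τ : Tm) (w acc : Vec) (x : ℕ) :
    ev a b (scaleIns τ w acc) x = τ.val a b * ev a b w x + ev a b acc x := by
  induction w generalizing acc with
  | nil => simp [scaleIns_nil]
  | cons σ w ih =>
    rw [scaleIns_cons, ih, ev_ins, ev_cons]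
    simp only [Tm.val, Nat.add_eq, Nat.mul_eq, Nat.cast_add, Nat.cast_mul, pow_add]
    split_ifs <;> ring

/-- apply the operator with columns `op` to `v` (accumulator version) -/
noncomputable def applyOpAux (op : ℕ → Vec) (v acc : Vec) : Vec :=
  List.rec (motive := fun _ => Vec → Vec) (fun acc => acc)
    (fun τ _ ih acc => Bool.rec (ih (scaleIns τ (op τ.k) acc)) (ih acc) (Nat.beq τ.p τ.n)) v acc

/-- apply the operator with columns `op` to `v` -/
noncomputable def applyOp (op : ℕ → Vec) (v : Vec) : Vec := applyOpAux op v []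

theorem applyOpAux_nil (op : ℕ → Vec) (acc : Vec) : applyOpAux op [] acc = acc := rfl
theorem applyOpAux_cons (op : ℕ → Vec) (τ : Tm) (v acc : Vec) :
    applyOpAux op (τ :: v) acc =
      Bool.rec (applyOpAux op v (scaleIns τ (op τ.k) acc)) (applyOpAux op v acc) (Nat.beq τ.p τ.n) := rfl

theorem ev_applyOpAux {F : Type*} [CommRing F] (a b : F) (op : ℕ → Vec) (v acc : Vec) (x : ℕ) :
    ev a b (applyOpAux op v acc) x =
      (v.map fun τ => τ.val a b * ev a b (op τ.k) x).sum + ev a b acc x := by
  induction v generalizing acc with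
  | nil => simp [applyOpAux_nil]
  | cons τ v ih =>
    rw [applyOpAux_cons, List.map_cons, List.sum_cons]
    cases hz : Nat.beq τ.p τ.n with
    | true =>
      have hz' : τ.p = τ.n := Nat.eq_of_beq_eq_true hz
      have hv : τ.val a b = 0 := by simp [Tm.val, hz']
      simp only [ih, hv, zero_mul, zero_add]
    | false =>
      simp only [ih, ev_scaleIns]; ring

theorem ev_applyOp' {F : Type*} [CommRing F] (a b : F) (op : ℕ → Vec) (v : Vec) (x : ℕ) :
    ev a b (applyOp op v) x = (v.map fun τ => τ.val a b * ev a b (op τ.k) x).sum := by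
  rw [applyOp, ev_applyOpAux]; simp

/-- apply a list of operators: `applyOps [o₁, …, oₘ] v = o₁ (o₂ (… (oₘ v)))` -/
noncomputable def applyOps (ops : List (ℕ → Vec)) (v : Vec) : Vec :=
  List.rec (motive := fun _ => Vec) v (fun op _ ih => applyOp op ih) ops

theorem applyOps_nil (v : Vec) : applyOps [] v = v := rfl
theorem applyOps_cons (op : ℕ → Vec) (ops : List (ℕ → Vec)) (v : Vec) :
    applyOps (op :: ops) v = applyOp op (applyOps ops v) := rfl

/-! ### representing matrices -/

section rep
variable {l n : ℕ} {F : Type*} [CommRing F]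

/-- coding of the index set -/
def code : Fin l ⊕ Fin n → ℕ
  | Sum.inl i => i
  | Sum.inr s => l + s

theorem code_injective : Function.Injective (code : Fin l ⊕ Fin n → ℕ) := by
  intro x y h
  rcases x with x | x <;> rcases y with y | y <;> simp only [code] at h
  · exact congrArg _ (Fin.ext h)
  · have := x.2; omega
  · have := y.2; omega
  · exact congrArg _ (Fin.ext (by omega))

theorem code_lt (x : Fin l ⊕ Fin n) : code x < l + n := by
  rcases x with x | x <;> simp only [code]
  · have := x.2; omega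
  · have := x.2; omega

theorem exists_code {k : ℕ} (h : k < l + n) : ∃ x : Fin l ⊕ Fin n, code x = k := by
  by_cases h1 : k < l
  · exact ⟨Sum.inl ⟨k, h1⟩, rfl⟩
  · exact ⟨Sum.inr ⟨k - l, by omega⟩, by simp only [code]; omega⟩

/-- The operator `op` (columns as sparse vectors) represents the matrix `M` at the point `(a, b)`. -/
structure Rep (a b : F) (op : ℕ → Vec) (M : Matrix (Fin l ⊕ Fin n) (Fin l ⊕ Fin n) F) : Prop where
  col : ∀ row col, M row col = ev a b (op (code col)) (code row)
  oor : ∀ k, l + n ≤ k → ∀ row : Fin l ⊕ Fin n, ev a b (op k) (code row) = 0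

theorem ev_applyOp (a b : F) {op : ℕ → Vec} {M : Matrix (Fin l ⊕ Fin n) (Fin l ⊕ Fin n) F}
    (h : Rep a b op M) (v : Vec) (row : Fin l ⊕ Fin n) :
    ev a b (applyOp op v) (code row) = ∑ c, M row c * ev a b v (code c) := by
  rw [ev_applyOp']
  induction v with
  | nil => simp
  | cons τ v ih =>
    rw [List.map_cons, List.sum_cons, ih]
    simp only [ev_cons, mul_add, Finset.sum_add_distrib]
    congr 1
    by_cases hk : τ.k < l + n
    · obtain ⟨c, hc⟩ := exists_code hk
      rw [Finset.sum_eq_single c]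
      · simp [hc, h.col, mul_comm]
      · intro c' _ hne
        have : τ.k ≠ code c' := by
          rw [← hc]; exact fun e => hne (code_injective e.symm)
        simp [this]
      · simp
    · rw [h.oor _ (not_lt.mp hk)]
      symm
      rw [mul_zero]
      apply Finset.sum_eq_zero
      intro c _
      have : τ.k ≠ code c := fun e => hk (e ▸ code_lt c)
      simp [this]

/-- a list of operators represents a list of matrices -/
def RepL (a b : F) : List (ℕ → Vec) → List (Matrix (Fin l ⊕ Fin n) (Fin l ⊕ Fin n) F) → Prop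
  | [], [] => True
  | op :: ops, M :: Ms => Rep a b op M ∧ RepL a b ops Ms
  | _, _ => False

theorem ev_applyOps (a b : F) (ops : List (ℕ → Vec))
    (Ms : List (Matrix (Fin l ⊕ Fin n) (Fin l ⊕ Fin n) F)) (h : RepL a b ops Ms)
    (v : Vec) (row : Fin l ⊕ Fin n) :
    ev a b (applyOps ops v) (code row) = ∑ c, Ms.prod row c * ev a b v (code c) := by
  induction ops generalizing Ms row with
  | nil =>
    cases Ms with
    | nil => simp [applyOps_nil, Matrix.one_apply]
    | cons M Ms => exact absurd h (by simp [RepL])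
  | cons op ops ih =>
    cases Ms with
    | nil => exact absurd h (by simp [RepL])
    | cons M Ms =>
      obtain ⟨h1, h2⟩ := h
      rw [applyOps_cons, ev_applyOp a b h1, List.prod_cons]
      simp only [ih Ms h2, Matrix.mul_apply, Finset.mul_sum, Finset.sum_mul]
      rw [Finset.sum_comm]
      simp only [mul_assoc]

/-- the basis vector with key `k` -/
noncomputable def unitV (k : ℕ) : Vec := [⟨k, 0, 0, 1, 0⟩]

theorem ev_unitV (a b : F) (k x : ℕ) : ev a b (unitV k) x = if k = x then 1 else 0 := by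
  simp [unitV, Tm.val]

theorem prod_apply_eq (a b : F) (ops : List (ℕ → Vec))
    (Ms : List (Matrix (Fin l ⊕ Fin n) (Fin l ⊕ Fin n) F)) (h : RepL a b ops Ms)
    (row col : Fin l ⊕ Fin n) :
    Ms.prod row col = ev a b (applyOps ops (unitV (code col))) (code row) := by
  rw [ev_applyOps a b ops Ms h]
  simp only [ev_unitV]
  rw [Finset.sum_eq_single col]
  · simp
  · intro c _ hne
    have : code col ≠ code c := fun e => hne (code_injective e.symm)
    simp [this]
  · simp

/-- check that two products of operators agree on all columns `< m` -/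
noncomputable def opsEq (ops₁ ops₂ : List (ℕ → Vec)) (m : ℕ) : Bool :=
  allBelow (fun k => vecEq (applyOps ops₁ (unitV k)) (applyOps ops₂ (unitV k))) m

theorem prod_eq_of_opsEq (a b : F) (ops₁ ops₂ : List (ℕ → Vec))
    (Ms₁ Ms₂ : List (Matrix (Fin l ⊕ Fin n) (Fin l ⊕ Fin n) F))
    (h₁ : RepL a b ops₁ Ms₁) (h₂ : RepL a b ops₂ Ms₂) (h : opsEq ops₁ ops₂ (l + n) = true) :
    Ms₁.prod = Ms₂.prod := by
  ext row col
  rw [prod_apply_eq a b ops₁ Ms₁ h₁, prod_apply_eq a b ops₂ Ms₂ h₂]
  exact ev_eq_of_vecEq a b _ _ ((allBelow_iff _ _).mp h _ (code_lt col)) _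

/-- the same, modulo the relation `a * b = 1` -/
noncomputable def opsEqRed (ops₁ ops₂ : List (ℕ → Vec)) (m : ℕ) : Bool :=
  allBelow (fun k => vecEq (redVec (applyOps ops₁ (unitV k))) (redVec (applyOps ops₂ (unitV k)))) m

theorem prod_eq_of_opsEqRed (a b : F) (hab : a * b = 1) (ops₁ ops₂ : List (ℕ → Vec))
    (Ms₁ Ms₂ : List (Matrix (Fin l ⊕ Fin n) (Fin l ⊕ Fin n) F))
    (h₁ : RepL a b ops₁ Ms₁) (h₂ : RepL a b ops₂ Ms₂) (h : opsEqRed ops₁ ops₂ (l + n) = true) :
    Ms₁.prod = Ms₂.prod := by
  ext row col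
  rw [prod_apply_eq a b ops₁ Ms₁ h₁, prod_apply_eq a b ops₂ Ms₂ h₂,
    ← ev_redVec a b hab, ← ev_redVec a b hab (applyOps ops₂ _)]
  exact ev_eq_of_vecEq a b _ _ ((allBelow_iff _ _).mp h _ (code_lt col)) _

end rep

end Cfsg.Agent.Chev

namespace Cfsg.Agent.Chev

/-! ### operators given by their application function -/

section repA
variable {l n : ℕ} {F : Type*} [CommRing F]

/-- the function `ap` on sparse vectors represents multiplication by the matrix `M` -/
def RepA (a b : F) (ap : Vec → Vec) (M : Matrix (Fin l ⊕ Fin n) (Fin l ⊕ Fin n) F) : Prop :=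
  ∀ (v : Vec) (row : Fin l ⊕ Fin n), ev a b (ap v) (code row) = ∑ c, M row c * ev a b v (code c)

theorem Rep.repA {a b : F} {op : ℕ → Vec} {M : Matrix (Fin l ⊕ Fin n) (Fin l ⊕ Fin n) F}
    (h : Rep a b op M) : RepA a b (applyOp op) M := fun v row => ev_applyOp a b h v row

/-- `applyAll [f₁, …, fₘ] v = f₁ (f₂ (… (fₘ v)))` -/
noncomputable def applyAll (aps : List (Vec → Vec)) (v : Vec) : Vec :=
  List.rec (motive := fun _ => Vec) v (fun ap _ ih => ap ih) aps

theorem applyAll_nil (v : Vec) : applyAll [] v = v := rfl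
theorem applyAll_cons (ap : Vec → Vec) (aps : List (Vec → Vec)) (v : Vec) :
    applyAll (ap :: aps) v = ap (applyAll aps v) := rfl

def RepAL (a b : F) : List (Vec → Vec) → List (Matrix (Fin l ⊕ Fin n) (Fin l ⊕ Fin n) F) → Prop
  | [], [] => True
  | ap :: aps, M :: Ms => RepA a b ap M ∧ RepAL a b aps Ms
  | _, _ => False

theorem ev_applyAll (a b : F) (aps : List (Vec → Vec))
    (Ms : List (Matrix (Fin l ⊕ Fin n) (Fin l ⊕ Fin n) F)) (h : RepAL a b aps Ms)
    (v : Vec) (row : Fin l ⊕ Fin n) :
    ev a b (applyAll aps v) (code row) = ∑ c, Ms.prod row c * ev a b v (code c) := by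
  induction aps generalizing Ms row with
  | nil =>
    cases Ms with
    | nil => simp [applyAll_nil, Matrix.one_apply]
    | cons M Ms => exact absurd h (by simp [RepAL])
  | cons ap aps ih =>
    cases Ms with
    | nil => exact absurd h (by simp [RepAL])
    | cons M Ms =>
      obtain ⟨h1, h2⟩ := h
      rw [applyAll_cons, h1, List.prod_cons]
      simp only [ih Ms h2, Matrix.mul_apply, Finset.mul_sum, Finset.sum_mul]
      rw [Finset.sum_comm]
      simp only [mul_assoc]

theorem prodA_apply_eq (a b : F) (aps : List (Vec → Vec))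
    (Ms : List (Matrix (Fin l ⊕ Fin n) (Fin l ⊕ Fin n) F)) (h : RepAL a b aps Ms)
    (row col : Fin l ⊕ Fin n) :
    Ms.prod row col = ev a b (applyAll aps (unitV (code col))) (code row) := by
  rw [ev_applyAll a b aps Ms h]
  simp only [ev_unitV]
  rw [Finset.sum_eq_single col]
  · simp
  · intro c _ hne
    have : code col ≠ code c := fun e => hne (code_injective e.symm)
    simp [this]
  · simp

/-- check that two products of operators agree on all columns `< m` -/
noncomputable def apsEq (aps₁ aps₂ : List (Vec → Vec)) (m : ℕ) : Bool :=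
  allBelow (fun k => vecEq (applyAll aps₁ (unitV k)) (applyAll aps₂ (unitV k))) m

theorem prod_eq_of_apsEq (a b : F) (aps₁ aps₂ : List (Vec → Vec))
    (Ms₁ Ms₂ : List (Matrix (Fin l ⊕ Fin n) (Fin l ⊕ Fin n) F))
    (h₁ : RepAL a b aps₁ Ms₁) (h₂ : RepAL a b aps₂ Ms₂) (h : apsEq aps₁ aps₂ (l + n) = true) :
    Ms₁.prod = Ms₂.prod := by
  ext row col
  rw [prodA_apply_eq a b aps₁ Ms₁ h₁, prodA_apply_eq a b aps₂ Ms₂ h₂]
  exact ev_eq_of_vecEq a b _ _ ((allBelow_iff _ _).mp h _ (code_lt col)) _

/-- the same, modulo the relation `a * b = 1` -/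
noncomputable def apsEqRed (aps₁ aps₂ : List (Vec → Vec)) (m : ℕ) : Bool :=
  allBelow (fun k => vecEq (redVec (applyAll aps₁ (unitV k))) (redVec (applyAll aps₂ (unitV k)))) m

theorem prod_eq_of_apsEqRed (a b : F) (hab : a * b = 1) (aps₁ aps₂ : List (Vec → Vec))
    (Ms₁ Ms₂ : List (Matrix (Fin l ⊕ Fin n) (Fin l ⊕ Fin n) F))
    (h₁ : RepAL a b aps₁ Ms₁) (h₂ : RepAL a b aps₂ Ms₂) (h : apsEqRed aps₁ aps₂ (l + n) = true) :
    Ms₁.prod = Ms₂.prod := by
  ext row col
  rw [prodA_apply_eq a b aps₁ Ms₁ h₁, prodA_apply_eq a b aps₂ Ms₂ h₂,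
    ← ev_redVec a b hab, ← ev_redVec a b hab (applyAll aps₂ _)]
  exact ev_eq_of_vecEq a b _ _ ((allBelow_iff _ _).mp h _ (code_lt col)) _

end repA

/-! ### unipotent operators given by descriptors -/

/-- an extra term of a column: `(cp - cn) * p^e` at key `k` -/
structure DE where
  k : ℕ
  cp : ℕ
  cn : ℕ
  e : ℕ
deriving DecidableEq

abbrev Desc := List DE

end Cfsg.Agent.Chev
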