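import Cfsg.Agent.Chev.TwH

/-!
# Fixed points of a field automorphism on a Chevalley group with unimodular Cartan matrix
-/

set_option autoImplicit false
set_option linter.unusedSectionVars false
set_option linter.unusedVariables false

namespace Cfsg.Agent.Chev
open Cfsg.Lie
open scoped MatrixGroups

section two
variable {K L : Type*} [Field K] [Field L]

theorem xMat_map2 (D : ChevalleyDatum) (φ : K →+* L) (r : Fin D.nroots) (t : K) :
    (D.xMat K r t).map φ = D.xMat L r (φ t) := by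
  ext row col
  simp only [Matrix.map_apply, ChevalleyDatum.xMat, Matrix.of_apply]
  rcases col with i | s
  · rcases row with i' | u
    · simp only; split_ifs <;> simp
    · simp only; split_ifs <;> simp
  · simp only
    split_ifs with h1 h2
    · rcases row with i' | u
      · simp
      · simp only; split_ifs <;> simp
    · rcases row with i' | u
      · simp
      · simp only; split_ifs <;> simp
    · rcases row with i' | u
      · simp
      · simp only [map_add, map_list_sum, List.map_map]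
        congr 1
        · split_ifs <;> simp
        · congr 1
          apply List.map_congr_left
          intro km _
          simp

theorem x_map2 (D : ChevalleyDatum) (φ : K →+* L) (r : ℕ) (t : K) : (D.x K r t).map φ = D.x L r (φ t) := by
  unfold ChevalleyDatum.x
  split_ifs with h
  · exact xMat_map2 D φ ⟨r, h⟩ t
  · ext i j
    rw [Matrix.map_apply, Matrix.one_apply, Matrix.one_apply]
    split_ifs <;> simp

end two

variable {D : ChevalleyDatum} {G : Good D} {K : Type*} [Field K]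

namespace Rels
variable (R : Rels D G K)
include R

theorem ftau_single (i : Fin D.rank) (a : Kˣ) : tau D K (Pi.mulSingle i a) = R.hg (D.simple i) (a : K) := by
  apply Units.ext
  rw [R.coe_hg, R.hmat _ (G.simple_lt i i.2) _ a.ne_zero]
  show Matrix.diagonal (fun b => ((kap D K (Pi.mulSingle i a) b : Kˣ) : K)) = _
  congr 1
  funext b
  show ((∏ j, (Pi.mulSingle i a : Fin D.rank → Kˣ) j ^ wtI D (D.cartan j) b : Kˣ) : K) = _
  rw [Finset.prod_eq_single i]
  · rw [Pi.mulSingle_eq_same]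
    push_cast
    congr 1
    rcases b with b | b
    · rfl
    · exact (G.pairing_simple i i.2 b).symm
  · intro j _ hj
    rw [Pi.mulSingle_eq_of_ne hj, one_zpow]
  · intro h; exact absurd (Finset.mem_univ i) h

theorem ftau_ker : (tau D K).ker = (zphi (cartanM D) : (Fin D.rank → Kˣ) →* _).ker := by
  rw [← G.kap_ker]
  ext c
  unfold tau
  rw [MonoidHom.mem_ker, MonoidHom.mem_ker, MonoidHom.comp_apply, map_eq_one_iff _ diagG_injective]

theorem ftau_inj {N : Matrix (Fin D.rank) (Fin D.rank) ℤ} (hN : cartanM D * N = 1) :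
    Function.Injective (tau D K) := by
  rw [injective_iff_map_eq_one]
  intro z hz
  have hz' : z ∈ (tau D K).ker := hz
  rw [R.ftau_ker, MonoidHom.mem_ker] at hz'
  have h1 := zphi_mul (cartanM D) N z
  rw [hz', map_one, hN, zphi_one] at h1
  exact h1

theorem fsg_tau (σ : K →+* K) (c : Fin D.rank → Kˣ) :
    Matrix.GeneralLinearGroup.map σ (tau D K c) = tau D K (fun i => Units.map (σ : K →* K) (c i)) := by
  apply Units.ext
  show (Matrix.diagonal (fun a => ((kap D K c a : Kˣ) : K))).map σ =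
    Matrix.diagonal (fun a => ((kap D K (fun i => Units.map (σ : K →* K) (c i)) a : Kˣ) : K))
  rw [Matrix.diagonal_map (map_zero σ)]
  congr 1
  funext a
  show σ ((∏ i, c i ^ wtI D (D.cartan i) a : Kˣ) : K) =
    ((∏ i, (Units.map (σ : K →* K) (c i)) ^ wtI D (D.cartan i) a : Kˣ) : K)
  push_cast
  rw [map_prod]
  apply Finset.prod_congr rfl
  intro i _
  rw [map_zpow₀]
  rfl

theorem fsg_UU (σ : K →+* K) (p : ℕ → Prop) {u : GL D.Idx K} (hu : u ∈ UU D K p) :
    Matrix.GeneralLinearGroup.map σ u ∈ UU D K p := by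
  have : UU D K p ≤ (UU D K p).comap (Matrix.GeneralLinearGroup.map σ) :=
    R.UU_le (fun s hs u => by rw [Subgroup.mem_comap, R.frob_xg]; exact R.xg_mem_UU hs _)
  exact this hu

theorem fsg_H (σ : K →+* K) {h : GL D.Idx K} (hh : h ∈ D.diagonalSubgroup K) :
    Matrix.GeneralLinearGroup.map σ h ∈ D.diagonalSubgroup K := by
  rw [← R.range_tor] at hh ⊢
  obtain ⟨c, rfl⟩ := hh
  exact ⟨_, (R.fsg_tau σ c).symm⟩

theorem fsg_ng (σ : K →+* K) (r : ℕ) (t : K) :
    Matrix.GeneralLinearGroup.map σ (R.ng r t) = R.ng r (σ t) := by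
  rw [R.ng_eq, R.ng_eq, map_mul, map_mul, R.frob_xg, R.frob_xg, map_neg, map_inv₀]

theorem fsg_N (G2 : Good2 D) (σ : K →+* K) {n : GL D.Idx K} (hn : n ∈ D.monomialSubgroup K) :
    Matrix.GeneralLinearGroup.map σ n ∈ D.monomialSubgroup K := by
  have : D.monomialSubgroup K ≤ (D.monomialSubgroup K).comap (Matrix.GeneralLinearGroup.map σ) := by
    conv_lhs => rw [R.N_eq_N0 G2]
    unfold N0
    apply sup_le
    · intro h hh
      exact R.H_le_N (R.fsg_H σ hh)
    · rw [Subgroup.closure_le]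
      rintro g ⟨i, hi, hg⟩
      have hg' : g = R.ng (D.simple i) 1 := (R.eq_wg_iff _ _).mp hg
      show Matrix.GeneralLinearGroup.map σ g ∈ D.monomialSubgroup K
      rw [hg', R.fsg_ng, map_one]
      exact R.ng_mem_N (G.simple_lt i hi)
  exact this hn

theorem fsg_B (σ : K →+* K) {b : GL D.Idx K} (hb : b ∈ D.borelSubgroup K) :
    Matrix.GeneralLinearGroup.map σ b ∈ D.borelSubgroup K := by
  obtain ⟨u, hu, h, hh, rfl⟩ := exists_mul_of_mem_sup R.H_le_normalizer_U hb
  rw [map_mul]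
  exact Subgroup.mul_mem _ (R.U_le_B (R.fsg_UU σ _ hu)) (R.H_le_B (R.fsg_H σ hh))

theorem fsg_prodFrom (σ : K →+* K) (t : ℕ → K) (k m : ℕ) :
    Matrix.GeneralLinearGroup.map σ (R.prodFrom t k m) = R.prodFrom (fun r => σ (t r)) k m := by
  unfold prodFrom
  rw [map_list_prod, List.map_map]
  congr 1
  apply List.map_congr_left
  intro r _
  exact R.frob_xg σ r (t r)

theorem U_fix_le (G2 : Good2 D) (σ : K →+* K) {M : Subgroup (GL D.Idx K)}
    (hM : ∀ r < D.nroots, ∀ t, σ t = t → R.xg r t ∈ M) {u : GL D.Idx K} (hu : u ∈ D.posUnipotent K)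
    (hfix : Matrix.GeneralLinearGroup.map σ u = u) : u ∈ M := by
  have hev := G.even
  have hu' : u ∈ UU D K (geP D (D.nroots / 2)) := by
    rw [← UU_pos] at hu
    exact UU_mono (fun s hs => (G.isPosRoot_iff s).mp hs) hu
  obtain ⟨t, rfl⟩ := R.exists_prodFrom (D.nroots / 2) (D.nroots / 2) le_rfl (by omega) u hu'
  rw [R.fsg_prodFrom] at hfix
  have h1 := R.prodFrom_inj G2 (D.nroots / 2) (D.nroots / 2) le_rfl (by omega) _ _ hfix
  apply Subgroup.list_prod_mem
  intro x hx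
  rw [List.mem_map] at hx
  obtain ⟨r, hr, rfl⟩ := hx
  rw [List.mem_range'_1] at hr
  exact hM r (by omega) _ (h1 r hr.1 (by omega))

theorem ng_mem_of_fix (σ : K →+* K) {M : Subgroup (GL D.Idx K)}
    (hM : ∀ r < D.nroots, ∀ t, σ t = t → R.xg r t ∈ M) {r : ℕ} (hr : r < D.nroots) {t : K} (ht : σ t = t) :
    R.ng r t ∈ M := by
  rw [R.ng_eq]
  exact Subgroup.mul_mem _ (Subgroup.mul_mem _ (hM r hr t ht)
    (hM _ (G.neg_lt hr) _ (by rw [map_neg, map_inv₀, ht]))) (hM r hr t ht)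

theorem H_fix_le {N : Matrix (Fin D.rank) (Fin D.rank) ℤ} (hN : cartanM D * N = 1) (σ : K →+* K)
    {M : Subgroup (GL D.Idx K)}
    (hM : ∀ r < D.nroots, ∀ t, σ t = t → R.xg r t ∈ M) {h : GL D.Idx K} (hh : h ∈ D.diagonalSubgroup K)
    (hfix : Matrix.GeneralLinearGroup.map σ h = h) : h ∈ M := by
  rw [← R.range_tor] at hh
  obtain ⟨c, rfl⟩ := hh
  change Matrix.GeneralLinearGroup.map σ (tau D K c) = tau D K c at hfix
  rw [R.fsg_tau] at hfix
  have h1 := R.ftau_inj hN hfix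
  have h2 : ∀ i, σ (c i : K) = (c i : K) := fun i => congrArg Units.val (congrFun h1 i)
  have h3 : c ∈ M.comap (tau D K) := by
    rw [← Finset.univ_prod_mulSingle c]
    apply Subgroup.prod_mem
    intro i _
    rw [Subgroup.mem_comap, R.ftau_single, R.hg_eq]
    exact Subgroup.mul_mem _ (R.ng_mem_of_fix σ hM (G.simple_lt i i.2) (h2 i))
      (R.ng_mem_of_fix σ hM (G.simple_lt i i.2) (by rw [map_neg, map_one]))
  exact h3

theorem exists_N_fix (σ : K →+* K) {M : Subgroup (GL D.Idx K)}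
    (hM : ∀ r < D.nroots, ∀ t, σ t = t → R.xg r t ∈ M) {w : Equiv.Perm (Fin D.nroots)} (hw : w ∈ G.W) :
    ∃ n ∈ D.monomialSubgroup K, n ∈ M ∧ Matrix.GeneralLinearGroup.map σ n = n ∧ R.IsMono n w := by
  refine G.W_ind_left (p := fun w => ∃ n ∈ D.monomialSubgroup K, n ∈ M ∧
    Matrix.GeneralLinearGroup.map σ n = n ∧ R.IsMono n w)
    ⟨1, Subgroup.one_mem _, Subgroup.one_mem _, map_one _, IsMono.of_tor R (IsTor.one R)⟩ ?_ w hw
  rintro i hi w _ ⟨n, hn, hnM, hf, h⟩
  exact ⟨R.ng (D.simple i) 1 * n, Subgroup.mul_mem _ (R.ng_mem_N (G.simple_lt i hi)) hn,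
    Subgroup.mul_mem _ (R.ng_mem_of_fix σ hM (G.simple_lt i hi) (map_one σ)) hnM,
    by rw [map_mul, R.fsg_ng, map_one, hf], IsMono.mul R (IsMono.ni R hi) h⟩

theorem N_fix_le (G2 : Good2 D) {N : Matrix (Fin D.rank) (Fin D.rank) ℤ} (hN : cartanM D * N = 1) (σ : K →+* K)
    {M : Subgroup (GL D.Idx K)}
    (hM : ∀ r < D.nroots, ∀ t, σ t = t → R.xg r t ∈ M) {n : GL D.Idx K} (hn : n ∈ D.monomialSubgroup K)
    (hfix : Matrix.GeneralLinearGroup.map σ n = n) : n ∈ M := by
  obtain ⟨w, hw, hm⟩ := R.N_mono G2 hn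
  obtain ⟨n', hn', hn'M, hf', hm'⟩ := R.exists_N_fix σ hM hw
  have h1 : n * n'⁻¹ ∈ D.diagonalSubgroup K := by
    apply R.mono_one_mem_H G2 (Subgroup.mul_mem _ hn (Subgroup.inv_mem _ hn'))
    have := IsMono.mul R hm (IsMono.inv R hm')
    rwa [mul_inv_cancel] at this
  have h2 : n * n'⁻¹ ∈ M := R.H_fix_le hN σ hM h1 (by rw [map_mul, map_inv, hfix, hf'])
  have := Subgroup.mul_mem _ h2 hn'M
  rwa [inv_mul_cancel_right] at this

/-- the fixed points of a field automorphism are generated by the fixed root elements -/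
theorem fix_le (G2 : Good2 D) {N : Matrix (Fin D.rank) (Fin D.rank) ℤ} (hN : cartanM D * N = 1) (σ : K →+* K)
    (hσ : Function.Surjective σ) {M : Subgroup (GL D.Idx K)}
    (hM : ∀ r < D.nroots, ∀ t, σ t = t → R.xg r t ∈ M) {g : GL D.Idx K} (hg : g ∈ D.group K)
    (hfix : Matrix.GeneralLinearGroup.map σ g = g) : g ∈ M := by
  set sg := Matrix.GeneralLinearGroup.map (n := D.Idx) σ with hsg
  obtain ⟨b, hb, n, hn, w, hw, hm, u, hu, e⟩ := R.normal_form_exists G2 hg
  have huU : u ∈ D.posUnipotent K := by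
    rw [← UU_pos]
    exact UU_mono (fun s hs => (G.isPosRoot_iff s).mpr ⟨hs.2.1, hs.1⟩) hu
  have e2 : b * n * u = sg b * sg n * sg u := by
    rw [← map_mul, ← map_mul, ← e, hfix]
  have h1 := R.bruhat_unique_GL G2 hn (R.fsg_N G2 σ hn) hb (R.U_le_B huU) (R.fsg_B σ hb)
    (R.U_le_B (R.fsg_UU σ _ huU)) e2
  have h2 : sg n * n⁻¹ ∈ D.diagonalSubgroup K := by
    have := (Subgroup.mem_normalizer_iff.mp (R.N_le_normalizer_H G2 hn) _).mp h1
    have e3 : n * (n⁻¹ * sg n) * n⁻¹ = sg n * n⁻¹ := by group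
    rwa [e3] at this
  have hsu : sg u ∈ UU D K (negP D w) := R.fsg_UU σ _ hu
  have e3 : b * n * u = (sg b * (sg n * n⁻¹)) * n * sg u := by rw [e2]; group
  obtain ⟨e4, e5⟩ := R.normal_form_unique hb
    (Subgroup.mul_mem _ (R.fsg_B σ hb) (R.H_le_B h2)) hm hu hsu e3
  obtain ⟨u1, hu1, h, hh, rfl⟩ := exists_mul_of_mem_sup R.H_le_normalizer_U hb
  rw [map_mul] at e4
  have e6 : u1⁻¹ * sg u1 = h * (sg h * (sg n * n⁻¹))⁻¹ := by
    calc u1⁻¹ * sg u1 = u1⁻¹ * (sg u1 * sg h * (sg n * n⁻¹)) * (sg h * (sg n * n⁻¹))⁻¹ := by group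
      _ = _ := by rw [← e4]; group
  have h3 : u1⁻¹ * sg u1 ∈ D.posUnipotent K ⊓ D.diagonalSubgroup K :=
    ⟨Subgroup.mul_mem _ (Subgroup.inv_mem _ hu1) (R.fsg_UU σ _ hu1),
      e6 ▸ Subgroup.mul_mem _ hh (Subgroup.inv_mem _ (Subgroup.mul_mem _ (R.fsg_H σ hh) h2))⟩
  rw [R.U_inf_H, Subgroup.mem_bot] at h3
  have hu1f : sg u1 = u1 := (inv_mul_eq_one.mp h3).symm
  have hnf : sg (h * n) = h * n := by
    have e7 : h * n = u1⁻¹ * g * u⁻¹ := by rw [e]; group
    rw [e7, map_mul, map_mul, map_inv, map_inv, hu1f, hfix, ← e5]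
  rw [e]
  have e8 : u1 * h * n * u = u1 * (h * n) * u := by group
  rw [e8]
  exact Subgroup.mul_mem _ (Subgroup.mul_mem _ (R.U_fix_le G2 σ hM hu1 hu1f)
    (R.N_fix_le G2 hN σ hM (Subgroup.mul_mem _ (R.H_le_N hh) hn) hnf)) (R.U_fix_le G2 σ hM huU e5.symm)

end Rels

end Cfsg.Agent.Chev
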