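import Cfsg.Agent.Chev.Bruhat

/-!
# The monomial group controls fusion in the diagonal group
-/

set_option autoImplicit false

namespace Cfsg.Agent.Chev
open Cfsg.Lie

variable {F : Type*} [Field F] {D : ChevalleyDatum} {G : Good D}

namespace Rels
variable (R : Rels D G F)
include R

theorem Tor_comm {a b : GL D.Idx F} (ha : R.IsTor a) (hb : R.IsTor b) : a * b = b * a := by
  obtain ⟨χ, _, h2, _⟩ := ha
  obtain ⟨χ', _, h2', _⟩ := hb
  apply Units.ext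
  rw [Units.val_mul, Units.val_mul, h2, h2', Matrix.diagonal_mul_diagonal, Matrix.diagonal_mul_diagonal]
  congr 1
  funext x
  exact mul_comm _ _

theorem H_comm {a b : GL D.Idx F} (ha : a ∈ D.diagonalSubgroup F) (hb : b ∈ D.diagonalSubgroup F) :
    a * b = b * a := R.Tor_comm (R.H_le_Tor ha) (R.H_le_Tor hb)

theorem fusion (G2 : Good2 D) {h₁ h₂ g : GL D.Idx F} (h1 : h₁ ∈ D.diagonalSubgroup F)
    (h2 : h₂ ∈ D.diagonalSubgroup F) (hg : g ∈ D.group F) (hc : g * h₁ * g⁻¹ = h₂) :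
    ∃ n ∈ D.monomialSubgroup F, n * h₁ * n⁻¹ = h₂ := by
  obtain ⟨b, hb, n, hn, σ, hσ, hm, u, hu, rfl⟩ := R.normal_form_exists G2 hg
  refine ⟨n, hn, ?_⟩
  have hT := IsMono.of_tor R (R.H_le_Tor h1)
  have hu' : h₁⁻¹ * u * h₁ ∈ UU D F (negP D σ) := by
    have := IsMono.conj_UU R (IsMono.inv R hT) (p := negP D σ) (q := negP D σ) (fun s hs => hs.1)
      (fun s hs => by simpa using hs) u hu
    rwa [inv_inv] at this
  have hh' : n * h₁ * n⁻¹ ∈ D.diagonalSubgroup F :=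
    (Subgroup.mem_normalizer_iff.mp (R.N_le_normalizer_H G2 hn) h₁).mp h1
  have e : (b * (n * h₁ * n⁻¹)) * n * (h₁⁻¹ * u * h₁) = (h₂ * b) * n * u := by
    rw [← hc]; group
  obtain ⟨e1, -⟩ := R.normal_form_unique (Subgroup.mul_mem _ hb (R.H_le_B hh'))
    (Subgroup.mul_mem _ (R.H_le_B h2) hb) hm hu' hu e
  set h' := n * h₁ * n⁻¹ with hh'def
  obtain ⟨v, hv, k, hk, rfl⟩ := exists_mul_of_mem_sup R.H_le_normalizer_U hb
  -- v k h' = h₂ v k
  have e2 : v * h' = h₂ * v := by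
    have : v * k * h' = v * h' * k := by rw [mul_assoc, R.H_comm hk hh', ← mul_assoc]
    rw [this] at e1
    have e3 : v * h' * k = h₂ * v * k := by rw [e1]; group
    exact mul_right_cancel e3
  have h3 : h₂⁻¹ * v * h₂ ∈ D.posUnipotent F := by
    have := (Subgroup.mem_normalizer_iff.mp (R.H_le_normalizer_U (Subgroup.inv_mem _ h2)) v).mp hv
    rwa [inv_inv] at this
  have e3 : h₂ = v * h' * v⁻¹ := by rw [e2]; group
  have e4 : v⁻¹ * (h₂⁻¹ * v * h₂) = h'⁻¹ * h₂ := by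
    rw [e3]; group
  have h4 : v⁻¹ * (h₂⁻¹ * v * h₂) ∈ D.posUnipotent F ⊓ D.diagonalSubgroup F :=
    ⟨Subgroup.mul_mem _ (Subgroup.inv_mem _ hv) h3, e4 ▸ Subgroup.mul_mem _ (Subgroup.inv_mem _ hh') h2⟩
  rw [R.U_inf_H, Subgroup.mem_bot, e4] at h4
  exact inv_mul_eq_one.mp h4

end Rels

end Cfsg.Agent.Chev
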