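import Cfsg.Agent.Chev.Rel3

/-!
# Graph automorphisms as signed permutation matrices, checked by the engine
-/

set_option autoImplicit false

namespace Cfsg.Agent.Chev
open Cfsg.Lie

/-- the matrix `h_j ↦ h_{π j}`, `e_s ↦ ε s • e_{ρ s}` -/
def gMat (l n : ℕ) (F : Type*) [Field F] (π ρ : ℕ → ℕ) (ε : ℕ → ℤ) :
    Matrix (Fin l ⊕ Fin n) (Fin l ⊕ Fin n) F :=
  Matrix.of fun row col =>
    match row, col with
    | Sum.inl j', Sum.inl j => if (j' : ℕ) = π j then 1 else 0
    | Sum.inl _, Sum.inr _ => 0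
    | Sum.inr _, Sum.inl _ => 0
    | Sum.inr s', Sum.inr s => if (s' : ℕ) = ρ s then (ε s : F) else 0

noncomputable def gOp (l m : ℕ) (π ρ : ℕ → ℕ) (ε : ℕ → ℤ) (key : ℕ) : Vec :=
  bite (nlt key l)
    [⟨π key, 0, 0, 1, 0⟩]
    (bite (nlt key m)
      [⟨Nat.add l (ρ (Nat.sub key l)), 0, 0, Int.toNat (ε (Nat.sub key l)), Int.toNat (Int.neg (ε (Nat.sub key l)))⟩]
      [])

theorem ev_gOp {F : Type*} [Field F] (a b : F) (l m : ℕ) (π ρ : ℕ → ℕ) (ε : ℕ → ℤ)
    (key x : ℕ) : ev a b (gOp l m π ρ ε key) x =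
      if key < l then (if π key = x then 1 else 0)
      else if key < m then (if l + ρ (key - l) = x then (ε (key - l) : F) else 0) else 0 := by
  have hneg : ∀ c : ℤ, Int.neg c = -c := fun _ => rfl
  unfold gOp
  by_cases h0 : key < l
  · rw [(nlt_iff _ _).mpr h0, bite_true, if_pos h0]
    simp only [ev_cons, ev_nil, add_zero, Tm.val, pow_zero, mul_one, Nat.cast_one, Nat.cast_zero, sub_zero]
  · rw [(nlt_false_iff _ _).mpr h0, bite_false, if_neg h0]
    by_cases h1 : key < m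
    · rw [(nlt_iff _ _).mpr h1, bite_true, if_pos h1]
      simp only [ev_cons, ev_nil, add_zero, Tm.val, pow_zero, mul_one, hneg, toNat_sub_toNat_neg_cast,
        Nat.add_eq, Nat.sub_eq]
    · rw [(nlt_false_iff _ _).mpr h1, bite_false, if_neg h1, ev_nil]

theorem rep_gOp {l n : ℕ} {F : Type*} [Field F] (a b : F) (π ρ : ℕ → ℕ) (ε : ℕ → ℤ) (hπ : ∀ j < l, π j < l) :
    Rep (l := l) (n := n) a b (gOp l (l + n) π ρ ε) (gMat l n F π ρ ε) := by
  have hcl : ∀ i : Fin l, code (Sum.inl i : Fin l ⊕ Fin n) = (i : ℕ) := fun _ => rfl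
  have hcr : ∀ s : Fin n, code (Sum.inr s : Fin l ⊕ Fin n) = l + (s : ℕ) := fun _ => rfl
  constructor
  · intro row col
    rw [ev_gOp]
    rcases col with j | s
    · have hj := j.2
      rw [if_pos (show code (Sum.inl j : Fin l ⊕ Fin n) < l from hj)]
      rcases row with j' | s'
      · simp only [gMat, Matrix.of_apply]
        by_cases h2 : (j' : ℕ) = π j
        · rw [if_pos h2, if_pos (by rw [hcl, hcl, h2])]
        · rw [if_neg h2, if_neg (by rw [hcl, hcl]; exact fun e => h2 e.symm)]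
      · simp only [gMat, Matrix.of_apply]
        have := hπ j hj
        rw [if_neg (by rw [hcl, hcr]; omega)]
    · have hs := s.2
      rw [if_neg (show ¬ code (Sum.inr s : Fin l ⊕ Fin n) < l by rw [hcr]; omega),
        if_pos (show code (Sum.inr s : Fin l ⊕ Fin n) < l + n by rw [hcr]; omega),
        show code (Sum.inr s : Fin l ⊕ Fin n) - l = s by rw [hcr]; omega]
      rcases row with j' | s'
      · have hj' := j'.2
        simp only [gMat, Matrix.of_apply]
        rw [if_neg (by rw [hcl]; omega)]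
      · simp only [gMat, Matrix.of_apply]
        by_cases h2 : (s' : ℕ) = ρ s
        · rw [if_pos h2, if_pos (by rw [hcr, h2])]
        · rw [if_neg h2, if_neg (by rw [hcr]; omega)]
  · intro k hk row
    rw [ev_gOp, if_neg (by omega), if_neg (by omega)]

/-- tables of a graph automorphism -/
structure GAux where
  π : ℕ → ℕ
  ρ : ℕ → ℕ
  ε : ℕ → ℤ

noncomputable def Packed.Gop (P : Packed) (X : GAux) : Vec → Vec := applyOp (gOp P.l P.m X.π X.ρ X.ε)

noncomputable def chkG1 (P : Packed) (X : GAux) (s : ℕ) : Bool :=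
  band (nlt (X.ρ s) P.n) (apsEq [P.Gop X, P.X s pA] [P.X (X.ρ s) (pEta (X.ε s)), P.Gop X] P.m)

noncomputable def chkG (P : Packed) (X : GAux) : Bool :=
  band (allBelow (fun j => nlt (X.π j) P.l) P.l) (allBelow (chkG1 P X) P.n)

noncomputable def chkGInv (P : Packed) (X Y : GAux) : Bool := apsEq [P.Gop X, P.Gop Y] [] P.m

section
variable {F : Type*} [Field F] {D : ChevalleyDatum} {P : Packed}

def GAux.mat (X : GAux) (D : ChevalleyDatum) (F : Type*) [Field F] : Matrix D.Idx D.Idx F :=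
  gMat D.rank D.nroots F X.π X.ρ X.ε

theorem Fast.repG (hD : Fast D P) (X : GAux) (hπ : ∀ j < D.rank, X.π j < D.rank) (a b : F) :
    RepA (l := D.rank) (n := D.nroots) a b (P.Gop X) (X.mat D F) := by
  have h := (rep_gOp (l := D.rank) (n := D.nroots) a b X.π X.ρ X.ε hπ).repA
  unfold Packed.Gop
  rw [hD.m_eq, ← hD.bridge.rank]
  exact h

theorem graph_of_chk (hD : Fast D P) {X : GAux} (h : chkG P X = true) (s : ℕ) (hs : s < D.nroots) (t : F) :
    X.ρ s < D.nroots ∧ X.mat D F * D.x F s t = D.x F (X.ρ s) ((X.ε s : F) * t) * X.mat D F := by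
  unfold chkG at h
  rw [band_eq_true, allBelow_iff, allBelow_iff] at h
  have hπ : ∀ j < D.rank, X.π j < D.rank := by
    intro j hj
    have := (nlt_iff _ _).mp (h.1 j (hD.bridge.rank ▸ hj))
    rwa [← hD.bridge.rank] at this
  have h1 := h.2 s (hD.bridge.nroots ▸ hs)
  unfold chkG1 at h1
  rw [band_eq_true, nlt_iff, hD.m_eq, ← hD.bridge.nroots] at h1
  refine ⟨h1.1, ?_⟩
  have := prod_eq_of_apsEq (l := D.rank) (n := D.nroots) t (1 : F)
    [P.Gop X, P.X s pA] [P.X (X.ρ s) (pEta (X.ε s)), P.Gop X]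
    [X.mat D F, D.x F s (pv t 1 pA)] [D.x F (X.ρ s) (pv t 1 (pEta (X.ε s))), X.mat D F]
    ⟨hD.repG X hπ _ _, hD.repA _ _ _ hs _, trivial⟩
    ⟨hD.repA _ _ _ h1.1 _, hD.repG X hπ _ _, trivial⟩ h1.2
  simpa [pv_pEta] using this

theorem graph_inv_of_chk (hD : Fast D P) {X Y : GAux} (hX : chkG P X = true) (hY : chkG P Y = true)
    (h : chkGInv P X Y = true) : X.mat D F * Y.mat D F = 1 := by
  have hπ : ∀ (X : GAux), chkG P X = true → ∀ j < D.rank, X.π j < D.rank := by
    intro X h j hj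
    unfold chkG at h
    rw [band_eq_true, allBelow_iff, allBelow_iff] at h
    have := (nlt_iff _ _).mp (h.1 j (hD.bridge.rank ▸ hj))
    rwa [← hD.bridge.rank] at this
  unfold chkGInv at h
  rw [hD.m_eq] at h
  have := prod_eq_of_apsEq (l := D.rank) (n := D.nroots) (1 : F) (1 : F)
    [P.Gop X, P.Gop Y] [] [X.mat D F, Y.mat D F] []
    ⟨hD.repG X (hπ X hX) _ _, hD.repG Y (hπ Y hY) _ _, trivial⟩ trivial h
  simpa using this

end

end Cfsg.Agent.Chev
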