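import Cfsg.Agent.Chev.Graph

/-!
# The graph automorphism of the Chevalley group attached to checked tables
-/

set_option autoImplicit false

namespace Cfsg.Agent.Chev
open Cfsg.Lie

section
variable {F : Type*} [Field F] {D : ChevalleyDatum} {P : Packed}

/-- the invertible matrix of a pair of mutually inverse tables -/
def GAux.gl (X Y : GAux) (D : ChevalleyDatum) (F : Type*) [Field F]
    (h1 : X.mat D F * Y.mat D F = 1) (h2 : Y.mat D F * X.mat D F = 1) : GL D.Idx F :=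
  ⟨X.mat D F, Y.mat D F, h1, h2⟩

theorem graph_conj_mem (hD : Fast D P) {X Y : GAux} (hX : chkG P X = true)
    (h1 : X.mat D F * Y.mat D F = 1) (h2 : Y.mat D F * X.mat D F = 1) (g : GL D.Idx F)
    (hg : g ∈ D.group F) : X.gl Y D F h1 h2 * g * (X.gl Y D F h1 h2)⁻¹ ∈ D.group F := by
  unfold ChevalleyDatum.group at hg ⊢
  induction hg using Subgroup.closure_induction with
  | mem g hg =>
    obtain ⟨r, t, hg⟩ := hg
    apply Subgroup.subset_closure
    obtain ⟨hlt, he⟩ := graph_of_chk (F := F) hD hX r r.2 t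
    refine ⟨⟨X.ρ r, hlt⟩, (X.ε r : F) * t, ?_⟩
    have hx : ∀ (s : ℕ) (hs : s < D.nroots) (t : F), D.x F s t = D.xMat F ⟨s, hs⟩ t := by
      intro s hs t
      rw [ChevalleyDatum.x, dif_pos hs]
    rw [← hx _ hlt]
    have : (X.gl Y D F h1 h2 * g * (X.gl Y D F h1 h2)⁻¹ : GL D.Idx F).1
        = X.mat D F * D.x F r t * Y.mat D F := by
      rw [hx _ r.2, ← hg]; rfl
    show (X.gl Y D F h1 h2 * g * (X.gl Y D F h1 h2)⁻¹ : GL D.Idx F).1 = _
    rw [this, he, Matrix.mul_assoc, h1, Matrix.mul_one]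
  | one => simp
  | mul a b _ _ ha hb =>
    have : X.gl Y D F h1 h2 * (a * b) * (X.gl Y D F h1 h2)⁻¹
      = (X.gl Y D F h1 h2 * a * (X.gl Y D F h1 h2)⁻¹) * (X.gl Y D F h1 h2 * b * (X.gl Y D F h1 h2)⁻¹) := by
      group
    rw [this]
    exact Subgroup.mul_mem _ ha hb
  | inv a _ ha =>
    have : X.gl Y D F h1 h2 * a⁻¹ * (X.gl Y D F h1 h2)⁻¹
      = (X.gl Y D F h1 h2 * a * (X.gl Y D F h1 h2)⁻¹)⁻¹ := by
      group
    rw [this]
    exact Subgroup.inv_mem _ ha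

theorem graph_aut (hD : Fast D P) {X Y : GAux} (hX : chkG P X = true) (hY : chkG P Y = true)
    (hXY : chkGInv P X Y = true) (hYX : chkGInv P Y X = true) :
    ∃ α : ↥(D.group F) ≃* ↥(D.group F), ∀ (g : ↥(D.group F)) (s : ℕ) (t : F), s < D.nroots →
      ((g : GL D.Idx F) : Matrix D.Idx D.Idx F) = D.x F s t →
        ((α g : GL D.Idx F) : Matrix D.Idx D.Idx F) = D.x F (X.ρ s) ((X.ε s : F) * t) := by
  have h1 : X.mat D F * Y.mat D F = 1 := graph_inv_of_chk hD hX hY hXY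
  have h2 : Y.mat D F * X.mat D F = 1 := graph_inv_of_chk hD hY hX hYX
  have hinv : (X.gl Y D F h1 h2)⁻¹ = Y.gl X D F h2 h1 := rfl
  refine ⟨{ toFun := fun g => ⟨X.gl Y D F h1 h2 * g * (X.gl Y D F h1 h2)⁻¹, graph_conj_mem hD hX h1 h2 g g.2⟩
            invFun := fun g => ⟨Y.gl X D F h2 h1 * g * (Y.gl X D F h2 h1)⁻¹, graph_conj_mem hD hY h2 h1 g g.2⟩
            left_inv := ?_
            right_inv := ?_
            map_mul' := ?_ }, ?_⟩
  · intro g
    apply Subtype.ext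
    show Y.gl X D F h2 h1 * (X.gl Y D F h1 h2 * g * (X.gl Y D F h1 h2)⁻¹) * (Y.gl X D F h2 h1)⁻¹ = g
    rw [← hinv]; group
  · intro g
    apply Subtype.ext
    show X.gl Y D F h1 h2 * (Y.gl X D F h2 h1 * g * (Y.gl X D F h2 h1)⁻¹) * (X.gl Y D F h1 h2)⁻¹ = g
    rw [← hinv]; group
  · intro a b
    apply Subtype.ext
    show X.gl Y D F h1 h2 * (a * b) * (X.gl Y D F h1 h2)⁻¹ = (X.gl Y D F h1 h2 * a * (X.gl Y D F h1 h2)⁻¹) * (X.gl Y D F h1 h2 * b * (X.gl Y D F h1 h2)⁻¹)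
    group
  · intro g s t hs hg
    show X.mat D F * ((g : GL D.Idx F) : Matrix D.Idx D.Idx F) * Y.mat D F = _
    rw [hg, (graph_of_chk (F := F) hD hX s hs t).2, Matrix.mul_assoc, h1, Matrix.mul_one]

end

end Cfsg.Agent.Chev
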