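import Cfsg.Agent.Chev.Bruhat

/-!
# Parabolic subgroups, Levi decomposition
-/

set_option autoImplicit false

namespace Cfsg.Agent.Chev
open Cfsg.Lie

variable {D : ChevalleyDatum}

/-- descent fact: a positive root which is not fundamental is made lower by a reflection in its support -/
def Descent (D : ChevalleyDatum) : Prop :=
  ∀ s < D.nroots, D.nroots / 2 ≤ s → (∃ i < D.rank, s = D.simple i) ∨
    ∃ j < D.rank, (D.coroot.getD s #[]).getD j 0 ≠ 0 ∧ 0 < D.cartan j s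

instance (D : ChevalleyDatum) : Decidable (Descent D) := by unfold Descent; infer_instance

open Classical in
/-- the level of a root with respect to `J` -/
noncomputable def Good.fJ (G : Good D) (J : Set ℕ) (r : ℕ) : ℤ := G.lin (fun i => if i ∈ J then 0 else 1) r

theorem Good.fJ_addFn (G : Good D) (J : Set ℕ) : AddFn D (G.fJ J) := G.lin_addFn _

theorem Good.fJ_simple (G : Good D) (J : Set ℕ) {i : ℕ} (hi : i < D.rank) :
    G.fJ J (D.simple i) = (open Classical in if i ∈ J then 0 else 1) := G.lin_simple _ i hi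

theorem Good.fJ_refl (G : Good D) (J : Set ℕ) {i : ℕ} (hi : i < D.rank) (hiJ : i ∈ J) {r : ℕ} (hr : r < D.nroots) :
    G.fJ J (D.reflectRoot i r) = G.fJ J r := by
  unfold Good.fJ
  rw [G.lin_refl' i hi _ r hr, if_pos hiJ]; ring

theorem Good.fJ_nonneg (G : Good D) (J : Set ℕ) {r : ℕ} (hr : r < D.nroots) (hp : D.nroots / 2 ≤ r) :
    0 ≤ G.fJ J r := by
  unfold Good.fJ Good.lin
  apply Finset.sum_nonneg
  intro j hj
  have := (G.rc_sign r hr j (Finset.mem_range.mp hj)).1 hp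
  beta_reduce
  split_ifs <;> simp [this]

theorem Good.inJ_iff_rc (G : Good D) (J : Set ℕ) (r : ℕ) :
    D.InRootSub J r ↔ r < D.nroots ∧ ∀ i < D.rank, i ∉ J → G.rc r i = 0 := by
  unfold ChevalleyDatum.InRootSub
  constructor
  · rintro ⟨h1, h2⟩
    exact ⟨h1, fun i hi hJ => ((G.H_sign r h1 i hi).1).mp (h2 i hi hJ)⟩
  · rintro ⟨h1, h2⟩
    exact ⟨h1, fun i hi hJ => ((G.H_sign r h1 i hi).1).mpr (h2 i hi hJ)⟩

theorem Good.fJ_eq_zero_of_pos (G : Good D) (J : Set ℕ) {r : ℕ} (hr : r < D.nroots) (hp : D.nroots / 2 ≤ r)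
    (h : G.fJ J r = 0) : ∀ i < D.rank, i ∉ J → G.rc r i = 0 := by
  unfold Good.fJ Good.lin at h
  rw [Finset.sum_eq_zero_iff_of_nonneg] at h
  · intro i hi hJ
    have := h i (Finset.mem_range.mpr hi)
    beta_reduce at this
    rwa [if_neg hJ, mul_one] at this
  · intro j hj
    have := (G.rc_sign r hr j (Finset.mem_range.mp hj)).1 hp
    beta_reduce
    split_ifs <;> simp [this]

theorem Good.inJ_iff (G : Good D) (J : Set ℕ) (r : ℕ) : D.InRootSub J r ↔ r < D.nroots ∧ G.fJ J r = 0 := by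
  rw [G.inJ_iff_rc]
  constructor
  · rintro ⟨h1, h2⟩
    refine ⟨h1, ?_⟩
    unfold Good.fJ Good.lin
    apply Finset.sum_eq_zero
    intro j hj
    beta_reduce
    by_cases hJ : j ∈ J
    · rw [if_pos hJ, mul_zero]
    · rw [h2 j (Finset.mem_range.mp hj) hJ, zero_mul]
  · rintro ⟨h1, h2⟩
    refine ⟨h1, ?_⟩
    by_cases hp : D.nroots / 2 ≤ r
    · exact G.fJ_eq_zero_of_pos J h1 hp h2
    · have h3 := G.half_le_neg (not_le.mp hp)
      have h4 : G.fJ J (D.neg r) = 0 := by rw [(G.fJ_addFn J).neg r h1, h2, neg_zero]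
      intro i hi hJ
      have := G.fJ_eq_zero_of_pos J (G.neg_lt h1) h3 h4 i hi hJ
      rw [G.rc_neg r h1 i hi] at this
      omega

theorem Good.posNotJ_iff (G : Good D) (J : Set ℕ) (r : ℕ) :
    (D.IsPosRoot r ∧ ¬ D.InRootSub J r) ↔ r < D.nroots ∧ 0 < G.fJ J r := by
  rw [G.isPosRoot_iff, G.inJ_iff]
  constructor
  · rintro ⟨⟨h1, h2⟩, h3⟩
    refine ⟨h2, lt_of_le_of_ne (G.fJ_nonneg J h2 h1) ?_⟩
    intro h
    exact h3 ⟨h2, h.symm⟩
  · rintro ⟨h1, h2⟩
    refine ⟨⟨?_, h1⟩, fun h => by omega⟩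
    by_contra hp
    have h3 := G.half_le_neg (not_le.mp hp)
    have h4 := G.fJ_nonneg J (G.neg_lt h1) h3
    rw [(G.fJ_addFn J).neg r h1] at h4
    omega

/-- the roots of the unipotent radical -/
def Good.pU (G : Good D) (J : Set ℕ) : ℕ → Prop := fun r => r < D.nroots ∧ 0 < G.fJ J r
/-- the roots of the Levi factor -/
def Good.pL (G : Good D) (J : Set ℕ) : ℕ → Prop := fun r => r < D.nroots ∧ G.fJ J r = 0
/-- the roots of the parabolic -/
def Good.pP (G : Good D) (J : Set ℕ) : ℕ → Prop := fun r => r < D.nroots ∧ 0 ≤ G.fJ J r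

variable {G : Good D} {F : Type*} [Field F]

theorem UU_congr {p q : ℕ → Prop} (h : ∀ s, p s ↔ q s) : UU D F p = UU D F q :=
  le_antisymm (UU_mono fun s => (h s).mp) (UU_mono fun s => (h s).mpr)

theorem UJ_eq (G : Good D) (J : Set ℕ) : D.unipotentRadical F J = UU D F (G.pU J) := by
  rw [show UU D F (G.pU J) = UU D F (fun r => D.IsPosRoot r ∧ ¬ D.InRootSub J r) from
    (UU_congr (G.posNotJ_iff J)).symm]
  unfold ChevalleyDatum.unipotentRadical UU
  congr 1
  ext g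
  simp only [Set.mem_ofPred_eq, and_assoc]

theorem LJ_eq (G : Good D) (J : Set ℕ) : D.leviSubgroup F J = D.diagonalSubgroup F ⊔ UU D F (G.pL J) := by
  rw [show UU D F (G.pL J) = UU D F (D.InRootSub J) from (UU_congr (G.inJ_iff J)).symm]
  rfl

theorem pP_iff (G : Good D) (J : Set ℕ) (r : ℕ) : (D.IsPosRoot r ∨ D.InRootSub J r) ↔ G.pP J r := by
  rw [G.isPosRoot_iff, G.inJ_iff]
  constructor
  · rintro (⟨h1, h2⟩ | ⟨h1, h2⟩)
    · exact ⟨h2, G.fJ_nonneg J h2 h1⟩
    · exact ⟨h1, h2.ge⟩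
  · rintro ⟨h1, h2⟩
    rcases h2.eq_or_lt with h | h
    · exact Or.inr ⟨h1, h.symm⟩
    · have := ((G.posNotJ_iff J r).mpr ⟨h1, h⟩).1
      exact Or.inl ((G.isPosRoot_iff r).mp this)

namespace Rels
variable (R : Rels D G F)
include R

theorem nj_mem_P (J : Set ℕ) {j : ℕ} (hj : j < D.rank) (hJ : j ∈ J) :
    R.ng (D.simple j) 1 ∈ D.parabolicSubgroup F J :=
  Subgroup.mem_sup_right (Subgroup.subset_closure ⟨j, hJ, hj, R.coe_ng _ _⟩)

theorem B_le_P (J : Set ℕ) : D.borelSubgroup F ≤ D.parabolicSubgroup F J := le_sup_left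

theorem P_le {J : Set ℕ} {K : Subgroup (GL D.Idx F)} (h1 : D.borelSubgroup F ≤ K)
    (h2 : ∀ j < D.rank, j ∈ J → R.ng (D.simple j) 1 ∈ K) : D.parabolicSubgroup F J ≤ K := by
  apply sup_le h1
  rw [Subgroup.closure_le]
  rintro g ⟨j, hJ, hj, hg⟩
  rw [(R.eq_wg_iff _ _).mp hg]
  exact h2 j hj hJ

/-- conjugating by `n_j` inside a subgroup containing it -/
theorem refl_mem {K : Subgroup (GL D.Idx F)} {i : ℕ} (hi : i < D.rank) (hn : R.ng (D.simple i) 1 ∈ K) {s : ℕ}
    (hs : s < D.nroots) (ih : ∀ t, R.xg s t ∈ K) (t : F) : R.xg (D.reflectRoot i s) t ∈ K := by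
  have h1 := R.ng_conj hi hs ((G.eta i s : F) * t)
  rw [← mul_assoc, R.eta_mul_self hi hs, one_mul] at h1
  rw [← h1]
  exact Subgroup.mul_mem _ (Subgroup.mul_mem _ hn (ih _)) (Subgroup.inv_mem _ hn)

theorem neg_mem_P (hd : Descent D) (J : Set ℕ) : ∀ s, s < D.nroots → D.nroots / 2 ≤ s → G.fJ J s = 0 →
    ∀ t, R.xg (D.neg s) t ∈ D.parabolicSubgroup F J := by
  intro s
  induction s using Nat.strong_induction_on with
  | _ s ih =>
    intro hs hp h0
    have hrc := G.fJ_eq_zero_of_pos J hs hp h0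
    have simple_case : ∀ i < D.rank, s = D.simple i → ∀ t, R.xg (D.neg s) t ∈ D.parabolicSubgroup F J := by
      rintro i hi rfl t
      have hiJ : i ∈ J := by
        by_contra hJ
        have := hrc i hi hJ
        rw [G.rc_simple i hi i hi, if_pos rfl] at this
        exact one_ne_zero this
      rw [← G.refl_simple i]
      exact R.refl_mem hi (R.nj_mem_P J hi hiJ) hs
        (fun t => R.B_le_P J (R.U_le_B (R.xg_mem_U _ hp hs t))) t
    rcases hd s hs hp with ⟨i, hi, rfl⟩ | ⟨j, hj, hne, hpos⟩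
    · exact simple_case i hi rfl
    · by_cases hsj : s = D.simple j
      · exact simple_case j hj hsj
      have hjJ : j ∈ J := by
        by_contra hJ
        exact hne (((G.H_sign s hs j hj).1).mpr (hrc j hj hJ))
      have h1 := G.refl_pos hj hs hp hsj
      have h2 := G.refl_lt j hj s hs
      have h3 : D.reflectRoot j s < s := by
        rw [← G.ht_lt_iff h2 hs]
        unfold Good.ht
        rw [G.lin_refl' j hj _ s hs]
        have : 0 < wgt D.rank j := by
          unfold wgt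
          have : 0 < Nat.pow 32 ((D.rank.sub 1).sub j) := Nat.pow_pos (by norm_num)
          exact Int.natCast_pos.mpr this
        nlinarith
      have h4 := ih _ h3 h2 h1.1 (by rw [G.fJ_refl J hj hjJ hs]; exact h0)
      intro t
      have h5 := R.refl_mem hj (R.nj_mem_P J hj hjJ) (G.neg_lt h2) h4 t
      rwa [G.refl_neg j hj _ h2, G.refl_refl j hj s hs] at h5

theorem xg_mem_P (hd : Descent D) (J : Set ℕ) {r : ℕ} (hr : G.pP J r) (t : F) :
    R.xg r t ∈ D.parabolicSubgroup F J := by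
  obtain ⟨h1, h2⟩ := hr
  by_cases hp : D.nroots / 2 ≤ r
  · exact R.B_le_P J (R.U_le_B (R.xg_mem_U _ hp h1 t))
  · have h3 := G.half_le_neg (not_le.mp hp)
    have h4 := G.fJ_nonneg J (G.neg_lt h1) h3
    rw [(G.fJ_addFn J).neg r h1] at h4
    have h5 : G.fJ J (D.neg r) = 0 := by rw [(G.fJ_addFn J).neg r h1]; omega
    have := R.neg_mem_P hd J _ (G.neg_lt h1) h3 h5 t
    rwa [G.neg_neg h1] at this

theorem nj_mem_UU (J : Set ℕ) {j : ℕ} (hj : j < D.rank) (hJ : j ∈ J) :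
    R.ng (D.simple j) 1 ∈ UU D F (G.pL J) := by
  have h1 : G.pL J (D.simple j) := ⟨G.simple_lt j hj, by rw [G.fJ_simple J hj, if_pos hJ]⟩
  have h2 : G.pL J (D.neg (D.simple j)) :=
    ⟨G.neg_lt h1.1, by rw [(G.fJ_addFn J).neg _ h1.1, h1.2, neg_zero]⟩
  rw [R.ng_eq]
  exact Subgroup.mul_mem _ (Subgroup.mul_mem _ (R.xg_mem_UU h1 _) (R.xg_mem_UU h2 _)) (R.xg_mem_UU h1 _)

theorem P_eq (hd : Descent D) (J : Set ℕ) :
    D.parabolicSubgroup F J = D.diagonalSubgroup F ⊔ UU D F (G.pP J) := by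
  apply le_antisymm
  · apply R.P_le
    · apply sup_le _ le_sup_left
      refine le_trans ?_ le_sup_right
      rw [← UU_pos]
      exact UU_mono (fun s hs => (pP_iff G J s).mp (Or.inl hs))
    · intro j hj hJ
      exact Subgroup.mem_sup_right (UU_mono (fun s hs => ⟨hs.1, hs.2.ge⟩) (R.nj_mem_UU J hj hJ))
  · apply sup_le (R.H_le_B.trans (R.B_le_P J))
    exact R.UU_le (fun s hs u => R.xg_mem_P hd J hs u)

end Rels

end Cfsg.Agent.Chev
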