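import Cfsg.Agent.Chev.Closed
import Cfsg.Agent.Chev.Para

/-!
# Products of root elements along an arbitrary admissible order of the positive roots
-/

set_option autoImplicit false
set_option linter.unusedSectionVars false
set_option linter.unusedVariables false

namespace Cfsg.Agent.Chev
open Cfsg.Lie
open scoped MatrixGroups

variable {D : ChevalleyDatum} {G : Good D} {F : Type*} [Field F]

/-- every suffix of the list is closed under the commutator formula with the preceding root -/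
def SC (D : ChevalleyDatum) : List ℕ → Prop
  | [] => True
  | r :: L => (∀ s ∈ L, s ≠ r ∧ ∀ c ∈ D.commTerms r s, c.1 ∈ L) ∧ SC D L

instance (D : ChevalleyDatum) : ∀ L, Decidable (SC D L)
  | [] => isTrue trivial
  | r :: L => by
    unfold SC
    haveI := instDecidableSC D L
    infer_instance

namespace Rels
variable (R : Rels D G F)
include R

/-- the product of root elements along a list -/
def prodL (t : ℕ → F) (L : List ℕ) : GL D.Idx F := (L.map fun r => R.xg r (t r)).prod

theorem prodL_nil (t : ℕ → F) : R.prodL t [] = 1 := rfl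

theorem prodL_cons (t : ℕ → F) (r : ℕ) (L : List ℕ) : R.prodL t (r :: L) = R.xg r (t r) * R.prodL t L := by
  simp [prodL]

theorem prodL_append (t : ℕ → F) (L L' : List ℕ) : R.prodL t (L ++ L') = R.prodL t L * R.prodL t L' := by
  simp [prodL]

theorem prodL_congr {t t' : ℕ → F} {L : List ℕ} (h : ∀ r ∈ L, t r = t' r) : R.prodL t L = R.prodL t' L := by
  unfold prodL
  congr 1
  apply List.map_congr_left
  intro r hr
  rw [h r hr]

theorem prodL_mem {p : ℕ → Prop} (t : ℕ → F) (L : List ℕ) (h : ∀ r ∈ L, p r ∨ t r = 0) :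
    R.prodL t L ∈ UU D F p := by
  apply Subgroup.list_prod_mem
  intro x hx
  rw [List.mem_map] at hx
  obtain ⟨r, hr, rfl⟩ := hx
  rcases h r hr with h1 | h1
  · exact R.xg_mem_UU h1 _
  · rw [h1, R.xg_zero]; exact Subgroup.one_mem _

theorem exists_prodP (p : ℕ → Prop)
    (hp : ∀ r s, r < D.nroots → s < D.nroots → p r → p s → s ≠ r → ∀ c ∈ D.commTerms r s, p c.1) :
    ∀ (L : List ℕ), SC D L →
    (∀ r ∈ L, D.nroots / 2 ≤ r ∧ r < D.nroots) → ∀ g ∈ UU D F (fun s => s ∈ L ∧ p s),
    ∃ t : ℕ → F, (∀ r, ¬ p r → t r = 0) ∧ g = R.prodL t L := by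
  intro L
  induction L with
  | nil =>
    intro _ _ g hg
    have : UU D F (fun s => s ∈ ([] : List ℕ) ∧ p s) ≤ ⊥ := by
      apply R.UU_le
      rintro s ⟨h1, _⟩ u
      simp at h1
    exact ⟨fun _ => 0, fun _ _ => rfl, by rw [prodL_nil]; exact this hg⟩
  | cons k L ih =>
    intro hSC hpos g hg
    obtain ⟨hk, hSC'⟩ := hSC
    have hpos' : ∀ r ∈ L, D.nroots / 2 ≤ r ∧ r < D.nroots := fun r hr => hpos r (List.mem_cons_of_mem _ hr)
    obtain ⟨hk1, hk3⟩ := hpos k List.mem_cons_self
    have hkL : k ∉ L := fun h => (hk k h).1 rfl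
    by_cases hfk : p k
    · have h1 : UU D F (fun s => s ∈ k :: L ∧ p s) ≤ D.rootSubgroup F k ⊔ UU D F (fun s => s ∈ L ∧ p s) := by
        apply R.UU_le
        rintro s ⟨h1, h3⟩ u
        rcases List.mem_cons.mp h1 with h | h
        · subst h; exact Subgroup.mem_sup_left (R.xg_mem_rootSubgroup _ u)
        · exact Subgroup.mem_sup_right (R.xg_mem_UU (p := fun s => s ∈ L ∧ p s) ⟨h, h3⟩ u)
      have h2 : D.rootSubgroup F k ≤ Subgroup.normalizer (UU D F (fun s => s ∈ L ∧ p s) : Set (GL D.Idx F)) := by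
        apply R.rootSubgroup_le
        intro t
        apply R.xg_normalizes _ k hk3
        rintro s ⟨hs1, hs3⟩
        obtain ⟨hs4, hs2⟩ := hpos' s hs1
        have hnl := G.neg_lt_half hk3 hk1
        refine ⟨hs2, (hk s hs1).1, by omega, ?_⟩
        intro c hc
        exact ⟨(hk s hs1).2 c hc, hp k s hk3 hs2 hfk hs3 (hk s hs1).1 c hc⟩
      have h3 : g ∈ ((D.rootSubgroup F k ⊔ UU D F (fun s => s ∈ L ∧ p s) : Subgroup (GL D.Idx F)) :
          Set (GL D.Idx F)) := h1 hg
      rw [Subgroup.coe_mul_of_left_le_normalizer_right _ _ h2, Set.mem_mul] at h3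
      obtain ⟨x, hx, g', hg', rfl⟩ := h3
      obtain ⟨a, rfl⟩ := (R.mem_rootSubgroup k x).mp hx
      obtain ⟨t', ht', rfl⟩ := ih hSC' hpos' g' hg'
      refine ⟨Function.update t' k a, ?_, ?_⟩
      · intro r hr
        rw [Function.update_of_ne (fun e : r = k => hr (by rw [e]; exact hfk))]
        exact ht' r hr
      · rw [prodL_cons, Function.update_self]
        congr 1
        apply R.prodL_congr
        intro r hr1
        rw [Function.update_of_ne (fun e : r = k => hkL (e ▸ hr1))]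
    · have h1 : UU D F (fun s => s ∈ k :: L ∧ p s) ≤ UU D F (fun s => s ∈ L ∧ p s) := by
        apply UU_mono
        rintro s ⟨h1, h3⟩
        refine ⟨?_, h3⟩
        rcases List.mem_cons.mp h1 with h | h
        · exact absurd (h ▸ h3) hfk
        · exact h
      obtain ⟨t', ht', e⟩ := ih hSC' hpos' g (h1 hg)
      refine ⟨Function.update t' k 0, ?_, ?_⟩
      · intro r hr
        by_cases h : r = k
        · subst h; rw [Function.update_self]
        · rw [Function.update_of_ne h]; exact ht' r hr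
      · rw [prodL_cons, Function.update_self, R.xg_zero, one_mul, e]
        apply R.prodL_congr
        intro r hr1
        rw [Function.update_of_ne (fun e : r = k => hkL (e ▸ hr1))]

theorem exists_prodL {f : ℕ → ℤ} (hf : AddFn D f) (L : List ℕ) (hSC : SC D L)
    (hpos : ∀ r ∈ L, D.nroots / 2 ≤ r ∧ r < D.nroots) : ∀ g ∈ UU D F (fun s => s ∈ L ∧ f s < 0),
    ∃ t : ℕ → F, (∀ r, ¬ f r < 0 → t r = 0) ∧ g = R.prodL t L := by
  apply R.exists_prodP (fun s => f s < 0) _ L hSC hpos
  intro r s hr hs h1 h2 _ c hc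
  obtain ⟨_, h2', h3, h4'⟩ := commTerms_add G hf hr hs c hc
  have e1 : (1 : ℤ) ≤ (c.2.2.1 : ℤ) := by exact_mod_cast h2'
  have e2 : (1 : ℤ) ≤ (c.2.2.2 : ℤ) := by exact_mod_cast h3
  show f c.1 < 0
  rw [h4']
  nlinarith

/-- uniqueness of the coordinates along an admissible order, over a finite field -/
theorem prodL_inj (G2 : Good2 D) [Fintype F] {f : ℕ → ℤ} (hf : AddFn D f) (L : List ℕ) (hSC : SC D L)
    (hL : ∀ r, r ∈ L ↔ D.nroots / 2 ≤ r ∧ r < D.nroots) {t t' : ℕ → F} (ht : ∀ r ∈ L, ¬ f r < 0 → t r = 0)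
    (ht' : ∀ r ∈ L, ¬ f r < 0 → t' r = 0) (e : R.prodL t L = R.prodL t' L) : ∀ r ∈ L, t r = t' r := by
  classical
  let S := G.posF.filter (fun r : Fin D.nroots => f r < 0)
  let ext : (S → F) → ℕ → F := fun t r =>
    if h : r < D.nroots ∧ D.nroots / 2 ≤ r ∧ f r < 0 then
      t ⟨⟨r, h.1⟩, Finset.mem_filter.mpr ⟨(G.mem_posF _).mpr h.2.1, h.2.2⟩⟩ else 0
  have hext : ∀ t r, ¬ f r < 0 → ext t r = 0 := by
    intro t r hr
    simp only [ext]
    rw [dif_neg (fun h => hr h.2.2)]
  have hUU : UU D F (geN D f (D.nroots / 2)) = UU D F (fun s => s ∈ L ∧ f s < 0) := by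
    apply UU_congr
    intro s
    rw [hL]
    unfold geN
    tauto
  let φ : (S → F) → UU D F (geN D f (D.nroots / 2)) := fun t =>
    ⟨R.prodL (ext t) L, by
      rw [hUU]
      apply R.prodL_mem
      intro r hr
      by_cases h : f r < 0
      · exact Or.inl ⟨hr, h⟩
      · exact Or.inr (hext t r h)⟩
  have hsurj : Function.Surjective φ := by
    rintro ⟨g, hg⟩
    obtain ⟨t0, ht0, e⟩ := R.exists_prodL hf L hSC (fun r hr => (hL r).mp hr) g (hUU ▸ hg)
    refine ⟨fun i => t0 i.1, ?_⟩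
    apply Subtype.ext
    simp only [φ]
    rw [e]
    apply R.prodL_congr
    intro r h1
    obtain ⟨h1, h2⟩ := (hL r).mp h1
    simp only [ext]
    by_cases h : f r < 0
    · rw [dif_pos ⟨h2, h1, h⟩]
    · rw [dif_neg (fun h' => h h'.2.2), ht0 r h]
  have hcard : Nat.card (S → F) ≤ Nat.card (UU D F (geN D f (D.nroots / 2))) := by
    rw [R.card_UU_f G2 hf, Nat.card_fun, Nat.card_eq_fintype_card, Nat.card_eq_fintype_card, Fintype.card_coe]
    exact le_refl _
  have hbij := hsurj.bijective_of_nat_card_le hcard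
  have key : ∀ t : ℕ → F, (∀ r ∈ L, ¬ f r < 0 → t r = 0) → R.prodL t L = R.prodL (ext (fun i => t i.1)) L := by
    intro t ht
    apply R.prodL_congr
    intro r h0
    obtain ⟨h1, h2⟩ := (hL r).mp h0
    simp only [ext]
    by_cases h : f r < 0
    · rw [dif_pos ⟨h2, h1, h⟩]
    · rw [dif_neg (fun h' => h h'.2.2), ht r h0 h]
  have e2 : φ (fun i => t i.1) = φ (fun i => t' i.1) := by
    apply Subtype.ext
    simp only [φ]
    rw [← key t ht, ← key t' ht', e]
  have e3 : (fun i : S => t i.1) = (fun i : S => t' i.1) := hbij.1 e2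
  intro r hr
  obtain ⟨h1, h2⟩ := (hL r).mp hr
  by_cases h : f r < 0
  · have hmem : (⟨r, h2⟩ : Fin D.nroots) ∈ S := Finset.mem_filter.mpr ⟨(G.mem_posF _).mpr h1, h⟩
    have h5 := congrFun e3 ⟨⟨r, h2⟩, hmem⟩
    exact h5
  · rw [ht r hr h, ht' r hr h]

end Rels

end Cfsg.Agent.Chev
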