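import Cfsg.Agent.Chev.Thy8

/-!
# Conjugation of `h_s(t)` by the fundamental monomial elements
-/

set_option autoImplicit false

namespace Cfsg.Agent.Chev
open Cfsg.Lie

variable {F : Type*} [Field F] {D : ChevalleyDatum} {G : Good D}

namespace Rels
variable (R : Rels D G F)
include R

theorem hg_mul {r : ℕ} (hr : r < D.nroots) {a b : F} (ha : a ≠ 0) (hb : b ≠ 0) :
    R.hg r a * R.hg r b = R.hg r (a * b) := by
  apply Units.ext
  rw [Units.val_mul, R.coe_hg, R.coe_hg, R.coe_hg, R.hmat r hr a ha, R.hmat r hr b hb,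
    R.hmat r hr _ (mul_ne_zero ha hb), Matrix.diagonal_mul_diagonal]
  congr 1
  funext x
  rw [mul_zpow]

theorem ng_conj_hg {i : ℕ} (hi : i < D.rank) {s : ℕ} (hs : s < D.nroots) {t : F} (ht : t ≠ 0) :
    R.ng (D.simple i) 1 * R.hg s t * (R.ng (D.simple i) 1)⁻¹ = R.hg (D.reflectRoot i s) t := by
  have hw := G.refl_lt i hi s hs
  have h1 : R.ng (D.simple i) 1 * R.hg s t * (R.ng (D.simple i) 1)⁻¹ =
      R.ng (D.reflectRoot i s) ((G.eta i s : F) * t) * R.ng (D.reflectRoot i s) ((G.eta i s : F) * (-1)) := by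
    rw [← R.ng_conj_ng hi hs, ← R.ng_conj_ng hi hs, hg_eq]; group
  rw [h1]
  rcases G.eta_sq i hi s hs with h | h
  · rw [h]
    simp only [Int.cast_one, one_mul]
    rw [← hg_eq]
  · rw [h]
    simp only [Int.cast_neg, Int.cast_one, neg_mul, one_mul, neg_neg]
    have h2 : R.ng (D.reflectRoot i s) (-t) * R.ng (D.reflectRoot i s) 1 =
        R.hg (D.reflectRoot i s) (-t) * (R.hg (D.reflectRoot i s) (-1))⁻¹ := by
      rw [hg_eq, hg_eq, ← R.ng_inv _ 1]; group
    have h3 : R.hg (D.reflectRoot i s) t * R.hg (D.reflectRoot i s) (-1) = R.hg (D.reflectRoot i s) (-t) := by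
      rw [R.hg_mul hw ht (by simp)]; simp
    rw [h2, ← h3]; group

end Rels

end Cfsg.Agent.Chev
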