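import Cfsg.Agent.Chev.Bruhat

/-!
# Perfectness
-/

set_option autoImplicit false
set_option linter.unusedSectionVars false
set_option linter.unusedVariables false

namespace Cfsg.Agent.Chev
open Cfsg.Lie
open scoped MatrixGroups

variable {D : ChevalleyDatum} {G : Good D} {F : Type*} [Field F]

/-- every root is the sum of two roots spanning a system of type `A₂` -/
def SumA2 (D : ChevalleyDatum) : Prop :=
  ∀ v < D.nroots, ∃ r s : ℕ, ∃ c : ℤ, r < D.nroots ∧ s < D.nroots ∧ s ≠ r ∧ s ≠ D.neg r ∧ (c = 1 ∨ c = -1) ∧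
    D.commTerms r s = [(v, c, 1, 1)]

theorem SumA2.of_chk (wr ws : List ℕ) (wc : List ℤ)
    (h : (List.range D.nroots).all (fun v => decide (wr.getD v 0 < D.nroots ∧ ws.getD v 0 < D.nroots ∧
      ws.getD v 0 ≠ wr.getD v 0 ∧ ws.getD v 0 ≠ D.neg (wr.getD v 0) ∧ (wc.getD v 0 = 1 ∨ wc.getD v 0 = -1) ∧
      D.commTerms (wr.getD v 0) (ws.getD v 0) = [(v, wc.getD v 0, 1, 1)])) = true) : SumA2 D := by
  intro v hv
  rw [List.all_eq_true] at h
  exact ⟨_, _, _, of_decide_eq_true (h v (List.mem_range.mpr hv))⟩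

/-- `⟨r, r⟩ = 2` -/
def PairDiag (D : ChevalleyDatum) : Prop := ∀ r < D.nroots, pairing D r r = 2

namespace Rels
variable (R : Rels D G F)
include R

theorem hg_conj {r s : ℕ} (hr : r < D.nroots) (hs : s < D.nroots) {c : F} (hc : c ≠ 0) (t : F) :
    R.hg r c * R.xg s t * (R.hg r c)⁻¹ = R.xg s (c ^ pairing D r s * t) := by
  have : R.hg r c * R.xg s t = R.xg s (c ^ pairing D r s * t) * R.hg r c := by
    apply Units.ext
    rw [Units.val_mul, Units.val_mul, coe_hg, coe_xg, coe_xg, R.hmat r hr c hc,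
      diag_mul_x G (G.pairing_addFn r) c hc s hs t]
  rw [this]; group

theorem hg_mem_group {r : ℕ} (hr : r < D.nroots) {c : F} (hc : c ≠ 0) : R.hg r c ∈ D.group F :=
  R.H_le_group (R.hg_mem_H hr hc)

/-- the torus trick -/
theorem xg_mem_comm_of_tor {r s : ℕ} (hr : r < D.nroots) (hs : s < D.nroots) {c : F} (hc : c ≠ 0)
    (h1 : c ^ pairing D r s ≠ 1) (w : F) : R.xg s w ∈ ⁅D.group F, D.group F⁆ := by
  have h2 : c ^ pairing D r s - 1 ≠ 0 := sub_ne_zero.mpr h1
  have h3 := Subgroup.commutator_mem_commutator (R.hg_mem_group hr hc) (R.xg_mem_group s (w / (c ^ pairing D r s - 1)))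
  rw [commutatorElement_def, R.hg_conj hr hs hc, R.xg_inv, R.xg_add] at h3
  have h4 : c ^ pairing D r s * (w / (c ^ pairing D r s - 1)) + -(w / (c ^ pairing D r s - 1)) = w := by
    field_simp
    ring
  rwa [h4] at h3

/-- the commutator trick -/
theorem xg_mem_comm_of_terms {r s v : ℕ} {c : ℤ} (hr : r < D.nroots) (hs : s < D.nroots) (h1 : s ≠ r)
    (h2 : s ≠ D.neg r) (hc : (c : F) ≠ 0) (ht : D.commTerms r s = [(v, c, 1, 1)]) (w : F) :
    R.xg v w ∈ ⁅D.group F, D.group F⁆ := by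
  have h3 := R.comm_g hr hs h1 h2 (-1) (w / c)
  have h4 : R.wg (D.commWord F r s (-1) (w / c)) = R.xg v w := by
    unfold ChevalleyDatum.commWord
    rw [ht]
    simp only [wg, List.map_cons, List.map_nil, List.prod_cons, List.prod_nil, mul_one]
    congr 1
    field_simp
  rw [h4] at h3
  have h5 := Subgroup.commutator_mem_commutator (Subgroup.inv_mem _ (R.xg_mem_group s (w / c)))
    (Subgroup.inv_mem _ (R.xg_mem_group r (-1)))
  rw [commutatorElement_def, inv_inv, inv_inv] at h5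
  have h6 : (R.xg s (w / c))⁻¹ * (R.xg r (-1))⁻¹ * R.xg s (w / c) * R.xg r (-1) = R.xg v w := by
    calc _ = (R.xg s (w / c))⁻¹ * ((R.xg r (-1))⁻¹ * R.xg s (w / c) * R.xg r (-1)) := by group
      _ = _ := by rw [h3]; group
  rwa [h6] at h5

theorem perfect_of (h : ∀ r < D.nroots, ∀ w : F, R.xg r w ∈ ⁅D.group F, D.group F⁆) :
    commutator ↥(D.group F) = ⊤ := by
  have h1 : D.group F ≤ ⁅D.group F, D.group F⁆ := by
    unfold ChevalleyDatum.group
    rw [Subgroup.closure_le]
    rintro g ⟨r, t, hg⟩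
    have : g = R.xg r t := by
      apply (R.eq_xg_iff _ _ _).mp
      rw [hg, ChevalleyDatum.x, dif_pos r.2]
    rw [this]
    exact h r r.2 t
  apply Subgroup.map_injective (D.group F).subtype_injective
  rw [commutator_def, Subgroup.map_commutator, ← MonoidHom.range_eq_map, Subgroup.range_subtype]
  refine le_antisymm ?_ h1
  rw [Subgroup.commutator_le]
  intro a ha b hb
  rw [commutatorElement_def]
  exact Subgroup.mul_mem _ (Subgroup.mul_mem _ (Subgroup.mul_mem _ ha hb) (Subgroup.inv_mem _ ha)) (Subgroup.inv_mem _ hb)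

theorem perfect_of_sumA2 (h : SumA2 D) : commutator ↥(D.group F) = ⊤ := by
  apply R.perfect_of
  intro v hv w
  obtain ⟨r, s, c, hr, hs, h1, h2, hc, ht⟩ := h v hv
  refine R.xg_mem_comm_of_terms hr hs h1 h2 ?_ ht w
  rcases hc with rfl | rfl <;> simp

theorem perfect_of_big (hP : PairDiag D) {c : F} (hc : c ≠ 0) (hc2 : c ^ 2 ≠ 1) : commutator ↥(D.group F) = ⊤ := by
  apply R.perfect_of
  intro v hv w
  apply R.xg_mem_comm_of_tor hv hv hc _ w
  rw [hP v hv]
  exact_mod_cast hc2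

end Rels

end Cfsg.Agent.Chev
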