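import Cfsg.Agent.Chev.Perf
import Cfsg.Prelude.Def_ChevG2
import Cfsg.Prelude.Def_ChevB2

/-!
# Perfectness for the types `G₂` and `B₂`
-/

set_option autoImplicit false
set_option linter.unusedSectionVars false
set_option linter.unusedVariables false
set_option maxRecDepth 100000

namespace Cfsg.Agent.Chev
open Cfsg.Lie
open scoped MatrixGroups

theorem pairDiagG2 : PairDiag chevG2 := by
  unfold PairDiag
  decide +kernel

theorem pairDiagB2 : PairDiag chevB2 := by
  unfold PairDiag
  decide +kernel

/-- each root is reached by the torus trick or by the commutator trick, away from characteristic two -/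
def OddReach (D : ChevalleyDatum) : Prop :=
  ∀ v < D.nroots, (∃ s < D.nroots, pairing D s v % 2 = 1) ∨
    (∃ r < D.nroots, ∃ s < D.nroots, s ≠ r ∧ s ≠ D.neg r ∧
      (D.commTerms r s = [(v, 2, 1, 1)] ∨ D.commTerms r s = [(v, -2, 1, 1)]))

theorem OddReach.of_chk {D : ChevalleyDatum}
    (h : (List.range D.nroots).all (fun v => (List.range D.nroots).any (fun s => decide (pairing D s v % 2 = 1)) ||
      (List.range D.nroots).any (fun r => (List.range D.nroots).any (fun s => decide (s ≠ r ∧ s ≠ D.neg r ∧
      (D.commTerms r s = [(v, 2, 1, 1)] ∨ D.commTerms r s = [(v, -2, 1, 1)]))))) = true) : OddReach D := by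
  intro v hv
  rw [List.all_eq_true] at h
  have h1 := h v (List.mem_range.mpr hv)
  rw [Bool.or_eq_true, List.any_eq_true, List.any_eq_true] at h1
  rcases h1 with ⟨s, hs, h2⟩ | ⟨r, hr, h2⟩
  · exact Or.inl ⟨s, List.mem_range.mp hs, of_decide_eq_true h2⟩
  · rw [List.any_eq_true] at h2
    obtain ⟨s, hs, h3⟩ := h2
    exact Or.inr ⟨r, List.mem_range.mp hr, s, List.mem_range.mp hs, of_decide_eq_true h3⟩

theorem oddReachG2 : OddReach chevG2 := by
  apply OddReach.of_chk
  decide +kernel

theorem oddReachB2 : OddReach chevB2 := by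
  apply OddReach.of_chk
  decide +kernel

variable {D : ChevalleyDatum} {G : Good D} {F : Type*} [Field F]

theorem Rels.perfect_small (R : Rels D G F) (hP : PairDiag D) (hO : OddReach D) (hF : ∃ a : F, a ≠ 0 ∧ a ≠ 1) :
    commutator ↥(D.group F) = ⊤ := by
  by_cases hc : ∃ c : F, c ≠ 0 ∧ c ^ 2 ≠ 1
  · obtain ⟨c, h1, h2⟩ := hc
    exact R.perfect_of_big hP h1 h2
  · push Not at hc
    obtain ⟨a, ha0, ha1⟩ := hF
    have h2 : (2 : F) ≠ 0 := by
      have h3 := hc a ha0
      have h4 : (a - 1) * (a + 1) = 0 := by ring_nf; rw [h3]; ring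
      rcases mul_eq_zero.mp h4 with h5 | h5
      · exact absurd (sub_eq_zero.mp h5) ha1
      · intro h6
        apply ha1
        have : a = -1 := eq_neg_of_add_eq_zero_left h5
        rw [this]
        linear_combination (-1 : F) * h6
    have hm1 : (-1 : F) ≠ 1 := by
      intro h
      apply h2
      linear_combination (-1 : F) * h
    apply R.perfect_of
    intro v hv w
    rcases hO v hv with ⟨s, hs, hodd⟩ | ⟨r, hr, s, hs, h3, h4, h5 | h5⟩
    · apply R.xg_mem_comm_of_tor hs hv (c := -1) (by simp) _ w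
      rw [Odd.neg_one_zpow (Int.odd_iff.mpr hodd)]
      exact hm1
    · exact R.xg_mem_comm_of_terms hr hs h3 h4 (by simpa using h2) h5 w
    · exact R.xg_mem_comm_of_terms hr hs h3 h4 (by simpa using h2) h5 w

end Cfsg.Agent.Chev
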