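import Cfsg.Agent.Chev.Uop

/-!
# Relations checked by the engine: additivity of root elements
-/

set_option autoImplicit false

namespace Cfsg.Agent.Chev
open Cfsg.Lie

/-- the polynomial `a` -/
noncomputable def pA : Vec := [⟨0, 1, 0, 1, 0⟩]
/-- the polynomial `b` -/
noncomputable def pB : Vec := [⟨0, 0, 1, 1, 0⟩]
/-- the polynomial `a + b` -/
noncomputable def pAB : Vec := [⟨0, 1, 0, 1, 0⟩, ⟨0, 0, 1, 1, 0⟩]

section
variable {F : Type*} [CommRing F]
@[simp] theorem pv_pA (a b : F) : pv a b pA = a := by simp [pA, Tm.val]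
@[simp] theorem pv_pB (a b : F) : pv a b pB = b := by simp [pB, Tm.val]
@[simp] theorem pv_pAB (a b : F) : pv a b pAB = a + b := by simp [pAB, Tm.val]
end

/-- check of `x_r(a) x_r(b) = x_r(a+b)` for the root `r` -/
noncomputable def chkAdd1 (P : Packed) (r : ℕ) : Bool :=
  apsEq [P.X r pA, P.X r pB] [P.X r pAB] P.m

noncomputable def chkAdd (P : Packed) : Bool := allBelow (chkAdd1 P) P.n

theorem x_add_of_chk {F : Type*} [Field F] {D : ChevalleyDatum} {P : Packed} (hD : Fast D P)
    (h : chkAdd P = true)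
    (r : ℕ) (hr : r < D.nroots) (t u : F) : D.x F r t * D.x F r u = D.x F r (t + u) := by
  have h1 := (allBelow_iff _ _).mp h r (hD.bridge.nroots ▸ hr)
  unfold chkAdd1 at h1
  rw [hD.m_eq] at h1
  have := prod_eq_of_apsEq (l := D.rank) (n := D.nroots) t u
    [P.X r pA, P.X r pB] [P.X r pAB]
    [D.x F r (pv t u pA), D.x F r (pv t u pB)] [D.x F r (pv t u pAB)]
    ⟨hD.repA t u r hr pA, hD.repA t u r hr pB, trivial⟩ ⟨hD.repA t u r hr pAB, trivial⟩ h1
  simpa using this

end Cfsg.Agent.Chev
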