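import Cfsg.Agent.Chev.Rel1

/-!
# Relations checked by the engine: `h_r(c)` is diagonal
-/

set_option autoImplicit false

namespace Cfsg.Agent.Chev
open Cfsg.Lie

/-- the polynomial `-b` -/
noncomputable def pNB : Vec := [⟨0, 0, 1, 0, 1⟩]
/-- the polynomial `1` -/
noncomputable def p1 : Vec := [⟨0, 0, 0, 1, 0⟩]
/-- the polynomial `-1` -/
noncomputable def pN1 : Vec := [⟨0, 0, 0, 0, 1⟩]

section
variable {F : Type*} [CommRing F]
@[simp] theorem pv_pNB (a b : F) : pv a b pNB = -b := by simp [pNB, Tm.val]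
@[simp] theorem pv_p1 (a b : F) : pv a b p1 = 1 := by simp [p1, Tm.val]
@[simp] theorem pv_pN1 (a b : F) : pv a b pN1 = -1 := by simp [pN1, Tm.val]
end

/-- the column of a diagonal matrix with entries `a^χ` -/
noncomputable def diagOp (χ : ℕ → ℤ) (key : ℕ) : Vec :=
  [⟨key, Int.toNat (χ key), Int.toNat (Int.neg (χ key)), 1, 0⟩]

theorem zpow_eq_toNat {F : Type*} [Field F] (a : F) (z : ℤ) :
    a ^ z = a ^ (Int.toNat z) * a⁻¹ ^ (Int.toNat (-z)) := by
  rcases Int.le_total 0 z with h | h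
  · have h1 : Int.toNat (-z) = 0 := Int.toNat_eq_zero.mpr (by omega)
    rw [h1, pow_zero, mul_one, ← zpow_natCast, Int.toNat_of_nonneg h]
  · have h1 : Int.toNat z = 0 := Int.toNat_eq_zero.mpr h
    rw [h1, pow_zero, one_mul, inv_pow, ← zpow_natCast, Int.toNat_of_nonneg (by omega), ← zpow_neg, neg_neg]

theorem rep_diagOp {l n : ℕ} {F : Type*} [Field F] (a : F) (χ : ℕ → ℤ) :
    Rep (l := l) (n := n) a a⁻¹ (diagOp χ) (Matrix.diagonal fun idx => a ^ (χ (code idx))) := by
  constructor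
  · intro row col
    simp only [diagOp, ev_cons, ev_nil, add_zero, Tm.val, Nat.cast_one, Nat.cast_zero, sub_zero, one_mul]
    by_cases h : row = col
    · subst h
      rw [Matrix.diagonal_apply_eq, if_pos rfl, zpow_eq_toNat a]
      rfl
    · rw [Matrix.diagonal_apply_ne _ h, if_neg (fun e => h (code_injective e).symm)]
  · intro k hk row
    have : k ≠ code row := by have := code_lt row; omega
    simp [diagOp, this]

/-- integer sums, kernel friendly -/
noncomputable def isum (f : ℕ → ℤ) (m : ℕ) : ℤ :=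
  Nat.rec (motive := fun _ => ℤ) 0 (fun i ih => Int.add (f i) ih) m

theorem isum_succ (f : ℕ → ℤ) (m : ℕ) : isum f (m+1) = f m + isum f m := rfl

theorem isum_eq (f : ℕ → ℤ) (m : ℕ) : isum f m = ∑ i ∈ Finset.range m, f i := by
  induction m with
  | zero => rfl
  | succ m ih => rw [isum_succ, Finset.sum_range_succ, ih, add_comm]

/-- the integer `A_{r,s} = 2(r,s)/(r,r)` -/
noncomputable def Acc.pair (T : Acc) (r s : ℕ) : ℤ := isum (fun i => Int.mul (T.H r i) (T.A i s)) T.l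

/-- the exponent of the diagonal entry of `h_r(c)` at `key` -/
noncomputable def chi (l : ℕ) (pr : ℕ → ℤ) (key : ℕ) : ℤ := bite (nlt key l) 0 (pr (Nat.sub key l))

/-- check that `h_r(a)` is diagonal with exponents `pr r` -/
noncomputable def chkH1 (P : Packed) (pr : ℕ → ℕ → ℤ) (r : ℕ) : Bool :=
  apsEqRed [P.X r pA, P.X (P.acc.neg r) pNB, P.X r pA, P.X r pN1, P.X (P.acc.neg r) p1, P.X r pN1]
    [applyOp (diagOp (chi P.l (pr r)))] P.m

noncomputable def chkH (P : Packed) (pr : ℕ → ℕ → ℤ) : Bool := allBelow (chkH1 P pr) P.n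

theorem hMat_of_chk {F : Type*} [Field F] {D : ChevalleyDatum} {P : Packed} (hD : Fast D P)
    {pr : ℕ → ℕ → ℤ} (h : chkH P pr = true) (r : ℕ) (hr : r < D.nroots) (c : F) (hc : c ≠ 0) :
    D.hMat F r c = Matrix.diagonal fun idx => c ^ (chi D.rank (pr r) (code idx)) := by
  have h1 := (allBelow_iff _ _).mp h r (hD.bridge.nroots ▸ hr)
  unfold chkH1 at h1
  rw [hD.m_eq, ← hD.bridge.rank] at h1
  have hneg : P.acc.neg r = D.neg r := by rw [← hD.bridge.acc_eq]; rfl
  have hnr : D.neg r < D.nroots := hD.wf.neg_lt r hr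
  rw [hneg] at h1
  have := prod_eq_of_apsEqRed (l := D.rank) (n := D.nroots) c c⁻¹ (mul_inv_cancel₀ hc)
    [P.X r pA, P.X (D.neg r) pNB, P.X r pA, P.X r pN1, P.X (D.neg r) p1, P.X r pN1]
    [applyOp (diagOp (chi D.rank (pr r)))]
    [D.x F r (pv c c⁻¹ pA), D.x F (D.neg r) (pv c c⁻¹ pNB), D.x F r (pv c c⁻¹ pA),
      D.x F r (pv c c⁻¹ pN1), D.x F (D.neg r) (pv c c⁻¹ p1), D.x F r (pv c c⁻¹ pN1)]
    [Matrix.diagonal fun idx => c ^ (chi D.rank (pr r) (code idx))]
    ⟨hD.repA _ _ r hr _, hD.repA _ _ _ hnr _, hD.repA _ _ r hr _, hD.repA _ _ r hr _,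
      hD.repA _ _ _ hnr _, hD.repA _ _ r hr _, trivial⟩
    ⟨(rep_diagOp c _).repA, trivial⟩ h1
  simp only [pv_pA, pv_pNB, pv_p1, pv_pN1, List.prod_cons, List.prod_nil, mul_one] at this
  rw [← this]
  simp only [ChevalleyDatum.hMat, ChevalleyDatum.wordMat, ChevalleyDatum.hWord, ChevalleyDatum.nWord,
    List.cons_append, List.nil_append, List.map_cons, List.map_nil, List.prod_cons, List.prod_nil, mul_one]
  have e1 : -(-1 : F)⁻¹ = 1 := by
    rw [inv_neg, inv_one, neg_neg]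
  rw [e1]

end Cfsg.Agent.Chev
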