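import Cfsg.Agent.Chev.Rel2

/-!
# Relations checked by the engine: the monomial matrices `n_p` and conjugation of root elements
-/

set_option autoImplicit false

namespace Cfsg.Agent.Chev
open Cfsg.Lie

/-! ### `Acc` versions of the official table functions -/

def Acc.chainRoot (T : Acc) (r s i : ℕ) : Option ℕ := ((T.ent r s)[i - 1]?).map Prod.fst

def Acc.chainM (T : Acc) (r s i : ℕ) : ℤ := (((T.ent r s)[i - 1]?).map Prod.snd).getD 0

def Acc.commTerms (T : Acc) (r s : ℕ) : List (ℕ × ℤ × ℕ × ℕ) :=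
  let rs := T.chainRoot r s 1
  let cands : List (Option ℕ × ℤ × ℕ × ℕ) :=
    [ (T.chainRoot r s 1, T.chainM r s 1, 1, 1),
      (T.chainRoot r s 2, T.chainM r s 2, 2, 1),
      (T.chainRoot s r 2, T.chainM s r 2, 1, 2),
      (T.chainRoot r s 3, T.chainM r s 3, 3, 1),
      (T.chainRoot s r 3, - T.chainM s r 3, 1, 3),
      ((T.chainRoot r s 3).bind fun k => T.chainRoot k s 1, (rs.map fun k => T.chainM k r 2 / 3).getD 0, 3, 2),
      ((T.chainRoot s r 3).bind fun k => T.chainRoot k r 1, (rs.map fun k => -2 * T.chainM k s 2 / 3).getD 0, 2, 3) ]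
  cands.filterMap fun c => c.1.map fun k => (k, c.2)

def Acc.refl (T : Acc) (i s : ℕ) : ℕ :=
  let p := T.simple i
  let A := T.A i s
  if s = p then T.neg p
  else if s = T.neg p then p
  else if 0 < A then (T.chainRoot (T.neg p) s A.toNat).getD s
  else if A < 0 then (T.chainRoot p s (-A).toNat).getD s
  else s

theorem commTerms_eq (D : ChevalleyDatum) (r s : ℕ) : D.commTerms r s = (acc D).commTerms r s := rfl

theorem reflectRoot_eq (D : ChevalleyDatum) (i s : ℕ) : D.reflectRoot i s = (acc D).refl i s := rfl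

/-! ### monomial matrices -/

/-- the matrix acting on the `h_j` by `h_j ↦ h_j - Aj j • h_i` and on the `e_s` by `e_s ↦ η s • e_{w s}` -/
def monoMat (l n : ℕ) (F : Type*) [Field F] (i : ℕ) (Aj : ℕ → ℤ) (w : ℕ → ℕ) (η : ℕ → ℤ) :
    Matrix (Fin l ⊕ Fin n) (Fin l ⊕ Fin n) F :=
  Matrix.of fun row col =>
    match row, col with
    | Sum.inl j', Sum.inl j => (if j' = j then 1 else 0) - (if (j' : ℕ) = i then (Aj j : F) else 0)
    | Sum.inl _, Sum.inr _ => 0
    | Sum.inr _, Sum.inl _ => 0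
    | Sum.inr s', Sum.inr s => if (s' : ℕ) = w s then (η s : F) else 0

/-- the columns of a monomial matrix -/
noncomputable def monoOp (l m : ℕ) (i : ℕ) (Aj : ℕ → ℤ) (w : ℕ → ℕ) (η : ℕ → ℤ) (key : ℕ) : Vec :=
  bite (nlt key l)
    [⟨key, 0, 0, 1, 0⟩, ⟨i, 0, 0, Int.toNat (Int.neg (Aj key)), Int.toNat (Aj key)⟩]
    (bite (nlt key m)
      [⟨Nat.add l (w (Nat.sub key l)), 0, 0, Int.toNat (η (Nat.sub key l)), Int.toNat (Int.neg (η (Nat.sub key l)))⟩]
      [])

theorem ev_monoOp {F : Type*} [Field F] (a b : F) (l m i : ℕ) (Aj : ℕ → ℤ) (w : ℕ → ℕ) (η : ℕ → ℤ)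
    (key x : ℕ) : ev a b (monoOp l m i Aj w η key) x =
      if key < l then (if key = x then 1 else 0) + (if i = x then -(Aj key : F) else 0)
      else if key < m then (if l + w (key - l) = x then (η (key - l) : F) else 0) else 0 := by
  have hneg : ∀ c : ℤ, Int.neg c = -c := fun _ => rfl
  unfold monoOp
  by_cases h0 : key < l
  · rw [(nlt_iff _ _).mpr h0, bite_true, if_pos h0]
    simp only [ev_cons, ev_nil, add_zero, Tm.val, pow_zero, mul_one, Nat.cast_one, Nat.cast_zero,
      sub_zero, hneg]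
    have h2 := toNat_sub_toNat_neg_cast (F := F) (-(Aj key))
    rw [neg_neg] at h2
    rw [h2]
    push_cast
    rfl
  · rw [(nlt_false_iff _ _).mpr h0, bite_false, if_neg h0]
    by_cases h1 : key < m
    · rw [(nlt_iff _ _).mpr h1, bite_true, if_pos h1]
      simp only [ev_cons, ev_nil, add_zero, Tm.val, pow_zero, mul_one, hneg, toNat_sub_toNat_neg_cast,
        Nat.add_eq, Nat.sub_eq]
    · rw [(nlt_false_iff _ _).mpr h1, bite_false, if_neg h1, ev_nil]

theorem rep_monoOp {l n : ℕ} {F : Type*} [Field F] (a b : F) (i : ℕ) (hi : i < l) (Aj : ℕ → ℤ)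
    (w : ℕ → ℕ) (η : ℕ → ℤ) :
    Rep (l := l) (n := n) a b (monoOp l (l + n) i Aj w η) (monoMat l n F i Aj w η) := by
  have hcl : ∀ i : Fin l, code (Sum.inl i : Fin l ⊕ Fin n) = (i : ℕ) := fun _ => rfl
  have hcr : ∀ s : Fin n, code (Sum.inr s : Fin l ⊕ Fin n) = l + (s : ℕ) := fun _ => rfl
  constructor
  · intro row col
    rw [ev_monoOp]
    rcases col with j | s
    · have hj := j.2
      rw [if_pos (show code (Sum.inl j : Fin l ⊕ Fin n) < l from hj)]
      rcases row with j' | s'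
      · simp only [monoMat, Matrix.of_apply]
        rw [sub_eq_add_neg]
        congr 1
        · by_cases h2 : j' = j
          · rw [if_pos h2, if_pos (by rw [h2])]
          · rw [if_neg h2, if_neg (fun e => h2 (Sum.inl.inj (code_injective e)).symm)]
        · by_cases h2 : (j' : ℕ) = i
          · rw [if_pos h2, if_pos (by rw [hcl, h2])]; rfl
          · rw [if_neg h2, if_neg (by rw [hcl]; exact fun e => h2 e.symm), neg_zero]
      · simp only [monoMat, Matrix.of_apply]
        rw [if_neg (by rw [hcl, hcr]; omega), if_neg (by rw [hcr]; omega), add_zero]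
    · have hs := s.2
      rw [if_neg (show ¬ code (Sum.inr s : Fin l ⊕ Fin n) < l by rw [hcr]; omega),
        if_pos (show code (Sum.inr s : Fin l ⊕ Fin n) < l + n by rw [hcr]; omega),
        show code (Sum.inr s : Fin l ⊕ Fin n) - l = s by rw [hcr]; omega]
      rcases row with j' | s'
      · have hj' := j'.2
        simp only [monoMat, Matrix.of_apply]
        rw [if_neg (by rw [hcl]; omega)]
      · simp only [monoMat, Matrix.of_apply]
        by_cases h2 : (s' : ℕ) = w s
        · rw [if_pos h2, if_pos (by rw [hcr, h2])]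
        · rw [if_neg h2, if_neg (by rw [hcr]; omega)]
  · intro k hk row
    rw [ev_monoOp, if_neg (by omega), if_neg (by omega)]

/-! ### the checks -/

/-- auxiliary tables: the reflections `w_i(s)` and the signs `η_i(s)` -/
structure NAux where
  w : ℕ → ℕ → ℕ
  eta : ℕ → ℕ → ℤ

/-- the operator of `n_{p_i}` -/
noncomputable def Packed.Nop (P : Packed) (X : NAux) (i : ℕ) : Vec → Vec :=
  applyOp (monoOp P.l P.m i (fun j => P.acc.A j (P.acc.simple i)) (X.w i) (X.eta i))

/-- the tables in `X` are sane -/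
noncomputable def chkAux (P : Packed) (X : NAux) : Bool :=
  allBelow (fun i => allBelow (fun s =>
    band (Nat.beq (X.w i s) (P.acc.refl i s))
      (band (nlt (X.w i s) P.n) (decide (X.eta i s = 1 ∨ X.eta i s = -1)))) P.n) P.l

/-- `n_{p_i} = x_p(1) x_{-p}(-1) x_p(1)` is the expected monomial matrix -/
noncomputable def chkN (P : Packed) (X : NAux) : Bool :=
  allBelow (fun i => band (nlt (P.acc.simple i) P.n)
    (apsEq [P.X (P.acc.simple i) p1, P.X (P.acc.neg (P.acc.simple i)) pN1, P.X (P.acc.simple i) p1]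
      [P.Nop X i] P.m)) P.l

/-- the polynomial `η * a` -/
noncomputable def pEta (η : ℤ) : Vec := [⟨0, 1, 0, Int.toNat η, Int.toNat (Int.neg η)⟩]

theorem pv_pEta {F : Type*} [CommRing F] (a b : F) (η : ℤ) : pv a b (pEta η) = (η : F) * a := by
  have hneg : ∀ c : ℤ, Int.neg c = -c := fun _ => rfl
  simp [pEta, Tm.val, hneg, toNat_sub_toNat_neg_cast]

/-- `n_{p_i} x_s(a) = x_{w_i s}(η a) n_{p_i}` for all roots `s` -/
noncomputable def chkConj1 (P : Packed) (X : NAux) (i s : ℕ) : Bool :=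
  apsEq [P.Nop X i, P.X s pA] [P.X (X.w i s) (pEta (X.eta i s)), P.Nop X i] P.m

noncomputable def chkConj (P : Packed) (X : NAux) (i : ℕ) : Bool := allBelow (chkConj1 P X i) P.n

section
variable {F : Type*} [Field F] {D : ChevalleyDatum} {P : Packed}

/-- the explicit monomial matrix of `n_{p_i}` -/
def nExp (D : ChevalleyDatum) (X : NAux) (F : Type*) [Field F] (i : ℕ) : Matrix D.Idx D.Idx F :=
  monoMat D.rank D.nroots F i (fun j => D.cartan j (D.simple i)) (X.w i) (X.eta i)

theorem Fast.repN (hD : Fast D P) (X : NAux) (a b : F) (i : ℕ) (hi : i < D.rank) :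
    RepA (l := D.rank) (n := D.nroots) a b (P.Nop X i) (nExp D X F i) := by
  have h := (rep_monoOp (l := D.rank) (n := D.nroots) a b i hi (fun j => D.cartan j (D.simple i))
    (X.w i) (X.eta i)).repA
  have e1 : (fun j => P.acc.A j (P.acc.simple i)) = (fun j => D.cartan j (D.simple i)) := by
    rw [← hD.bridge.acc_eq]; rfl
  unfold Packed.Nop
  rw [e1, hD.m_eq, ← hD.bridge.rank]
  exact h

theorem nMat_of_chk (hD : Fast D P) {X : NAux} (h : chkN P X = true) (i : ℕ) (hi : i < D.rank) :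
    D.nMat F (D.simple i) 1 = nExp D X F i := by
  have h1 := (allBelow_iff _ _).mp h i (hD.bridge.rank ▸ hi)
  rw [band_eq_true, nlt_iff] at h1
  obtain ⟨h0, h1⟩ := h1
  have hs : P.acc.simple i = D.simple i := by rw [← hD.bridge.acc_eq]; rfl
  have hneg : P.acc.neg (D.simple i) = D.neg (D.simple i) := by rw [← hD.bridge.acc_eq]; rfl
  rw [hs, ← hD.bridge.nroots] at h0
  rw [hs, hneg, hD.m_eq] at h1
  have hnr := hD.wf.neg_lt _ h0
  have := prod_eq_of_apsEq (l := D.rank) (n := D.nroots) (1 : F) 1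
    [P.X (D.simple i) p1, P.X (D.neg (D.simple i)) pN1, P.X (D.simple i) p1] [P.Nop X i]
    [D.x F (D.simple i) (pv 1 1 p1), D.x F (D.neg (D.simple i)) (pv 1 1 pN1), D.x F (D.simple i) (pv 1 1 p1)]
    [nExp D X F i]
    ⟨hD.repA _ _ _ h0 _, hD.repA _ _ _ hnr _, hD.repA _ _ _ h0 _, trivial⟩
    ⟨hD.repN X _ _ i hi, trivial⟩ h1
  simp only [pv_p1, pv_pN1, List.prod_cons, List.prod_nil, mul_one] at this
  rw [← this]
  simp only [ChevalleyDatum.nMat, ChevalleyDatum.wordMat, ChevalleyDatum.nWord,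
    List.map_cons, List.map_nil, List.prod_cons, List.prod_nil, mul_one, inv_one]

theorem conj_of_chk (hD : Fast D P) {X : NAux} (hX : chkAux P X = true) (i : ℕ) (hi : i < D.rank)
    (h : chkConj P X i = true) (s : ℕ) (hs : s < D.nroots) (t : F) :
    nExp D X F i * D.x F s t = D.x F (X.w i s) ((X.eta i s : F) * t) * nExp D X F i := by
  have h1 := (allBelow_iff _ _).mp h s (hD.bridge.nroots ▸ hs)
  unfold chkConj1 at h1
  have h2 := (allBelow_iff _ _).mp ((allBelow_iff _ _).mp hX i (hD.bridge.rank ▸ hi)) s (hD.bridge.nroots ▸ hs)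
  simp only [band_eq_true, nlt_iff] at h2
  rw [hD.m_eq] at h1
  have hw : X.w i s < D.nroots := hD.bridge.nroots ▸ h2.2.1
  have := prod_eq_of_apsEq (l := D.rank) (n := D.nroots) t (1 : F)
    [P.Nop X i, P.X s pA] [P.X (X.w i s) (pEta (X.eta i s)), P.Nop X i]
    [nExp D X F i, D.x F s (pv t 1 pA)] [D.x F (X.w i s) (pv t 1 (pEta (X.eta i s))), nExp D X F i]
    ⟨hD.repN X _ _ i hi, hD.repA _ _ _ hs _, trivial⟩
    ⟨hD.repA _ _ _ hw _, hD.repN X _ _ i hi, trivial⟩ h1
  simpa [pv_pEta] using this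

end

end Cfsg.Agent.Chev
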