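import Cfsg.Agent.Chev.Rel3

/-!
# Relations checked by the engine: Chevalley's commutator formula (direct check)
-/

set_option autoImplicit false

namespace Cfsg.Agent.Chev
open Cfsg.Lie

section lists
variable {l n : ℕ} {F : Type*} [CommRing F]

theorem RepAL.append {a b : F} {aps₁ aps₂ : List (Vec → Vec)}
    {Ms₁ Ms₂ : List (Matrix (Fin l ⊕ Fin n) (Fin l ⊕ Fin n) F)}
    (h₁ : RepAL a b aps₁ Ms₁) (h₂ : RepAL a b aps₂ Ms₂) : RepAL a b (aps₁ ++ aps₂) (Ms₁ ++ Ms₂) := by
  induction aps₁ generalizing Ms₁ with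
  | nil =>
    cases Ms₁ with
    | nil => exact h₂
    | cons M Ms => exact absurd h₁ (by simp [RepAL])
  | cons ap aps ih =>
    cases Ms₁ with
    | nil => exact absurd h₁ (by simp [RepAL])
    | cons M Ms => exact ⟨h₁.1, ih h₁.2⟩

theorem RepAL.map {α : Type} {a b : F} (L : List α) (f : α → Vec → Vec)
    (g : α → Matrix (Fin l ⊕ Fin n) (Fin l ⊕ Fin n) F) (h : ∀ e ∈ L, RepA a b (f e) (g e)) :
    RepAL a b (L.map f) (L.map g) := by
  induction L with
  | nil => exact trivial
  | cons e L ih =>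
    exact ⟨h e (List.mem_cons_self), ih (fun e' he' => h e' (List.mem_cons_of_mem _ he'))⟩

end lists

/-- the monomial `C * (-a)^i * b^j` -/
noncomputable def pTerm (C : ℤ) (i j : ℕ) : Vec :=
  [bite (Nat.beq (Nat.mod i 2) 0) ⟨0, i, j, Int.toNat C, Int.toNat (Int.neg C)⟩
    ⟨0, i, j, Int.toNat (Int.neg C), Int.toNat C⟩]

theorem pv_pTerm {F : Type*} [CommRing F] (a b : F) (C : ℤ) (i j : ℕ) :
    pv a b (pTerm C i j) = (C : F) * (-a) ^ i * b ^ j := by
  have hneg : ∀ c : ℤ, Int.neg c = -c := fun _ => rfl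
  unfold pTerm
  rcases Nat.even_or_odd i with h | h
  · have h1 : Nat.beq (Nat.mod i 2) 0 = true := (nbeq_iff _ _).mpr (Nat.even_iff.mp h)
    rw [h1, bite_true]
    simp only [pv_cons, pv_nil, add_zero, Tm.val, hneg, toNat_sub_toNat_neg_cast, h.neg_pow]
  · have h1 : Nat.beq (Nat.mod i 2) 0 = false := (nbeq_false_iff _ _).mpr (by
      have := Nat.odd_iff.mp h
      show i % 2 ≠ 0
      omega)
    rw [h1, bite_false]
    have h2 := toNat_sub_toNat_neg_cast (F := F) (-C)
    rw [neg_neg] at h2
    simp only [pv_cons, pv_nil, add_zero, Tm.val, hneg, h2, h.neg_pow]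
    push_cast
    ring

/-- kernel friendly map -/
noncomputable def kmap {α β : Type} (f : α → β) (L : List α) : List β :=
  List.rec (motive := fun _ => List β) [] (fun e _ ih => f e :: ih) L

theorem kmap_eq {α β : Type} (f : α → β) (L : List α) : kmap f L = L.map f := by
  induction L with
  | nil => rfl
  | cons e L ih =>
    have : kmap f (e :: L) = f e :: kmap f L := rfl
    rw [this, ih]; rfl

/-- kernel friendly all -/
noncomputable def kall {α : Type} (f : α → Bool) (L : List α) : Bool :=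
  List.rec (motive := fun _ => Bool) true (fun e _ ih => Bool.rec false ih (f e)) L

theorem kall_iff {α : Type} (f : α → Bool) (L : List α) : kall f L = true ↔ ∀ e ∈ L, f e = true := by
  induction L with
  | nil => simp [kall]
  | cons e L ih =>
    have : kall f (e :: L) = Bool.rec false (kall f L) (f e) := rfl
    rw [this]
    cases h : f e with
    | false => simp [h]
    | true => simp [h, ih]

/-- the operators of the word on the right of the commutator formula -/
noncomputable def Packed.commOps (P : Packed) (ct : List (ℕ × ℤ × ℕ × ℕ)) : List (Vec → Vec) :=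
  kmap (fun c => P.X c.1 (pTerm c.2.1 c.2.2.1 c.2.2.2)) ct

/-- direct check of the commutator formula for the pair `(r, s)`, given the list of terms -/
noncomputable def chkComm2 (P : Packed) (r s : ℕ) (ct : List (ℕ × ℤ × ℕ × ℕ)) : Bool :=
  band (kall (fun c => nlt c.1 P.n) ct)
    (apsEq [P.X s pB, P.X r pA] (P.X r pA :: P.X s pB :: P.commOps ct) P.m)

/-- the commutator formula for the pair `(r, s)` -/
def CommRel (D : ChevalleyDatum) (F : Type*) [Field F] (r s : ℕ) : Prop :=
  ∀ t u : F, D.x F s u * D.x F r t = D.x F r t * D.x F s u * D.wordMat F (D.commWord F r s t u)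

theorem commRel_of_chk {F : Type*} [Field F] {D : ChevalleyDatum} {P : Packed} (hD : Fast D P)
    (r s : ℕ) (hr : r < D.nroots) (hs : s < D.nroots)
    (h : chkComm2 P r s (D.commTerms r s) = true) : CommRel D F r s := by
  intro t u
  rw [chkComm2, band_eq_true, kall_iff, hD.m_eq] at h
  obtain ⟨h0, h1⟩ := h
  have hL : RepAL (l := D.rank) (n := D.nroots) t u (P.commOps (D.commTerms r s))
      ((D.commTerms r s).map fun c => D.x F c.1 (pv t u (pTerm c.2.1 c.2.2.1 c.2.2.2))) := by
    rw [Packed.commOps, kmap_eq]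
    apply RepAL.map
    intro c hc
    exact hD.repA _ _ _ (hD.bridge.nroots ▸ (nlt_iff _ _).mp (h0 c hc)) _
  have := prod_eq_of_apsEq (l := D.rank) (n := D.nroots) t u
    [P.X s pB, P.X r pA] (P.X r pA :: P.X s pB :: P.commOps (D.commTerms r s))
    [D.x F s (pv t u pB), D.x F r (pv t u pA)]
    (D.x F r (pv t u pA) :: D.x F s (pv t u pB) ::
      ((D.commTerms r s).map fun c => D.x F c.1 (pv t u (pTerm c.2.1 c.2.2.1 c.2.2.2))))
    ⟨hD.repA _ _ _ hs _, hD.repA _ _ _ hr _, trivial⟩
    ⟨hD.repA _ _ _ hr _, hD.repA _ _ _ hs _, hL⟩ h1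
  simp only [pv_pA, pv_pB, List.prod_cons, List.prod_nil, mul_one, pv_pTerm] at this
  rw [this, mul_assoc]
  congr 2
  simp only [ChevalleyDatum.wordMat, ChevalleyDatum.commWord, List.map_map]
  rfl

/-- direct check for all `s` (with `s ≠ ±r`) for a given root `r` -/
noncomputable def chkCommPt (P : Packed) (r s : ℕ) : Bool :=
  Bool.rec (Bool.rec (chkComm2 P r s (P.acc.commTerms r s)) true
    (Nat.beq s (P.acc.neg r))) true (Nat.beq s r)

noncomputable def chkCommRow (P : Packed) (r : ℕ) : Bool := allBelow (chkCommPt P r) P.n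

theorem commRel_of_chkRow {F : Type*} [Field F] {D : ChevalleyDatum} {P : Packed} (hD : Fast D P)
    (r : ℕ) (hr : r < D.nroots) (h : chkCommRow P r = true) (s : ℕ) (hs : s < D.nroots)
    (h1 : s ≠ r) (h2 : s ≠ D.neg r) : CommRel D F r s := by
  have h3 := (allBelow_iff _ _).mp h s (hD.bridge.nroots ▸ hs)
  unfold chkCommPt at h3
  have hneg : P.acc.neg r = D.neg r := by rw [← hD.bridge.acc_eq]; rfl
  rw [(nbeq_false_iff _ _).mpr h1, hneg, (nbeq_false_iff _ _).mpr h2, ← hD.bridge.acc_eq] at h3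
  exact commRel_of_chk hD r s hr hs h3

end Cfsg.Agent.Chev
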