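import Cfsg.Agent.Chev.Rel4

/-!
# The commutator formula through conjugation by the `n_p` (simply laced types)
-/

set_option autoImplicit false

namespace Cfsg.Agent.Chev
open Cfsg.Lie

/-! ### `x_r(0) = 1` -/

theorem chainD_e_pos (l : ℕ) (L : List (ℕ × ℤ)) (e : ℕ) (he : 1 ≤ e) : ∀ x ∈ chainD l L e, 1 ≤ x.e := by
  induction L generalizing e with
  | nil => simp [chainD_nil]
  | cons y L ih =>
    rw [chainD_cons]
    intro x hx
    rcases List.mem_cons.mp hx with rfl | h
    · exact he
    · exact ih _ (Nat.succ_le_succ (Nat.zero_le _)) x h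

theorem hD_e_pos (H : ℕ → ℤ) (m : ℕ) (rest : Desc) (h : ∀ x ∈ rest, 1 ≤ x.e) : ∀ x ∈ hD H m rest, 1 ≤ x.e := by
  induction m with
  | zero => exact h
  | succ m ih =>
    rw [hD_succ]
    intro x hx
    rcases List.mem_cons.mp hx with rfl | h'
    · exact le_refl _
    · exact ih x h'

theorem desc_e_pos (T : Acc) (r key : ℕ) : ∀ x ∈ T.desc r key, 1 ≤ x.e := by
  unfold Acc.desc
  cases nlt key T.l with
  | true =>
    rw [bite_true]
    cases decide (T.A key r = 0) with
    | true => simp
    | false => simp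
  | false =>
    rw [bite_false]
    cases nlt key (Nat.add T.l T.n) with
    | false => simp
    | true =>
      rw [bite_true]
      cases Nat.beq (Nat.sub key T.l) r with
      | true => simp
      | false =>
        rw [bite_false]
        cases Nat.beq (Nat.sub key T.l) (T.neg r) with
        | true =>
          rw [bite_true]
          apply hD_e_pos
          simp
        | false =>
          rw [bite_false]
          exact chainD_e_pos _ _ _ (le_refl _)

theorem dsum_zero {F : Type*} [CommRing F] (d : Desc) (h : ∀ x ∈ d, 1 ≤ x.e) (x : ℕ) :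
    dsum (0 : F) d x = 0 := by
  induction d with
  | nil => rfl
  | cons e d ih =>
    have h1 : e.e ≠ 0 := by have := h e (List.mem_cons_self); omega
    simp only [dsum, zero_pow h1, mul_zero, ite_self, zero_add]
    exact ih (fun y hy => h y (List.mem_cons_of_mem _ hy))

/-- entries of `x_r(t)` through the descriptor -/
theorem x_apply {F : Type*} [Field F] (D : ChevalleyDatum) (hD : WF D) (r : ℕ) (hr : r < D.nroots) (t : F)
    (row col : D.Idx) : D.x F r t row col =
      (if code col = code row then 1 else 0) + dsum t ((acc D).desc r (code col)) (code row) := by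
  have h := (rep_x D hD t 0 r hr pA).col row col
  rw [pv_pA] at h
  rw [h, ← dsum_desc (acc D) t 0 r pA _ _ (code_lt col), pv_pA]

theorem x_zero {F : Type*} [Field F] (D : ChevalleyDatum) (hD : WF D) (r : ℕ) : D.x F r 0 = 1 := by
  by_cases hr : r < D.nroots
  · ext row col
    rw [x_apply D hD r hr, dsum_zero _ (desc_e_pos _ _ _), add_zero, Matrix.one_apply]
    by_cases h : row = col
    · rw [if_pos h, if_pos (by rw [h])]
    · rw [if_neg h, if_neg (fun e => h (code_injective e).symm)]
  · simp [ChevalleyDatum.x, hr]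

/-! ### conjugating the commutator formula -/

section conj
variable {F : Type*} [Field F] {D : ChevalleyDatum}

theorem conj_word (N : Matrix D.Idx D.Idx F) (w : ℕ → ℕ) (η : ℕ → ℤ)
    (hconj : ∀ s < D.nroots, ∀ t : F, N * D.x F s t = D.x F (w s) ((η s : F) * t) * N)
    (L : List (ℕ × F)) (hL : ∀ c ∈ L, c.1 < D.nroots) :
    N * D.wordMat F L = D.wordMat F (L.map fun c => (w c.1, (η c.1 : F) * c.2)) * N := by
  induction L with
  | nil => simp [ChevalleyDatum.wordMat]
  | cons c L ih =>
    have h1 := ih (fun c' hc' => hL c' (List.mem_cons_of_mem _ hc'))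
    simp only [ChevalleyDatum.wordMat, List.map_cons, List.prod_cons] at h1 ⊢
    rw [← mul_assoc, hconj c.1 (hL c (List.mem_cons_self)), mul_assoc, h1, mul_assoc]

theorem commRel_conj (N N' : Matrix D.Idx D.Idx F) (hN : N' * N = 1) (w : ℕ → ℕ) (η : ℕ → ℤ)
    (hη : ∀ s < D.nroots, η s = 1 ∨ η s = -1)
    (hconj : ∀ s < D.nroots, ∀ t : F, N * D.x F s t = D.x F (w s) ((η s : F) * t) * N)
    (r s : ℕ) (hr : r < D.nroots) (hs : s < D.nroots)
    (hrange : ∀ c ∈ D.commTerms r s, c.1 < D.nroots)
    (hSC : D.commTerms (w r) (w s) = (D.commTerms r s).map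
      (fun c => (w c.1, c.2.1 * η c.1 * η r ^ c.2.2.1 * η s ^ c.2.2.2, c.2.2.1, c.2.2.2)))
    (h : CommRel D F (w r) (w s)) : CommRel D F r s := by
  intro t u
  have hsq : ∀ s < D.nroots, ((η s : ℤ) : F) * (η s : F) = 1 := by
    intro s hs
    rcases hη s hs with e | e <;> simp [e]
  have hW : N * D.wordMat F (D.commWord F r s t u) =
      D.wordMat F (D.commWord F (w r) (w s) ((η r : F) * t) ((η s : F) * u)) * N := by
    rw [conj_word N w η hconj]
    · congr 2
      simp only [ChevalleyDatum.commWord, hSC, List.map_map]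
      apply List.map_congr_left
      intro c _
      simp only [Function.comp]
      congr 1
      push_cast
      have e1 : ((η r : F) ^ c.2.2.1) * ((η r : F) ^ c.2.2.1) = 1 := by
        rw [← mul_pow, hsq r hr, one_pow]
      have e2 : ((η s : F) ^ c.2.2.2) * ((η s : F) ^ c.2.2.2) = 1 := by
        rw [← mul_pow, hsq s hs, one_pow]
      have e3 : (-((η r : F) * t)) ^ c.2.2.1 = (η r : F) ^ c.2.2.1 * (-t) ^ c.2.2.1 := by
        rw [← mul_pow]; congr 1; ring
      rw [e3, mul_pow]
      calc (η c.1 : F) * ((c.2.1 : F) * (-t) ^ c.2.2.1 * u ^ c.2.2.2)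
          = (η c.1 : F) * ((c.2.1 : F) * (-t) ^ c.2.2.1 * u ^ c.2.2.2) * 1 * 1 := by ring
        _ = (η c.1 : F) * ((c.2.1 : F) * (-t) ^ c.2.2.1 * u ^ c.2.2.2) *
              (((η r : F) ^ c.2.2.1) * ((η r : F) ^ c.2.2.1)) * (((η s : F) ^ c.2.2.2) * ((η s : F) ^ c.2.2.2)) := by
            rw [e1, e2]
        _ = _ := by ring
    · intro c hc
      simp only [ChevalleyDatum.commWord, List.mem_map] at hc
      obtain ⟨c', hc', rfl⟩ := hc
      exact hrange c' hc'
  have key : N * (D.x F s u * D.x F r t) = N * (D.x F r t * D.x F s u * D.wordMat F (D.commWord F r s t u)) := by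
    calc N * (D.x F s u * D.x F r t)
        = D.x F (w s) ((η s : F) * u) * D.x F (w r) ((η r : F) * t) * N := by
          rw [← mul_assoc, hconj s hs, mul_assoc, hconj r hr, mul_assoc]
      _ = D.x F (w r) ((η r : F) * t) * D.x F (w s) ((η s : F) * u) *
            D.wordMat F (D.commWord F (w r) (w s) ((η r : F) * t) ((η s : F) * u)) * N := by
          rw [h]
      _ = D.x F (w r) ((η r : F) * t) * D.x F (w s) ((η s : F) * u) *
            (N * D.wordMat F (D.commWord F r s t u)) := by
          rw [hW]; simp only [mul_assoc]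
      _ = N * (D.x F r t * D.x F s u * D.wordMat F (D.commWord F r s t u)) := by
          rw [← mul_assoc, mul_assoc (D.x F (w r) _), ← hconj s hs, ← mul_assoc, ← hconj r hr]
          simp only [mul_assoc]
  have := congrArg (fun M => N' * M) key
  simp only [← mul_assoc, hN, one_mul] at this
  simpa [mul_assoc] using this

end conj

/-! ### commutator terms in the simply laced case -/

theorem commTerms_simplyLaced (T : Acc) (r s : ℕ) (h1 : (T.ent r s).length ≤ 1) (h2 : (T.ent s r).length ≤ 1) :
    T.commTerms r s = (T.ent r s).map (fun e => (e.1, e.2, 1, 1)) := by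
  have a2 : ∀ (L : List (ℕ × ℤ)), L.length ≤ 1 → L[2 - 1]? = none := by
    intro L hL; rw [List.getElem?_eq_none]; omega
  have a3 : ∀ (L : List (ℕ × ℤ)), L.length ≤ 1 → L[3 - 1]? = none := by
    intro L hL; rw [List.getElem?_eq_none]; omega
  simp only [Acc.commTerms, Acc.chainRoot, a2 _ h1, a2 _ h2, a3 _ h1, a3 _ h2, Option.map_none,
    Option.bind_none, List.filterMap_cons, List.filterMap_nil]
  match h : T.ent r s with
  | [] => simp [Acc.chainM, h]
  | [e] => simp [Acc.chainM, h]
  | _ :: _ :: _ => rw [h] at h1; simp at h1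

end Cfsg.Agent.Chev
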