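import Cfsg.Agent.Chev.Rel5

/-!
# The commutator formula for all pairs of roots
-/

set_option autoImplicit false

namespace Cfsg.Agent.Chev
open Cfsg.Lie

/-- more sanity checks on the reflection tables -/
noncomputable def chkAux2 (P : Packed) (X : NAux) : Bool :=
  allBelow (fun i => allBelow (fun s =>
    band (Nat.beq (X.w i (X.w i s)) s)
      (band (Nat.beq (X.w i (P.acc.neg s)) (P.acc.neg (X.w i s)))
        (decide (X.eta i s * X.eta i (P.acc.neg s) = 1)))) P.n) P.l

/-- paths to base roots -/
structure PathAux where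
  nxt : ℕ → ℕ
  dep : ℕ → ℕ

noncomputable def chkPath (P : Packed) (X : NAux) (Y : PathAux) : Bool :=
  allBelow (fun r => Bool.rec
    (band (nlt (Y.nxt r) P.l) (nlt (Y.dep (X.w (Y.nxt r) r)) (Y.dep r))) true (Nat.beq (Y.dep r) 0)) P.n

/-- all chains have length at most one -/
noncomputable def chkSL (P : Packed) : Bool :=
  allBelow (fun r => allBelow (fun s => Nat.ble (List.length (P.acc.ent r s)) 1) P.n) P.n

/-- compatibility of the structure constants with the reflection `w_i`, `i = nxt r`, for the root `r` -/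
noncomputable def chkSC (P : Packed) (X : NAux) (Y : PathAux) (r : ℕ) : Bool :=
  Bool.rec
    (allBelow (fun s =>
      band (kall (fun e => nlt e.1 P.n) (P.acc.ent r s))
      (decide (P.acc.ent (X.w (Y.nxt r) r) (X.w (Y.nxt r) s) =
        kmap (fun e => (X.w (Y.nxt r) e.1,
          Int.mul (Int.mul (Int.mul e.2 (X.eta (Y.nxt r) e.1)) (X.eta (Y.nxt r) r)) (X.eta (Y.nxt r) s)))
          (P.acc.ent r s)))) P.n)
    true (Nat.beq (Y.dep r) 0)

/-- base case: direct check for the roots of depth zero -/
noncomputable def chkBase (P : Packed) (Y : PathAux) (r : ℕ) : Bool :=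
  Bool.rec true (chkCommRow P r) (Nat.beq (Y.dep r) 0)

/-- the only root of depth zero is `r0` -/
noncomputable def chkBase0 (Y : PathAux) (r0 r : ℕ) : Bool :=
  Bool.rec true (Nat.beq r r0) (Nat.beq (Y.dep r) 0)

theorem chkBase_of (P : Packed) (Y : PathAux) (r0 : ℕ) (h0 : allBelow (chkBase0 Y r0) P.n = true)
    (h1 : ∀ s < P.n, chkCommPt P r0 s = true) : ∀ r < P.n, chkBase P Y r = true := by
  intro r hr
  have h2 := (allBelow_iff _ _).mp h0 r hr
  unfold chkBase0 at h2
  unfold chkBase
  cases h3 : Nat.beq (Y.dep r) 0 with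
  | false => rfl
  | true =>
    rw [h3] at h2
    have h4 : r = r0 := (nbeq_iff _ _).mp h2
    subst h4
    exact (allBelow_iff _ _).mpr h1

section
variable {F : Type*} [Field F] {D : ChevalleyDatum} {P : Packed}

theorem nMat_inv (hD : Fast D P) (hadd : chkAdd P = true) (r : ℕ) (hr : r < D.nroots) :
    D.nMat F r (-1) * D.nMat F r 1 = 1 := by
  have hnr := hD.wf.neg_lt r hr
  simp only [ChevalleyDatum.nMat, ChevalleyDatum.wordMat, ChevalleyDatum.nWord,
    List.map_cons, List.map_nil, List.prod_cons, List.prod_nil, mul_one, inv_one]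
  have e1 : -(-1 : F)⁻¹ = 1 := by rw [inv_neg, inv_one, neg_neg]
  rw [e1]
  have a1 : D.x F r (-1) * D.x F r 1 = 1 := by
    rw [x_add_of_chk hD hadd r hr]; simp [x_zero D hD.wf]
  have a2 : D.x F (D.neg r) 1 * D.x F (D.neg r) (-1) = 1 := by
    rw [x_add_of_chk hD hadd _ hnr]; simp [x_zero D hD.wf]
  calc D.x F r (-1) * (D.x F (D.neg r) 1 * D.x F r (-1)) * (D.x F r 1 * (D.x F (D.neg r) (-1) * D.x F r 1))
      = D.x F r (-1) * (D.x F (D.neg r) 1 * (D.x F r (-1) * D.x F r 1) * D.x F (D.neg r) (-1)) * D.x F r 1 := by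
        simp only [mul_assoc]
    _ = 1 := by rw [a1, mul_one, a2, mul_one, a1]

/-- The commutator formula for all pairs, from the checks. -/
theorem commRel_all (hD : Fast D P) {X : NAux} {Y : PathAux}
    (hadd : chkAdd P = true) (hX : chkAux P X = true) (hX2 : chkAux2 P X = true)
    (hN : chkN P X = true) (hC : ∀ i < P.l, chkConj P X i = true)
    (hY : chkPath P X Y = true) (hSL : chkSL P = true)
    (hSC : ∀ r < P.n, chkSC P X Y r = true) (hB : ∀ r < P.n, chkBase P Y r = true)
    (r s : ℕ) (hr : r < D.nroots) (hs : s < D.nroots) (h1 : s ≠ r) (h2 : s ≠ D.neg r) :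
    CommRel D F r s := by
  have hn : D.nroots = P.n := hD.bridge.nroots
  have hl : D.rank = P.l := hD.bridge.rank
  have hacc := hD.bridge.acc_eq
  have hnegD : ∀ r, P.acc.neg r = D.neg r := by intro r; rw [← hacc]; rfl
  induction hd : Y.dep r using Nat.strong_induction_on generalizing r s with
  | _ d ih =>
    by_cases h0 : Y.dep r = 0
    · have := hB r (hn ▸ hr)
      rw [chkBase, (nbeq_iff _ _).mpr h0] at this
      exact commRel_of_chkRow hD r hr this s hs h1 h2
    · have hp := (allBelow_iff _ _).mp hY r (hn ▸ hr)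
      rw [(nbeq_false_iff _ _).mpr h0] at hp
      simp only [band_eq_true, nlt_iff] at hp
      obtain ⟨hi, hdep⟩ := hp
      set i := Y.nxt r with hi_def
      have hiD : i < D.rank := hl ▸ hi
      have aux : ∀ s < D.nroots, X.w i s = P.acc.refl i s ∧ X.w i s < P.n ∧ (X.eta i s = 1 ∨ X.eta i s = -1) := by
        intro s hs
        have := (allBelow_iff _ _).mp ((allBelow_iff _ _).mp hX i hi) s (hn ▸ hs)
        simpa only [band_eq_true, nlt_iff, nbeq_iff, decide_eq_true_eq] using this
      have aux2 : ∀ s < D.nroots, X.w i (X.w i s) = s ∧ X.w i (D.neg s) = D.neg (X.w i s) := by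
        intro s hs
        have := (allBelow_iff _ _).mp ((allBelow_iff _ _).mp hX2 i hi) s (hn ▸ hs)
        simp only [band_eq_true, nbeq_iff, decide_eq_true_eq, hnegD] at this
        exact ⟨this.1, this.2.1⟩
      have hsc := hSC r (hn ▸ hr)
      rw [chkSC, (nbeq_false_iff _ _).mpr h0] at hsc
      have hsc' := (allBelow_iff _ _).mp hsc s (hn ▸ hs)
      simp only [band_eq_true, kall_iff, nlt_iff, decide_eq_true_eq, kmap_eq] at hsc'
      obtain ⟨hrange, hent⟩ := hsc'
      have sl : ∀ r s, r < D.nroots → s < D.nroots → (P.acc.ent r s).length ≤ 1 := by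
        intro r s hr hs
        exact Nat.le_of_ble_eq_true ((allBelow_iff _ _).mp ((allBelow_iff _ _).mp hSL r (hn ▸ hr)) s (hn ▸ hs))
      have hwr : X.w i r < D.nroots := hn ▸ (aux r hr).2.1
      have hws : X.w i s < D.nroots := hn ▸ (aux s hs).2.1
      have ct1 : D.commTerms r s = (P.acc.ent r s).map (fun e => (e.1, e.2, 1, 1)) := by
        rw [commTerms_eq, hacc]; exact commTerms_simplyLaced _ _ _ (sl r s hr hs) (sl s r hs hr)
      have ct2 : D.commTerms (X.w i r) (X.w i s) =
          (P.acc.ent (X.w i r) (X.w i s)).map (fun e => (e.1, e.2, 1, 1)) := by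
        rw [commTerms_eq, hacc]; exact commTerms_simplyLaced _ _ _ (sl _ _ hwr hws) (sl _ _ hws hwr)
      have hs0 : D.simple i < D.nroots := by
        have := (allBelow_iff _ _).mp hN i hi
        rw [band_eq_true, nlt_iff] at this
        have e : P.acc.simple i = D.simple i := by rw [← hacc]; rfl
        rw [e, ← hn] at this
        exact this.1
      apply commRel_conj (nExp D X F i) (D.nMat F (D.simple i) (-1))
        (by rw [← nMat_of_chk hD hN i hiD]; exact nMat_inv hD hadd _ hs0)
        (X.w i) (X.eta i) (fun s hs => (aux s hs).2.2)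
        (fun s hs t => conj_of_chk hD hX i hiD (hC i hi) s hs t) r s hr hs
      · intro c hc
        rw [ct1] at hc
        obtain ⟨e, he, rfl⟩ := List.mem_map.mp hc
        exact hn ▸ hrange e he
      · rw [ct1, ct2, hent, List.map_map, List.map_map]
        apply List.map_congr_left
        intro e _
        simp only [Function.comp, pow_one]
        rfl
      · apply ih (Y.dep (X.w i r)) (hd ▸ hdep) (X.w i r) (X.w i s) hwr hws
        · intro e
          apply h1
          rw [← (aux2 s hs).1, e, (aux2 r hr).1]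
        · intro e
          apply h2
          rw [← (aux2 s hs).1, e, ← (aux2 r hr).2, (aux2 _ (hD.wf.neg_lt r hr)).1]
        · rfl

end

end Cfsg.Agent.Chev
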