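import Cfsg.Agent.Chev.Perf
import Cfsg.Agent.S0319

/-!
# Simplicity
-/

set_option autoImplicit false
set_option linter.unusedSectionVars false
set_option linter.unusedVariables false

namespace Cfsg.Agent.Chev
open Cfsg.Lie
open scoped MatrixGroups

variable {D : ChevalleyDatum} {G : Good D} {F : Type*} [Field F]

/-- the Dynkin diagram is connected -/
def Conn (D : ChevalleyDatum) : Prop :=
  ∀ p : ℕ → Prop, p 0 → (∀ i < D.rank, ∀ j < D.rank, p i → D.cartan i (D.simple j) ≠ 0 → p j) → ∀ j < D.rank, p j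

theorem Conn.of_chk (E : List (ℕ × ℕ))
    (h : (List.range D.rank).all (fun j => (E.foldl (fun vis e =>
      if vis.contains e.1 && decide (D.cartan e.1 (D.simple e.2) ≠ 0 ∧ e.1 < D.rank ∧ e.2 < D.rank) then e.2 :: vis
      else vis) [0]).contains j) = true) : Conn D := by
  intro p h0 hstep j hj
  have key : ∀ (E : List (ℕ × ℕ)) (vis : List ℕ), (∀ x ∈ vis, p x) → ∀ x ∈ E.foldl (fun vis e =>
      if vis.contains e.1 && decide (D.cartan e.1 (D.simple e.2) ≠ 0 ∧ e.1 < D.rank ∧ e.2 < D.rank) then e.2 :: vis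
      else vis) vis, p x := by
    intro E
    induction E with
    | nil => intro vis hv x hx; exact hv x hx
    | cons e E ih =>
      intro vis hv
      rw [List.foldl_cons]
      apply ih
      intro x hx
      split_ifs at hx with hc
      · rw [Bool.and_eq_true, decide_eq_true_eq] at hc
        rcases List.mem_cons.mp hx with rfl | hx
        · exact hstep e.1 hc.2.2.1 e.2 hc.2.2.2 (hv _ (List.contains_iff_mem.mp hc.1)) hc.2.1
        · exact hv x hx
      · exact hv x hx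
  rw [List.all_eq_true] at h
  exact key E [0] (by simpa using h0) j (List.contains_iff_mem.mp (h j (List.mem_range.mpr hj)))

namespace Rels
variable (R : Rels D G F)
include R

theorem cartan_eq_zero_of_comm (G2 : Good2 D) {i j : ℕ} (hi : i < D.rank) (hj : j < D.rank) (hij : i ≠ j)
    (h : G.wP i hi * G.wP j hj = G.wP j hj * G.wP i hi) : D.cartan i (D.simple j) = 0 := by
  have h1 := congrArg (fun σ : Equiv.Perm (Fin D.nroots) => G.rc (σ (G.sF j hj)) i) h
  simp only [Equiv.Perm.mul_apply, G.wP_apply] at h1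
  have hsl := G.simple_lt j hj
  have e0 : ((G.sF j hj : Fin D.nroots) : ℕ) = D.simple j := rfl
  rw [e0, G.refl_simple j, G.rc_refl i hi _ (G.neg_lt hsl) i hi, if_pos rfl, G.rc_neg _ hsl i hi,
    G.rc_simple j hj i hi, if_neg (fun e => hij e.symm), (G.cartan_addFn i hi).neg _ hsl,
    G.rc_refl j hj _ (G.refl_lt i hi _ hsl) i hi, if_neg (fun e => hij e.symm), G.rc_refl i hi _ hsl i hi, if_pos rfl,
    G.rc_simple j hj i hi, if_neg (fun e => hij e.symm)] at h1
  omega

theorem comm_of_mem_B (G2 : Good2 D) {i j : ℕ} (hi : i < D.rank) (hj : j < D.rank)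
    (h : R.ng (D.simple i) 1 * R.ng (D.simple j) 1 * (R.ng (D.simple i) 1)⁻¹ * (R.ng (D.simple j) 1)⁻¹ ∈
      D.borelSubgroup F) : G.wP i hi * G.wP j hj = G.wP j hj * G.wP i hi := by
  have hN : R.ng (D.simple i) 1 * R.ng (D.simple j) 1 * (R.ng (D.simple i) 1)⁻¹ * (R.ng (D.simple j) 1)⁻¹ ∈
      D.monomialSubgroup F :=
    Subgroup.mul_mem _ (Subgroup.mul_mem _ (Subgroup.mul_mem _ (R.ng_mem_N (G.simple_lt i hi)) (R.ng_mem_N (G.simple_lt j hj)))
      (Subgroup.inv_mem _ (R.ng_mem_N (G.simple_lt i hi)))) (Subgroup.inv_mem _ (R.ng_mem_N (G.simple_lt j hj)))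
  have h1 : _ ∈ D.borelSubgroup F ⊓ D.monomialSubgroup F := ⟨h, hN⟩
  rw [R.B_inf_N G2] at h1
  have h2 := IsMono.unique R (IsMono.of_tor R (R.H_le_Tor h1))
    (IsMono.mul R (IsMono.mul R (IsMono.mul R (IsMono.ni R hi) (IsMono.ni R hj)) (IsMono.inv R (IsMono.ni R hi)))
      (IsMono.inv R (IsMono.ni R hj)))
  have h3 : G.wP i hi * G.wP j hj * (G.wP i hi)⁻¹ * (G.wP j hj)⁻¹ = 1 := h2.symm
  calc G.wP i hi * G.wP j hj = (G.wP i hi * G.wP j hj * (G.wP i hi)⁻¹ * (G.wP j hj)⁻¹) * (G.wP j hj * G.wP i hi) := by group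
    _ = _ := by rw [h3, one_mul]

theorem irreducible (G2 : Good2 D) (hC : Conn D) : (R.bnPair G2).Irreducible := by
  intro J hJ hne hne'
  by_contra hcon
  push Not at hcon
  let ν : ∀ i, i < D.rank → ↥(D.group F) := fun i hi => ⟨R.ng (D.simple i) 1, R.N_le_group (R.ng_mem_N (G.simple_lt i hi))⟩
  have hνS : ∀ i hi, ν i hi ∈ (R.bnPair G2).S := fun i hi => ⟨i, hi, R.coe_ng _ _⟩
  have hS : ∀ s ∈ (R.bnPair G2).S, ∃ i hi, s = ν i hi := by
    rintro s ⟨i, hi, hs⟩
    exact ⟨i, hi, Subtype.ext ((R.eq_wg_iff _ _).mp hs)⟩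
  have hzero : ∀ i hi j hj, ν i hi ∈ J → ν j hj ∉ J → D.cartan i (D.simple j) = 0 ∧ D.cartan j (D.simple i) = 0 := by
    intro i hi j hj h1 h2
    have hij : i ≠ j := by
      rintro rfl
      exact h2 h1
    have h3 := hcon _ h1 _ ⟨hνS j hj, h2⟩
    have h4 : R.ng (D.simple i) 1 * R.ng (D.simple j) 1 * (R.ng (D.simple i) 1)⁻¹ * (R.ng (D.simple j) 1)⁻¹ ∈
      D.borelSubgroup F := Subgroup.mem_subgroupOf.mp h3
    have h5 := R.comm_of_mem_B G2 hi hj h4
    exact ⟨R.cartan_eq_zero_of_comm G2 hi hj hij h5, R.cartan_eq_zero_of_comm G2 hj hi hij.symm h5.symm⟩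
  by_cases h0 : ν 0 G.rank_pos ∈ J
  · have := hC (fun i => ∀ hi : i < D.rank, ν i hi ∈ J) (fun _ => h0) (by
      intro i hi j hj hp hc hj'
      by_contra hn
      exact hc (hzero i hi j hj (hp hi) hn).1)
    obtain ⟨s, hs1, hs2⟩ := hne'
    obtain ⟨j, hj, rfl⟩ := hS s hs1
    exact hs2 (this j hj hj)
  · have := hC (fun i => ∀ hi : i < D.rank, ν i hi ∉ J) (fun _ => h0) (by
      intro i hi j hj hp hc hj' hn
      exact hc (hzero j hj i hi hn (hp hi)).2)
    obtain ⟨s, hs⟩ := hne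
    obtain ⟨j, hj, rfl⟩ := hS s (hJ hs)
    exact this j hj hj hs

theorem simple (G2 : Good2 D) (hC : Conn D) (hperf : commutator ↥(D.group F) = ⊤)
    (hcore : ((D.borelSubgroup F).subgroupOf (D.group F)).normalCore = ⊥) :
    IsSimpleGroup ↥(D.group F) ∧ ¬ IsMulCommutative ↥(D.group F) := by
  have hnt : Nontrivial ↥(D.group F) := by
    refine ⟨⟨R.xg (D.simple 0) 1, R.xg_mem_group _ _⟩, 1, ?_⟩
    intro h
    have h1 : R.xg (D.simple 0) 1 = 1 := congrArg Subtype.val h
    rw [R.xg_eq_one_iff (G.simple_lt 0 G.rank_pos)] at h1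
    exact one_ne_zero h1
  have hsolv : Group.IsSolvable ↥(R.bnPair G2).B := by
    have h1 : Group.IsSolvable ↥(D.borelSubgroup F) := Tri.isSolvable_of_le (ordw_lt G) R.B_le_tri
    exact Group.isSolvable_of_isSolvable_injective (f := (Subgroup.subgroupOfEquivOfLe R.B_le_group).toMonoidHom)
      (Subgroup.subgroupOfEquivOfLe R.B_le_group).injective
  refine ⟨Cfsg.Agent.S0319.result (R.bnPair G2) (R.irreducible G2 hC) hsolv hperf hcore, ?_⟩
  intro hcomm
  have h1 : commutator ↥(D.group F) = ⊥ := by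
    rw [commutator_def, Subgroup.commutator_eq_bot_iff_le_centralizer]
    intro a _ b _
    exact hcomm.is_comm.comm b a
  rw [hperf] at h1
  exact top_ne_bot h1

end Rels

end Cfsg.Agent.Chev
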