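import Mathlib

/-!
# Triangular matrices with respect to a level function

Generic facts: unitriangular groups are nilpotent, triangular groups are solvable.
-/

set_option autoImplicit false
set_option linter.unusedSectionVars false
set_option linter.unusedVariables false

namespace Cfsg.Agent.Chev.Tri

open Matrix
open scoped commutatorElement

variable {I : Type*} [Fintype I] [DecidableEq I] {F : Type*} [Field F] (ρ : I → ℕ)

/-- the entries vanish unless the row lies at least `k` levels above the column -/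
def SD (k : ℕ) (M : Matrix I I F) : Prop := ∀ i j, M i j ≠ 0 → ρ j + k ≤ ρ i

/-- triangular: off the diagonal the entries vanish unless the row lies above the column -/
def LT (M : Matrix I I F) : Prop := ∀ i j, M i j ≠ 0 → i = j ∨ ρ j < ρ i

variable {ρ}

theorem SD.mono {k k' : ℕ} {M : Matrix I I F} (h : SD ρ k M) (hk : k' ≤ k) : SD ρ k' M :=
  fun i j hij => by have := h i j hij; omega

theorem SD.zero (k : ℕ) : SD ρ k (0 : Matrix I I F) := fun i j h => absurd rfl h

theorem SD.one : SD ρ 0 (1 : Matrix I I F) := fun i j h => by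
  by_cases hij : i = j
  · subst hij; omega
  · exact absurd (Matrix.one_apply_ne hij) h

theorem SD.add {k : ℕ} {M N : Matrix I I F} (hM : SD ρ k M) (hN : SD ρ k N) : SD ρ k (M + N) := by
  intro i j h
  by_cases h1 : M i j = 0
  · apply hN i j
    intro h2; apply h; rw [Matrix.add_apply, h1, h2, add_zero]
  · exact hM i j h1

theorem SD.neg {k : ℕ} {M : Matrix I I F} (hM : SD ρ k M) : SD ρ k (-M) := by
  intro i j h
  apply hM i j
  intro h2; apply h; rw [Matrix.neg_apply, h2, neg_zero]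

theorem SD.sub {k : ℕ} {M N : Matrix I I F} (hM : SD ρ k M) (hN : SD ρ k N) : SD ρ k (M - N) := by
  rw [sub_eq_add_neg]; exact hM.add hN.neg

theorem SD.mul {a b : ℕ} {M N : Matrix I I F} (hM : SD ρ a M) (hN : SD ρ b N) : SD ρ (a + b) (M * N) := by
  intro i j h
  rw [Matrix.mul_apply] at h
  obtain ⟨m, _, hm⟩ := Finset.exists_ne_zero_of_sum_ne_zero h
  have h1 := hM i m (left_ne_zero_of_mul hm)
  have h2 := hN m j (right_ne_zero_of_mul hm)
  omega

theorem SD.pow {M : Matrix I I F} (hM : SD ρ 1 M) (k : ℕ) : SD ρ k (M ^ k) := by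
  induction k with
  | zero => rw [pow_zero]; exact SD.one
  | succ k ih => rw [pow_succ]; exact ih.mul hM

theorem SD.eq_zero {K : ℕ} (hK : ∀ i, ρ i < K) {M : Matrix I I F} (hM : SD ρ K M) : M = 0 := by
  ext i j
  by_contra h
  have := hM i j h
  have := hK i
  omega

theorem SD.of_sub_one {M : Matrix I I F} {k : ℕ} (h : SD ρ k (M - 1)) : SD ρ 0 M := by
  have : M = (M - 1) + 1 := by simp
  rw [this]
  exact (h.mono (Nat.zero_le _)).add SD.one

theorem pow_eq_zero_of_SD {K : ℕ} (hK : ∀ i, ρ i < K) {M : Matrix I I F} (hM : SD ρ 1 M) {k : ℕ} (hk : K ≤ k) :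
    M ^ k = 0 := SD.eq_zero hK ((SD.pow hM k).mono hk)

theorem SD.sub_one_mul {k : ℕ} {M N : Matrix I I F} (hM : SD ρ k (M - 1)) (hN : SD ρ k (N - 1)) :
    SD ρ k (M * N - 1) := by
  have : M * N - 1 = (M - 1) * (N - 1) + (M - 1) + (N - 1) := by noncomm_ring
  rw [this]
  exact (((hM.mul hN).mono (by omega)).add hM).add hN

/-! ### triangular matrices -/

theorem LT.one : LT ρ (1 : Matrix I I F) := fun i j h => by
  by_cases hij : i = j
  · exact Or.inl hij
  · exact absurd (Matrix.one_apply_ne hij) h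

theorem LT.of_SD {M : Matrix I I F} (h : SD ρ 1 (M - 1)) : LT ρ M := by
  intro i j hij
  by_cases h1 : i = j
  · exact Or.inl h1
  · right
    have := h i j (by rwa [Matrix.sub_apply, Matrix.one_apply_ne h1, sub_zero])
    omega

theorem diag_of_SD {M : Matrix I I F} (h : SD ρ 1 (M - 1)) (i : I) : M i i = 1 := by
  by_contra h1
  have := h i i (by rw [Matrix.sub_apply, Matrix.one_apply_eq]; exact sub_ne_zero.mpr h1)
  omega

theorem LT.mul {M N : Matrix I I F} (hM : LT ρ M) (hN : LT ρ N) : LT ρ (M * N) := by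
  intro i j h
  rw [Matrix.mul_apply] at h
  obtain ⟨m, _, hm⟩ := Finset.exists_ne_zero_of_sum_ne_zero h
  rcases hM i m (left_ne_zero_of_mul hm) with h1 | h1 <;> rcases hN m j (right_ne_zero_of_mul hm) with h2 | h2
  · left; rw [h1, h2]
  · right; rw [h1]; exact h2
  · right; rw [← h2]; exact h1
  · right; omega

theorem LT.mul_diag {M N : Matrix I I F} (hM : LT ρ M) (hN : LT ρ N) (i : I) :
    (M * N) i i = M i i * N i i := by
  rw [Matrix.mul_apply]
  apply Finset.sum_eq_single i
  · intro m _ hm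
    by_contra h
    rcases hM i m (left_ne_zero_of_mul h) with h1 | h1
    · exact hm h1.symm
    · rcases hN m i (right_ne_zero_of_mul h) with h2 | h2
      · exact hm h2
      · omega
  · intro h; exact absurd (Finset.mem_univ i) h

theorem SD_of_LT_diag {M : Matrix I I F} (h : LT ρ M) (hd : ∀ i, M i i = 1) : SD ρ 1 (M - 1) := by
  intro i j hij
  by_cases h1 : i = j
  · subst h1; rw [Matrix.sub_apply, hd, Matrix.one_apply_eq, sub_self] at hij; exact absurd rfl hij
  · rw [Matrix.sub_apply, Matrix.one_apply_ne h1, sub_zero] at hij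
    rcases h i j hij with h2 | h2
    · exact absurd h2 h1
    · omega

/-- a matrix which is triangular for two opposite level functions is diagonal -/
theorem LT.diagonal {ρ' : I → ℕ} (hρ : ∀ i j, ρ j < ρ i → ¬ ρ' j < ρ' i) {M : Matrix I I F}
    (h : LT ρ M) (h' : LT ρ' M) (i j : I) (hij : i ≠ j) : M i j = 0 := by
  by_contra h1
  rcases h i j h1 with h2 | h2
  · exact hij h2
  · rcases h' i j h1 with h3 | h3
    · exact hij h3
    · exact hρ i j h2 h3

/-! ### the groups -/

variable (ρ) (F)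

/-- the invertible matrices `g` with `g - 1` of depth at least `k` -/
def depthGrp (k : ℕ) : Subgroup (GL I F) where
  carrier := {g | SD ρ k ((g : Matrix I I F) - 1) ∧ SD ρ k (((g⁻¹ : GL I F) : Matrix I I F) - 1)}
  one_mem' := by
    refine ⟨?_, ?_⟩
    · rw [Units.val_one, sub_self]; exact SD.zero k
    · rw [inv_one, Units.val_one, sub_self]; exact SD.zero k
  mul_mem' := by
    rintro a b ⟨ha, ha'⟩ ⟨hb, hb'⟩
    refine ⟨?_, ?_⟩
    · rw [Units.val_mul]; exact ha.sub_one_mul hb
    · rw [_root_.mul_inv_rev, Units.val_mul]; exact hb'.sub_one_mul ha'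
  inv_mem' := by
    rintro a ⟨ha, ha'⟩
    exact ⟨ha', by rw [inv_inv]; exact ha⟩

/-- the invertible triangular matrices -/
def triGrp : Subgroup (GL I F) where
  carrier := {g | LT ρ (g : Matrix I I F) ∧ LT ρ ((g⁻¹ : GL I F) : Matrix I I F)}
  one_mem' := by
    refine ⟨?_, ?_⟩
    · rw [Units.val_one]; exact LT.one
    · rw [inv_one, Units.val_one]; exact LT.one
  mul_mem' := by
    rintro a b ⟨ha, ha'⟩ ⟨hb, hb'⟩
    refine ⟨?_, ?_⟩
    · rw [Units.val_mul]; exact ha.mul hb
    · rw [_root_.mul_inv_rev, Units.val_mul]; exact hb'.mul ha'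
  inv_mem' := by
    rintro a ⟨ha, ha'⟩
    exact ⟨ha', by rw [inv_inv]; exact ha⟩

variable {ρ} {F}

theorem mem_depthGrp {k : ℕ} {g : GL I F} : g ∈ depthGrp F ρ k ↔
    SD ρ k ((g : Matrix I I F) - 1) ∧ SD ρ k (((g⁻¹ : GL I F) : Matrix I I F) - 1) := Iff.rfl

theorem mem_triGrp {g : GL I F} : g ∈ triGrp F ρ ↔
    LT ρ (g : Matrix I I F) ∧ LT ρ ((g⁻¹ : GL I F) : Matrix I I F) := Iff.rfl

theorem depthGrp_le_triGrp : depthGrp F ρ 1 ≤ triGrp F ρ :=
  fun _ hg => ⟨LT.of_SD hg.1, LT.of_SD hg.2⟩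

theorem depthGrp_eq_bot {K : ℕ} (hK : ∀ i, ρ i < K) : depthGrp F ρ K = ⊥ := by
  rw [eq_bot_iff]
  intro g hg
  rw [Subgroup.mem_bot]
  apply Units.ext
  have := SD.eq_zero hK hg.1
  rw [Units.val_one]
  exact sub_eq_zero.mp this

theorem comm_sub_one (x g : GL I F) :
    ((⁅x, g⁆ : GL I F) : Matrix I I F) - 1 =
      (((x : Matrix I I F) - 1) * ((g : Matrix I I F) - 1) - ((g : Matrix I I F) - 1) * ((x : Matrix I I F) - 1)) *
        (((x⁻¹ : GL I F) : Matrix I I F) * ((g⁻¹ : GL I F) : Matrix I I F)) := by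
  have h1 : ((x : Matrix I I F) - 1) * ((g : Matrix I I F) - 1) - ((g : Matrix I I F) - 1) * ((x : Matrix I I F) - 1)
      = (x : Matrix I I F) * g - g * x := by noncomm_ring
  rw [h1, commutatorElement_def, sub_mul]
  simp only [Units.val_mul]
  have h2 : (g : Matrix I I F) * x * (((x⁻¹ : GL I F) : Matrix I I F) * ((g⁻¹ : GL I F) : Matrix I I F)) = 1 := by
    rw [mul_assoc, ← mul_assoc (x : Matrix I I F), Units.mul_inv, one_mul, Units.mul_inv]
  rw [h2]
  simp only [mul_assoc]

theorem comm_mem_depthGrp {k : ℕ} {x g : GL I F} (hx : x ∈ depthGrp F ρ k) (hg : g ∈ depthGrp F ρ 1) :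
    ⁅x, g⁆ ∈ depthGrp F ρ (k + 1) := by
  have key : ∀ {x g : GL I F}, x ∈ depthGrp F ρ k → g ∈ depthGrp F ρ 1 →
      SD ρ (k + 1) (((x : Matrix I I F) - 1) * ((g : Matrix I I F) - 1) -
        ((g : Matrix I I F) - 1) * ((x : Matrix I I F) - 1)) := by
    intro x g hx hg
    exact (hx.1.mul hg.1).sub ((hg.1.mul hx.1).mono (by omega))
  refine ⟨?_, ?_⟩
  · rw [comm_sub_one]
    have := (key hx hg).mul ((SD.of_sub_one hx.2).mul (SD.of_sub_one hg.2))
    exact this
  · rw [commutatorElement_inv, comm_sub_one]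
    have h1 := (key hx hg).neg
    rw [neg_sub] at h1
    exact h1.mul ((SD.of_sub_one hg.2).mul (SD.of_sub_one hx.2))

/-- unitriangular groups are nilpotent -/
theorem isNilpotent_depthGrp {K : ℕ} (hK : ∀ i, ρ i < K) : Group.IsNilpotent (depthGrp F ρ 1) := by
  rw [Subgroup.nilpotent_iff_finite_descending_central_series]
  refine ⟨K, fun m => (depthGrp F ρ (m + 1)).subgroupOf (depthGrp F ρ 1), ⟨?_, ?_⟩, ?_⟩
  · simp
  · intro x n hx g
    rw [Subgroup.mem_subgroupOf] at hx ⊢
    exact comm_mem_depthGrp hx g.2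
  · show (depthGrp F ρ (K + 1)).subgroupOf (depthGrp F ρ 1) = ⊥
    rw [depthGrp_eq_bot (ρ := ρ) (K := K + 1) (fun i => by have := hK i; omega)]
    simp

theorem isNilpotent_of_le {K : ℕ} (hK : ∀ i, ρ i < K) {U : Subgroup (GL I F)} (hU : U ≤ depthGrp F ρ 1) :
    Group.IsNilpotent U := by
  have := isNilpotent_depthGrp (F := F) hK
  exact (Group.isNilpotent_congr (Subgroup.subgroupOfEquivOfLe hU)).mp inferInstance

/-- the diagonal of a triangular matrix -/
def diagHom : triGrp F ρ →* (I → Fˣ) where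
  toFun g := fun i => ⟨(g : GL I F).1 i i, ((g : GL I F)⁻¹).1 i i,
    by rw [← LT.mul_diag g.2.1 g.2.2, Units.mul_inv, Matrix.one_apply_eq],
    by rw [← LT.mul_diag g.2.2 g.2.1, Units.inv_mul, Matrix.one_apply_eq]⟩
  map_one' := by
    funext i
    apply Units.ext
    simp
  map_mul' := by
    intro a b
    funext i
    apply Units.ext
    simp only [Pi.mul_apply, Units.val_mul]
    exact LT.mul_diag a.2.1 b.2.1 i

theorem isSolvable_triGrp {K : ℕ} (hK : ∀ i, ρ i < K) : Group.IsSolvable (triGrp F ρ) := by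
  have := isNilpotent_depthGrp (F := F) hK
  refine Group.isSolvable_of_ker_le_range (Subgroup.inclusion (depthGrp_le_triGrp (ρ := ρ) (F := F))) diagHom ?_
  intro g hg
  rw [MonoidHom.mem_ker] at hg
  have h1 : ∀ i, (g : GL I F).1 i i = 1 := fun i => by
    have := congrArg Units.val (congrFun hg i)
    exact this
  have h2 : ∀ i, ((g : GL I F)⁻¹).1 i i = 1 := fun i => by
    have := congrArg (fun u : Fˣ => (u⁻¹ : Fˣ).1) (congrFun hg i)
    simp only [Pi.one_apply, inv_one, Units.val_one] at this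
    exact this
  exact ⟨⟨g.1, SD_of_LT_diag g.2.1 h1, SD_of_LT_diag g.2.2 h2⟩, rfl⟩

theorem isSolvable_of_le {K : ℕ} (hK : ∀ i, ρ i < K) {B : Subgroup (GL I F)} (hB : B ≤ triGrp F ρ) :
    Group.IsSolvable B := by
  have := isSolvable_triGrp (F := F) hK
  exact Group.isSolvable_of_isSolvable_injective (Subgroup.inclusion_injective hB)

end Cfsg.Agent.Chev.Tri
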