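import Cfsg.Agent.Chev.Root
import Cfsg.Agent.Chev.Tri

/-!
# Additive functions on the roots and the shape of the root elements
-/

set_option autoImplicit false
set_option linter.unusedSectionVars false
set_option linter.unusedVariables false

namespace Cfsg.Agent.Chev
open Cfsg.Lie

variable {D : ChevalleyDatum}

/-- additive functions on the roots -/
structure AddFn (D : ChevalleyDatum) (f : ℕ → ℤ) : Prop where
  neg : ∀ r < D.nroots, f (D.neg r) = - f r
  ent : ∀ r < D.nroots, ∀ s < D.nroots, ∀ (k : ℕ) (e : ℕ × ℤ), (D.chainEntry r s)[k]? = some e →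
    f e.1 = f s + ((k + 1 : ℕ) : ℤ) * f r

/-- linear functions of the coordinates -/
def Good.lin (G : Good D) (lam : ℕ → ℤ) (r : ℕ) : ℤ := ∑ j ∈ Finset.range D.rank, G.rc r j * lam j

theorem Good.lin_addFn (G : Good D) (lam : ℕ → ℤ) : AddFn D (G.lin lam) where
  neg := fun r hr => by
    unfold Good.lin
    rw [← Finset.sum_neg_distrib]
    apply Finset.sum_congr rfl
    intro j hj
    rw [G.rc_neg r hr j (Finset.mem_range.mp hj)]; ring
  ent := fun r hr s hs k e he => by
    unfold Good.lin
    rw [Finset.mul_sum, ← Finset.sum_add_distrib]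
    apply Finset.sum_congr rfl
    intro j hj
    rw [(G.ent_add r hr s hs k e he).2 j (Finset.mem_range.mp hj)]; ring

theorem Good.rc_addFn (G : Good D) (j : ℕ) (hj : j < D.rank) : AddFn D (fun r => G.rc r j) where
  neg := fun r hr => G.rc_neg r hr j hj
  ent := fun r hr s hs k e he => (G.ent_add r hr s hs k e he).2 j hj

/-- the height-like function: strictly increasing in the index -/
def Good.ht (G : Good D) (r : ℕ) : ℤ := G.lin (wgt D.rank) r

theorem Good.ht_addFn (G : Good D) : AddFn D G.ht := G.lin_addFn _

theorem Good.ht_succ (G : Good D) (r : ℕ) (hr : r + 1 < D.nroots) : G.ht r < G.ht (r + 1) := by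
  have := G.ht_mono r (by omega)
  rw [isum_eq, isum_eq] at this
  exact this

theorem Good.ht_lt (G : Good D) {r s : ℕ} (hrs : r < s) (hs : s < D.nroots) : G.ht r < G.ht s := by
  induction s with
  | zero => omega
  | succ s ih =>
    rcases Nat.lt_succ_iff_lt_or_eq.mp hrs with h | h
    · exact lt_trans (ih h (by omega)) (G.ht_succ s hs)
    · subst h; exact G.ht_succ r hs

theorem Good.ht_lt_iff (G : Good D) {r s : ℕ} (hr : r < D.nroots) (hs : s < D.nroots) : G.ht r < G.ht s ↔ r < s := by
  constructor
  · intro h
    by_contra h1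
    rcases Nat.lt_or_ge s r with h2 | h2
    · exact absurd (G.ht_lt h2 hr) (not_lt.mpr h.le)
    · have : r = s := by omega
      subst this; exact lt_irrefl _ h
  · intro h; exact G.ht_lt h hs

theorem Good.ht_inj (G : Good D) {r s : ℕ} (hr : r < D.nroots) (hs : s < D.nroots) (h : G.ht r = G.ht s) : r = s := by
  rcases Nat.lt_trichotomy r s with h1 | h1 | h1
  · exact absurd h (G.ht_lt h1 hs).ne
  · exact h1
  · exact absurd h.symm (G.ht_lt h1 hr).ne

theorem Good.neg_lt (G : Good D) {r : ℕ} (hr : r < D.nroots) : D.neg r < D.nroots := G.wf.neg_lt r hr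

theorem Good.neg_neg (G : Good D) {r : ℕ} (hr : r < D.nroots) : D.neg (D.neg r) = r := by
  rw [G.neg_eq _ (G.neg_lt hr), G.neg_eq r hr]; omega

theorem Good.ht_pos_iff (G : Good D) {r : ℕ} (hr : r < D.nroots) : 0 < G.ht r ↔ D.nroots / 2 ≤ r := by
  have h1 := G.ht_addFn.neg r hr
  have h2 := G.neg_eq r hr
  have h3 := G.even
  have h4 := G.ht_lt_iff (G.neg_lt hr) hr
  rw [h1, h2] at h4
  constructor
  · intro h
    have : D.nroots - 1 - r < r := h4.mp (by omega)
    omega
  · intro h
    have := h4.mpr (by omega)
    omega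

theorem Good.ht_neg_iff (G : Good D) {r : ℕ} (hr : r < D.nroots) : G.ht r < 0 ↔ r < D.nroots / 2 := by
  have h1 := G.ht_addFn.neg r hr
  have h2 := G.neg_eq r hr
  have h3 := G.even
  have h4 := G.ht_lt_iff hr (G.neg_lt hr)
  rw [h1, h2] at h4
  constructor
  · intro h
    have : r < D.nroots - 1 - r := h4.mp (by omega)
    omega
  · intro h
    have := h4.mpr (by omega)
    omega

theorem Good.ht_ne_zero (G : Good D) {r : ℕ} (hr : r < D.nroots) : G.ht r ≠ 0 := by
  rcases Nat.lt_or_ge r (D.nroots / 2) with h | h
  · exact ((G.ht_neg_iff hr).mpr h).ne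
  · exact ((G.ht_pos_iff hr).mpr h).ne'

theorem Good.neg_ne (G : Good D) {r : ℕ} (hr : r < D.nroots) : D.neg r ≠ r := by
  have h2 := G.neg_eq r hr
  have h3 := G.even
  omega

/-! ### positive and negative roots -/

theorem arr_getD_eq {α : Type} (a : Array α) (j : ℕ) (d : α) (h : j < a.size) : a.getD j d = a[j] := by
  rw [Array.getD_eq_getD_getElem?, Array.getElem?_eq_getElem h, Option.getD_some]

theorem arr_getD_mem {α : Type} (a : Array α) (j : ℕ) (d : α) (h : j < a.size) : a.getD j d ∈ a.toList := by
  rw [arr_getD_eq a j d h]; exact Array.getElem_mem_toList _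

theorem Good.isPosRoot_iff (G : Good D) (r : ℕ) : D.IsPosRoot r ↔ D.nroots / 2 ≤ r ∧ r < D.nroots := by
  unfold ChevalleyDatum.IsPosRoot
  constructor
  · rintro ⟨hr, h⟩
    refine ⟨?_, hr⟩
    by_contra h1
    have h1 : r < D.nroots / 2 := by omega
    -- all coordinates vanish, so `ht r = 0`
    apply G.ht_ne_zero hr
    unfold Good.ht Good.lin
    apply Finset.sum_eq_zero
    intro j hj
    have hj := Finset.mem_range.mp hj
    have h2 := (G.rc_sign r hr j hj).2 h1
    have h3 : 0 ≤ (D.coroot.getD r #[]).getD j 0 := by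
      apply h
      have hsz := G.coroot_size r hr
      exact arr_getD_mem _ _ _ (by omega)
    have h4 := G.H_sign r hr j hj
    have h5 : G.rc r j = 0 := by
      rcases h3.lt_or_eq with h6 | h6
      · have := h4.2.mp h6; omega
      · exact h4.1.mp h6.symm
    rw [h5, zero_mul]
  · rintro ⟨h1, hr⟩
    refine ⟨hr, ?_⟩
    intro c hc
    rw [Array.mem_toList_iff, Array.mem_iff_getElem] at hc
    obtain ⟨j, hj, rfl⟩ := hc
    have hsz := G.coroot_size r hr
    have hj' : j < D.rank := by omega
    have h2 := (G.rc_sign r hr j hj').1 h1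
    have h4 := G.H_sign r hr j hj'
    have e : (D.coroot.getD r #[]).getD j 0 = (D.coroot.getD r #[])[j] := arr_getD_eq _ _ _ hj
    rw [e] at h4
    rcases h2.lt_or_eq with h6 | h6
    · exact (h4.2.mpr h6).le
    · exact (h4.1.mpr h6.symm).ge

theorem Good.isNegRoot_iff (G : Good D) (r : ℕ) : D.IsNegRoot r ↔ r < D.nroots / 2 := by
  unfold ChevalleyDatum.IsNegRoot
  have hev := G.even
  constructor
  · rintro ⟨hr, h⟩
    by_contra h1
    have h1 : D.nroots / 2 ≤ r := by omega
    apply G.ht_ne_zero hr
    unfold Good.ht Good.lin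
    apply Finset.sum_eq_zero
    intro j hj
    have hj := Finset.mem_range.mp hj
    have h2 := (G.rc_sign r hr j hj).1 h1
    have h3 : (D.coroot.getD r #[]).getD j 0 ≤ 0 := by
      apply h
      have hsz := G.coroot_size r hr
      exact arr_getD_mem _ _ _ (by omega)
    have h4 := G.H_sign r hr j hj
    have h5 : G.rc r j = 0 := by
      rcases h2.lt_or_eq with h6 | h6
      · have := h4.2.mpr h6; omega
      · exact h6.symm
    rw [h5, zero_mul]
  · intro h1
    have hr : r < D.nroots := by omega
    refine ⟨hr, ?_⟩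
    intro c hc
    rw [Array.mem_toList_iff, Array.mem_iff_getElem] at hc
    obtain ⟨j, hj, rfl⟩ := hc
    have hsz := G.coroot_size r hr
    have hj' : j < D.rank := by omega
    have h2 := (G.rc_sign r hr j hj').2 h1
    have h4 := G.H_sign r hr j hj'
    have e : (D.coroot.getD r #[]).getD j 0 = (D.coroot.getD r #[])[j] := arr_getD_eq _ _ _ hj
    rw [e] at h4
    by_contra h7
    have := h4.2.mp (by omega)
    omega

/-! ### descriptors and additive functions -/

/-- the weight of a coordinate (given by its code) -/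
def wtc (l : ℕ) (f : ℕ → ℤ) (key : ℕ) : ℤ := if key < l then 0 else f (key - l)

theorem chainD_add {f : ℕ → ℤ} (l : ℕ) (L : List (ℕ × ℤ)) (e0 : ℕ) (a b : ℤ)
    (h : ∀ (k : ℕ) (e : ℕ × ℤ), L[k]? = some e → f e.1 = a + ((k + e0 : ℕ) : ℤ) * b) :
    ∀ x ∈ chainD l L e0, wtc l f x.k = a + (x.e : ℤ) * b := by
  induction L generalizing e0 with
  | nil => simp [chainD_nil]
  | cons y L ih =>
    rw [chainD_cons]
    intro x hx
    rcases List.mem_cons.mp hx with rfl | h'
    · have := h 0 y (by simp)
      simp only [wtc, Nat.add_eq]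
      rw [if_neg (by omega), show l + y.1 - l = y.1 by omega, this]
      simp
    · apply ih (Nat.succ e0) _ x h'
      intro k e he
      have := h (k + 1) e (by simpa using he)
      rw [this]
      congr 2
      simp only [Nat.succ_eq_add_one]; push_cast; ring

theorem hD_add {f : ℕ → ℤ} (l : ℕ) (H : ℕ → ℤ) (m : ℕ) (hm : m ≤ l) (rest : Desc) (a b : ℤ) (hab : a + b = 0)
    (h : ∀ x ∈ rest, wtc l f x.k = a + (x.e : ℤ) * b) : ∀ x ∈ hD H m rest, wtc l f x.k = a + (x.e : ℤ) * b := by
  induction m with
  | zero => exact h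
  | succ m ih =>
    rw [hD_succ]
    intro x hx
    rcases List.mem_cons.mp hx with rfl | h'
    · simp only [wtc]
      rw [if_pos (by omega)]
      simp [hab]
    · exact ih (by omega) x h'

theorem desc_add {f : ℕ → ℤ} (hf : AddFn D f) (r : ℕ) (hr : r < D.nroots) (key : ℕ) :
    ∀ x ∈ (acc D).desc r key, wtc D.rank f x.k = wtc D.rank f key + (x.e : ℤ) * f r := by
  unfold Acc.desc
  have hl : (acc D).l = D.rank := rfl
  have hn : (acc D).n = D.nroots := rfl
  rw [hl, hn]
  cases h1 : nlt key D.rank with
  | true =>
    rw [bite_true]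
    rw [nlt_iff] at h1
    cases decide ((acc D).A key r = 0) with
    | true => simp
    | false =>
      rw [bite_false]
      intro x hx
      rw [List.mem_singleton] at hx
      subst hx
      simp only [wtc, Nat.add_eq]
      rw [if_neg (by omega), if_pos h1, show D.rank + r - D.rank = r by omega]
      simp
  | false =>
    rw [bite_false]
    rw [nlt_false_iff] at h1
    cases h2 : nlt key (Nat.add D.rank D.nroots) with
    | false => simp
    | true =>
      rw [bite_true]
      rw [nlt_iff] at h2
      have h2 : key < D.rank + D.nroots := h2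
      cases h3 : Nat.beq (Nat.sub key D.rank) r with
      | true => simp
      | false =>
        rw [bite_false]
        cases h4 : Nat.beq (Nat.sub key D.rank) ((acc D).neg r) with
        | true =>
          rw [bite_true]
          rw [nbeq_iff] at h4
          have h4 : key - D.rank = D.neg r := h4
          have e1 : wtc D.rank f key = - f r := by
            simp only [wtc]; rw [if_neg h1, h4, hf.neg r hr]
          rw [e1]
          apply hD_add _ _ _ (le_refl _) _ _ _ (by ring)
          intro x hx
          rw [List.mem_singleton] at hx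
          subst hx
          simp only [wtc, Nat.add_eq]
          rw [if_neg (by omega), show D.rank + r - D.rank = r by omega]
          push_cast; ring
        | false =>
          rw [bite_false]
          have e1 : wtc D.rank f key = f (key - D.rank) := by
            simp only [wtc]; rw [if_neg h1]
          rw [e1]
          apply chainD_add
          intro k e he
          exact hf.ent r hr (key - D.rank) (by omega) k e he

/-- the weight of a coordinate -/
def wtI (D : ChevalleyDatum) (f : ℕ → ℤ) : D.Idx → ℤ := Sum.elim (fun _ => 0) (fun s => f s)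

theorem wtc_code (f : ℕ → ℤ) (a : D.Idx) : wtc D.rank f (code a) = wtI D f a := by
  rcases a with i | s
  · simp [wtc, code, wtI]
  · simp [wtc, code, wtI]

theorem dsum_eq_zero {F : Type*} [CommRing F] (P : F) (d : Desc) (x : ℕ) (h : ∀ e ∈ d, e.k ≠ x) : dsum P d x = 0 := by
  induction d with
  | nil => rfl
  | cons e d ih =>
    simp only [dsum]
    rw [if_neg (h e List.mem_cons_self), zero_add]
    exact ih (fun y hy => h y (List.mem_cons_of_mem _ hy))

theorem dsum_scale {F : Type*} [CommRing F] (P Q a b : F) (d : Desc) (x : ℕ)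
    (h : ∀ e ∈ d, e.k = x → a * P ^ e.e = Q ^ e.e * b) : a * dsum P d x = dsum Q d x * b := by
  induction d with
  | nil => simp [dsum]
  | cons e d ih =>
    simp only [dsum]
    rw [mul_add, add_mul, ih (fun y hy => h y (List.mem_cons_of_mem _ hy))]
    congr 1
    by_cases h1 : e.k = x
    · rw [if_pos h1, if_pos h1]
      have := h e List.mem_cons_self h1
      calc a * (((e.cp : F) - (e.cn : F)) * P ^ e.e) = ((e.cp : F) - (e.cn : F)) * (a * P ^ e.e) := by ring
        _ = ((e.cp : F) - (e.cn : F)) * Q ^ e.e * b := by rw [this]; ring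
    · rw [if_neg h1, if_neg h1]; simp

section entries
variable {F : Type*} [Field F]

/-- support of a root element with respect to an additive function -/
theorem x_support (G : Good D) {f : ℕ → ℤ} (hf : AddFn D f) (r : ℕ) (hr : r < D.nroots) (t : F)
    (row col : D.Idx) (h : D.x F r t row col ≠ 0) :
    row = col ∨ ∃ e : ℕ, 1 ≤ e ∧ wtI D f row = wtI D f col + (e : ℤ) * f r := by
  by_cases h1 : row = col
  · exact Or.inl h1
  · right
    rw [x_apply D G.wf r hr, if_neg (fun e => h1 (code_injective e).symm), zero_add] at h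
    by_contra h2
    apply h
    apply dsum_eq_zero
    intro e he hk
    apply h2
    refine ⟨e.e, desc_e_pos _ _ _ e he, ?_⟩
    have := desc_add hf r hr (code col) e he
    rwa [hk, wtc_code, wtc_code] at this

theorem x_diag (G : Good D) (r : ℕ) (t : F) (a : D.Idx) : D.x F r t a a = 1 := by
  by_cases hr : r < D.nroots
  · rw [x_apply D G.wf r hr, if_pos rfl, dsum_eq_zero, add_zero]
    intro e he hk
    have := desc_add G.ht_addFn r hr (code a) e he
    rw [hk] at this
    have h1 := desc_e_pos _ _ _ e he
    have h2 := G.ht_ne_zero hr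
    have h3 : (e.e : ℤ) * G.ht r = 0 := by linarith
    rcases mul_eq_zero.mp h3 with h4 | h4
    · have : e.e = 0 := by exact_mod_cast h4
      omega
    · exact h2 h4
  · simp [ChevalleyDatum.x, hr]

/-- conjugation of a root element by a diagonal matrix given by an additive function -/
theorem diag_mul_x (G : Good D) {f : ℕ → ℤ} (hf : AddFn D f) (c : F) (hc : c ≠ 0) (s : ℕ) (hs : s < D.nroots) (t : F) :
    Matrix.diagonal (fun a : D.Idx => c ^ (wtI D f a)) * D.x F s t =
      D.x F s (c ^ (f s) * t) * Matrix.diagonal (fun a : D.Idx => c ^ (wtI D f a)) := by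
  ext row col
  rw [Matrix.diagonal_mul, Matrix.mul_diagonal, x_apply D G.wf s hs, x_apply D G.wf s hs, mul_add, add_mul]
  congr 1
  · by_cases h : code col = code row
    · rw [if_pos h, code_injective h]; ring
    · rw [if_neg h]; ring
  · apply dsum_scale
    intro e he hk
    have := desc_add hf s hs (code col) e he
    rw [hk, wtc_code, wtc_code] at this
    rw [this, zpow_add₀ hc, mul_pow, ← zpow_natCast (c ^ f s), ← zpow_mul, mul_comm (f s)]
    ring

end entries

end Cfsg.Agent.Chev
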