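import Cfsg.Agent.Chev.Rels

/-!
# Root elements in the general linear group; `U`, `V`, `H`, `B`
-/

set_option autoImplicit false
set_option linter.unusedSectionVars false
set_option linter.unusedVariables false

namespace Cfsg.Agent.Chev
open Cfsg.Lie
open scoped MatrixGroups

/-! ### generalities on groups -/

section grp
variable {Γ : Type*} [Group Γ]

theorem conj_mem_closure {S : Set Γ} {K : Subgroup Γ} {g : Γ} (h1 : ∀ x ∈ S, g * x * g⁻¹ ∈ K) :
    ∀ x ∈ Subgroup.closure S, g * x * g⁻¹ ∈ K := by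
  intro x hx
  induction hx using Subgroup.closure_induction with
  | mem x hx => exact h1 x hx
  | one => simp
  | mul x y _ _ hx hy =>
    have : g * (x * y) * g⁻¹ = (g * x * g⁻¹) * (g * y * g⁻¹) := by group
    rw [this]; exact K.mul_mem hx hy
  | inv x _ hx =>
    have : g * x⁻¹ * g⁻¹ = (g * x * g⁻¹)⁻¹ := by group
    rw [this]; exact K.inv_mem hx

theorem mem_normalizer_closure {S : Set Γ} {g : Γ} (h1 : ∀ x ∈ S, g * x * g⁻¹ ∈ Subgroup.closure S)
    (h2 : ∀ x ∈ S, g⁻¹ * x * g ∈ Subgroup.closure S) :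
    g ∈ Subgroup.normalizer (Subgroup.closure S : Set Γ) := by
  rw [Subgroup.mem_normalizer_iff]
  intro x
  constructor
  · exact conj_mem_closure h1 x
  · intro hx
    have := conj_mem_closure (g := g⁻¹) (K := Subgroup.closure S) (by simpa using h2) _ hx
    simpa [mul_assoc] using this

theorem exists_mul_of_mem_sup {U H : Subgroup Γ} (hH : H ≤ Subgroup.normalizer (U : Set Γ)) {g : Γ}
    (hg : g ∈ U ⊔ H) : ∃ u ∈ U, ∃ h ∈ H, g = u * h := by
  have := Subgroup.coe_mul_of_right_le_normalizer_left U H hH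
  have hg' : g ∈ ((U ⊔ H : Subgroup Γ) : Set Γ) := hg
  rw [this, Set.mem_mul] at hg'
  obtain ⟨u, hu, h, hh, rfl⟩ := hg'
  exact ⟨u, hu, h, hh, rfl⟩

end grp

variable {D : ChevalleyDatum} {G : Good D} {F : Type*} [Field F]

namespace Rels
variable (R : Rels D G F)
include R

theorem add' (r : ℕ) (t u : F) : D.x F r t * D.x F r u = D.x F r (t + u) := by
  by_cases hr : r < D.nroots
  · exact R.add r hr t u
  · simp [ChevalleyDatum.x, hr]

/-- root elements as invertible matrices -/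
def xg (r : ℕ) (t : F) : GL D.Idx F :=
  ⟨D.x F r t, D.x F r (-t), by rw [R.add', add_neg_cancel, x_zero D G.wf],
    by rw [R.add', neg_add_cancel, x_zero D G.wf]⟩

@[simp] theorem coe_xg (r : ℕ) (t : F) : ((R.xg r t : GL D.Idx F) : Matrix D.Idx D.Idx F) = D.x F r t := rfl

theorem eq_xg_iff (g : GL D.Idx F) (r : ℕ) (t : F) : (g : Matrix D.Idx D.Idx F) = D.x F r t ↔ g = R.xg r t :=
  ⟨fun h => Units.ext h, fun h => by rw [h]; rfl⟩

theorem xg_add (r : ℕ) (t u : F) : R.xg r t * R.xg r u = R.xg r (t + u) := Units.ext (R.add' r t u)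

theorem xg_zero (r : ℕ) : R.xg r 0 = 1 := Units.ext (x_zero D G.wf r)

theorem xg_inv (r : ℕ) (t : F) : (R.xg r t)⁻¹ = R.xg r (-t) := by
  rw [inv_eq_iff_mul_eq_one, R.xg_add, add_neg_cancel, R.xg_zero]

theorem xg_oor (r : ℕ) (hr : ¬ r < D.nroots) (t : F) : R.xg r t = 1 := by
  apply Units.ext; simp [ChevalleyDatum.x, hr]

theorem mem_rootSubgroup (r : ℕ) (g : GL D.Idx F) : g ∈ D.rootSubgroup F r ↔ ∃ t, g = R.xg r t := by
  constructor
  · intro hg
    unfold ChevalleyDatum.rootSubgroup at hg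
    induction hg using Subgroup.closure_induction with
    | mem x hx => obtain ⟨t, ht⟩ := hx; exact ⟨t, (R.eq_xg_iff _ _ _).mp ht⟩
    | one => exact ⟨0, (R.xg_zero r).symm⟩
    | mul x y _ _ hx hy =>
      obtain ⟨t, rfl⟩ := hx; obtain ⟨u, rfl⟩ := hy
      exact ⟨t + u, R.xg_add r t u⟩
    | inv x _ hx => obtain ⟨t, rfl⟩ := hx; exact ⟨-t, R.xg_inv r t⟩
  · rintro ⟨t, rfl⟩
    exact Subgroup.subset_closure ⟨t, rfl⟩

theorem xg_mem_rootSubgroup (r : ℕ) (t : F) : R.xg r t ∈ D.rootSubgroup F r :=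
  (R.mem_rootSubgroup r _).mpr ⟨t, rfl⟩

end Rels

/-! ### levels -/

/-- the level of a coordinate: negative roots, then the `h_i`, then the positive roots -/
def ordw (D : ChevalleyDatum) : D.Idx → ℕ :=
  Sum.elim (fun _ => D.nroots / 2) (fun s => if (s : ℕ) < D.nroots / 2 then s else s + 1)

/-- the opposite level -/
def ordw' (D : ChevalleyDatum) (a : D.Idx) : ℕ := D.nroots - ordw D a

theorem ordw_le (G : Good D) (a : D.Idx) : ordw D a ≤ D.nroots := by
  have := G.even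
  rcases a with i | s
  · simp only [ordw, Sum.elim_inl]; omega
  · simp only [ordw, Sum.elim_inr]
    have := s.2
    split_ifs <;> omega

theorem ordw_lt (G : Good D) (a : D.Idx) : ordw D a < D.nroots + 1 := Nat.lt_succ_of_le (ordw_le G a)

theorem ordw'_lt (D : ChevalleyDatum) (a : D.Idx) : ordw' D a < D.nroots + 1 := by
  unfold ordw'; omega

theorem ordw_lt_of_wt_lt (G : Good D) {a b : D.Idx} (h : wtI D G.ht a < wtI D G.ht b) : ordw D a < ordw D b := by
  rcases a with i | s <;> rcases b with j | s'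
  · simp [wtI] at h
  · simp only [wtI, Sum.elim_inl, Sum.elim_inr] at h
    have := (G.ht_pos_iff s'.2).mp h
    simp only [ordw, Sum.elim_inl, Sum.elim_inr]
    rw [if_neg (by omega)]; omega
  · simp only [wtI, Sum.elim_inl, Sum.elim_inr] at h
    have := (G.ht_neg_iff s.2).mp h
    simp only [ordw, Sum.elim_inl, Sum.elim_inr]
    rw [if_pos this]; exact this
  · simp only [wtI, Sum.elim_inr] at h
    have := (G.ht_lt_iff s.2 s'.2).mp h
    simp only [ordw, Sum.elim_inr]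
    split_ifs <;> omega

theorem ordw_opp (G : Good D) (a b : D.Idx) (h : ordw D b < ordw D a) : ¬ ordw' D b < ordw' D a := by
  unfold ordw'; omega

theorem x_SD_pos (G : Good D) (r : ℕ) (h1 : D.nroots / 2 ≤ r) (t : F) :
    Tri.SD (ordw D) 1 (D.x F r t - 1) := by
  intro row col h
  by_cases hr : r < D.nroots
  · by_cases h2 : row = col
    · subst h2
      rw [Matrix.sub_apply, x_diag G, Matrix.one_apply_eq, sub_self] at h
      exact absurd rfl h
    · rw [Matrix.sub_apply, Matrix.one_apply_ne h2, sub_zero] at h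
      rcases x_support G G.ht_addFn r hr t row col h with h3 | ⟨e, he, h3⟩
      · exact absurd h3 h2
      · have h4 := (G.ht_pos_iff hr).mpr h1
        have h5 : wtI D G.ht col < wtI D G.ht row := by
          rw [h3]
          have : 0 < (e : ℤ) * G.ht r := mul_pos (by exact_mod_cast he) h4
          linarith
        have := ordw_lt_of_wt_lt G h5
        omega
  · simp [ChevalleyDatum.x, hr] at h

theorem x_SD_neg (G : Good D) (r : ℕ) (h1 : r < D.nroots / 2) (t : F) :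
    Tri.SD (ordw' D) 1 (D.x F r t - 1) := by
  intro row col h
  have hr : r < D.nroots := by have := G.even; omega
  by_cases h2 : row = col
  · subst h2
    rw [Matrix.sub_apply, x_diag G, Matrix.one_apply_eq, sub_self] at h
    exact absurd rfl h
  · rw [Matrix.sub_apply, Matrix.one_apply_ne h2, sub_zero] at h
    rcases x_support G G.ht_addFn r hr t row col h with h3 | ⟨e, he, h3⟩
    · exact absurd h3 h2
    · have h4 := (G.ht_neg_iff hr).mpr h1
      have h5 : wtI D G.ht row < wtI D G.ht col := by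
        rw [h3]
        have : (e : ℤ) * G.ht r < 0 := mul_neg_of_pos_of_neg (by exact_mod_cast he) h4
        linarith
      have := ordw_lt_of_wt_lt G h5
      have h6 := ordw_le G col
      unfold ordw'
      omega

namespace Rels
variable (R : Rels D G F)
include R

theorem xg_mem_depth_pos (r : ℕ) (h1 : D.nroots / 2 ≤ r) (t : F) : R.xg r t ∈ Tri.depthGrp F (ordw D) 1 :=
  ⟨x_SD_pos G r h1 t, x_SD_pos G r h1 (-t)⟩

theorem xg_mem_depth_neg (r : ℕ) (h1 : r < D.nroots / 2) (t : F) : R.xg r t ∈ Tri.depthGrp F (ordw' D) 1 :=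
  ⟨x_SD_neg G r h1 t, x_SD_neg G r h1 (-t)⟩

theorem U_le : D.posUnipotent F ≤ Tri.depthGrp F (ordw D) 1 := by
  unfold ChevalleyDatum.posUnipotent
  rw [Subgroup.closure_le]
  rintro g ⟨r, t, hr, hg⟩
  rw [(R.eq_xg_iff _ _ _).mp hg]
  exact R.xg_mem_depth_pos r ((G.isPosRoot_iff r).mp hr).1 t

theorem V_le : D.negUnipotent F ≤ Tri.depthGrp F (ordw' D) 1 := by
  unfold ChevalleyDatum.negUnipotent
  rw [Subgroup.closure_le]
  rintro g ⟨r, t, hr, hg⟩
  rw [(R.eq_xg_iff _ _ _).mp hg]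
  exact R.xg_mem_depth_neg r ((G.isNegRoot_iff r).mp hr) t

theorem xg_mem_U (r : ℕ) (h1 : D.nroots / 2 ≤ r) (h2 : r < D.nroots) (t : F) : R.xg r t ∈ D.posUnipotent F :=
  Subgroup.subset_closure ⟨r, t, (G.isPosRoot_iff r).mpr ⟨h1, h2⟩, rfl⟩

theorem xg_mem_V (r : ℕ) (h1 : r < D.nroots / 2) (t : F) : R.xg r t ∈ D.negUnipotent F :=
  Subgroup.subset_closure ⟨r, t, (G.isNegRoot_iff r).mpr h1, rfl⟩

/-! ### the torus -/

/-- diagonal elements acting on every root subgroup through the corresponding diagonal entry -/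
def IsTor (g : GL D.Idx F) : Prop :=
  ∃ χ : D.Idx → Fˣ, (∀ i, χ (Sum.inl i) = 1) ∧ (g : Matrix D.Idx D.Idx F) = Matrix.diagonal (fun a => (χ a : F)) ∧
    ∀ (s : Fin D.nroots) (t : F), g * R.xg s t = R.xg s (χ (Sum.inr s) * t) * g

theorem IsTor.one : R.IsTor 1 := ⟨fun _ => 1, fun _ => rfl, by simp, by simp⟩

theorem IsTor.mul {g h : GL D.Idx F} (hg : R.IsTor g) (hh : R.IsTor h) : R.IsTor (g * h) := by
  obtain ⟨χ, h1, h2, h3⟩ := hg
  obtain ⟨χ', h1', h2', h3'⟩ := hh
  refine ⟨χ * χ', fun i => by simp [h1, h1'], ?_, ?_⟩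
  · rw [Units.val_mul, h2, h2', Matrix.diagonal_mul_diagonal]; rfl
  · intro s t
    rw [mul_assoc, h3', ← mul_assoc, h3, mul_assoc]
    congr 2
    simp [mul_assoc]

theorem IsTor.inv {g : GL D.Idx F} (hg : R.IsTor g) : R.IsTor g⁻¹ := by
  obtain ⟨χ, h1, h2, h3⟩ := hg
  refine ⟨χ⁻¹, fun i => by simp [h1], ?_, ?_⟩
  · have : (g : Matrix D.Idx D.Idx F) * Matrix.diagonal (fun a => ((χ⁻¹ a : Fˣ) : F)) = 1 := by
      rw [h2, Matrix.diagonal_mul_diagonal]
      simp
    calc ((g⁻¹ : GL D.Idx F) : Matrix D.Idx D.Idx F)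
        = ((g⁻¹ : GL D.Idx F) : Matrix D.Idx D.Idx F) * ((g : Matrix D.Idx D.Idx F) *
            Matrix.diagonal (fun a => ((χ⁻¹ a : Fˣ) : F))) := by rw [this, mul_one]
      _ = _ := by rw [← mul_assoc, Units.inv_mul, one_mul]
  · intro s t
    have := h3 s (((χ⁻¹ (Sum.inr s) : Fˣ) : F) * t)
    rw [← mul_assoc] at this
    simp only [Pi.inv_apply, Units.mul_inv, one_mul] at this
    simp only [Pi.inv_apply]
    calc g⁻¹ * R.xg s t = g⁻¹ * (R.xg s t * g) * g⁻¹ := by group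
      _ = g⁻¹ * (g * R.xg s (((χ (Sum.inr s))⁻¹ : Fˣ) * t)) * g⁻¹ := by rw [this]
      _ = _ := by group

/-- the group of such elements -/
def Tor : Subgroup (GL D.Idx F) where
  carrier := {g | R.IsTor g}
  one_mem' := IsTor.one R
  mul_mem' := fun a b => IsTor.mul R a b
  inv_mem' := fun a => IsTor.inv R a

/-- `h_r(c)` as an invertible matrix -/
theorem hMat_isTor (g : GL D.Idx F) (r : ℕ) (hr : r < D.nroots) (c : F) (hc : c ≠ 0)
    (hg : (g : Matrix D.Idx D.Idx F) = D.hMat F r c) : R.IsTor g := by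
  refine ⟨fun a => (Units.mk0 c hc) ^ (wtI D (pairing D r) a), fun i => by simp [wtI], ?_, ?_⟩
  · rw [hg, R.hmat r hr c hc]
    congr 1
    funext a
    simp
  · intro s t
    apply Units.ext
    rw [Units.val_mul, Units.val_mul, hg, R.hmat r hr c hc, coe_xg, coe_xg,
      diag_mul_x G (G.pairing_addFn r) c hc s s.2 t]
    congr 2
    simp [wtI]

theorem H_le_Tor : D.diagonalSubgroup F ≤ R.Tor := by
  unfold ChevalleyDatum.diagonalSubgroup
  rw [Subgroup.closure_le]
  rintro g ⟨r, t, hr, ht, hg⟩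
  exact R.hMat_isTor g r hr t ht hg

theorem IsTor.conj {g : GL D.Idx F} (hg : R.IsTor g) (s : ℕ) (t : F) :
    ∃ c : F, c ≠ 0 ∧ g * R.xg s t * g⁻¹ = R.xg s (c * t) := by
  by_cases hs : s < D.nroots
  · obtain ⟨χ, h1, h2, h3⟩ := hg
    refine ⟨χ (Sum.inr ⟨s, hs⟩), Units.ne_zero _, ?_⟩
    rw [h3 ⟨s, hs⟩ t]; group
  · exact ⟨1, one_ne_zero, by rw [R.xg_oor s hs, R.xg_oor s hs]; group⟩

theorem Tor_le_tri (ρ : D.Idx → ℕ) : R.Tor ≤ Tri.triGrp F ρ := by
  have key : ∀ g, R.IsTor g → Tri.LT ρ (g : Matrix D.Idx D.Idx F) := by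
    rintro g ⟨χ, h1, h2, h3⟩ i j hij
    left
    by_contra h
    rw [h2, Matrix.diagonal_apply_ne _ h] at hij
    exact hij rfl
  intro g hg
  exact ⟨key g hg, key _ (IsTor.inv R hg)⟩

/-- a torus element normalizes the group generated by root subgroups -/
theorem Tor_normalizes (p : ℕ → Prop) {g : GL D.Idx F} (hg : R.IsTor g) :
    g ∈ Subgroup.normalizer (Subgroup.closure {x : GL D.Idx F | ∃ (r : ℕ) (t : F), p r ∧
      (x : Matrix D.Idx D.Idx F) = D.x F r t} : Set (GL D.Idx F)) := by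
  apply mem_normalizer_closure
  · rintro x ⟨r, t, hr, hx⟩
    rw [(R.eq_xg_iff _ _ _).mp hx]
    obtain ⟨c, _, hc⟩ := IsTor.conj R hg r t
    rw [hc]
    exact Subgroup.subset_closure ⟨r, _, hr, rfl⟩
  · rintro x ⟨r, t, hr, hx⟩
    rw [(R.eq_xg_iff _ _ _).mp hx]
    obtain ⟨c, _, hc⟩ := IsTor.conj R (IsTor.inv R hg) r t
    rw [inv_inv] at hc
    rw [hc]
    exact Subgroup.subset_closure ⟨r, _, hr, rfl⟩

theorem H_le_normalizer_U : D.diagonalSubgroup F ≤ Subgroup.normalizer (D.posUnipotent F : Set (GL D.Idx F)) :=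
  fun g hg => R.Tor_normalizes D.IsPosRoot (R.H_le_Tor hg)

theorem H_le_normalizer_V : D.diagonalSubgroup F ≤ Subgroup.normalizer (D.negUnipotent F : Set (GL D.Idx F)) :=
  fun g hg => R.Tor_normalizes D.IsNegRoot (R.H_le_Tor hg)

/-- a unitriangular diagonal matrix is trivial -/
theorem eq_one_of_depth_of_diag {ρ : D.Idx → ℕ} {g : GL D.Idx F} (h1 : g ∈ Tri.depthGrp F ρ 1)
    (h2 : ∀ i j, i ≠ j → (g : Matrix D.Idx D.Idx F) i j = 0) : g = 1 := by
  apply Units.ext
  ext i j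
  by_cases h : i = j
  · subst h; rw [Tri.diag_of_SD h1.1]; simp
  · rw [h2 i j h]; simp [Matrix.one_apply_ne h]

theorem IsTor.offdiag {g : GL D.Idx F} (hg : R.IsTor g) (i j : D.Idx) (h : i ≠ j) :
    (g : Matrix D.Idx D.Idx F) i j = 0 := by
  obtain ⟨χ, h1, h2, h3⟩ := hg
  rw [h2, Matrix.diagonal_apply_ne _ h]

theorem U_inf_H : D.posUnipotent F ⊓ D.diagonalSubgroup F = ⊥ := by
  rw [eq_bot_iff]
  rintro g ⟨h1, h2⟩
  exact R.eq_one_of_depth_of_diag (R.U_le h1) (IsTor.offdiag R (R.H_le_Tor h2))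

theorem B_le_tri : D.borelSubgroup F ≤ Tri.triGrp F (ordw D) :=
  sup_le (R.U_le.trans Tri.depthGrp_le_triGrp) (R.H_le_Tor.trans (R.Tor_le_tri _))

theorem VH_le_tri : D.negUnipotent F ⊔ D.diagonalSubgroup F ≤ Tri.triGrp F (ordw' D) :=
  sup_le (R.V_le.trans Tri.depthGrp_le_triGrp) (R.H_le_Tor.trans (R.Tor_le_tri _))

theorem B_inf_V : D.borelSubgroup F ⊓ D.negUnipotent F = ⊥ := by
  rw [eq_bot_iff]
  rintro g ⟨h1, h2⟩
  exact R.eq_one_of_depth_of_diag (R.V_le h2)
    (Tri.LT.diagonal (ordw_opp G) (R.B_le_tri h1).1 (Tri.depthGrp_le_triGrp (R.V_le h2)).1)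

theorem B_inf_VH : D.borelSubgroup F ⊓ (D.negUnipotent F ⊔ D.diagonalSubgroup F) = D.diagonalSubgroup F := by
  apply le_antisymm
  · rintro g ⟨h1, h2⟩
    obtain ⟨u, hu, h, hh, rfl⟩ := exists_mul_of_mem_sup R.H_le_normalizer_U h1
    have h3 : u ∈ D.negUnipotent F ⊔ D.diagonalSubgroup F := by
      have := (D.negUnipotent F ⊔ D.diagonalSubgroup F).mul_mem h2
        ((D.negUnipotent F ⊔ D.diagonalSubgroup F).inv_mem (Subgroup.mem_sup_right hh))
      simpa using this
    have h4 : u = 1 := R.eq_one_of_depth_of_diag (R.U_le hu)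
      (Tri.LT.diagonal (ordw_opp G) (Tri.depthGrp_le_triGrp (R.U_le hu)).1 (R.VH_le_tri h3).1)
    rw [h4, one_mul]; exact hh
  · exact le_inf le_sup_right le_sup_right

end Rels

end Cfsg.Agent.Chev
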