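import Cfsg.Agent.Chev.Thy2
import Cfsg.Agent.Chev.Root2

/-!
# Words, the commutator formula in `GL`, normalisation of groups generated by root subgroups
-/

set_option autoImplicit false
set_option linter.unusedSectionVars false
set_option linter.unusedVariables false

namespace Cfsg.Agent.Chev
open Cfsg.Lie
open scoped MatrixGroups

variable {D : ChevalleyDatum} {G : Good D} {F : Type*} [Field F]

theorem chainRoot_add (G : Good D) {f : ℕ → ℤ} (hf : AddFn D f) {r s i k : ℕ} (hr : r < D.nroots)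
    (hs : s < D.nroots) (hi : 1 ≤ i) (h : D.chainRoot r s i = some k) :
    k < D.nroots ∧ f k = f s + (i : ℤ) * f r := by
  unfold ChevalleyDatum.chainRoot at h
  rw [Option.map_eq_some_iff] at h
  obtain ⟨e, he, rfl⟩ := h
  refine ⟨(G.ent_add r hr s hs _ e he).1, ?_⟩
  rw [hf.ent r hr s hs _ e he, Nat.sub_add_cancel hi]

theorem commTerms_add (G : Good D) {f : ℕ → ℤ} (hf : AddFn D f) {r s : ℕ} (hr : r < D.nroots)
    (hs : s < D.nroots) : ∀ c ∈ D.commTerms r s, c.1 < D.nroots ∧ 1 ≤ c.2.2.1 ∧ 1 ≤ c.2.2.2 ∧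
      f c.1 = (c.2.2.1 : ℤ) * f r + (c.2.2.2 : ℤ) * f s := by
  intro c hc
  unfold ChevalleyDatum.commTerms at hc
  simp only [List.mem_filterMap, List.mem_cons, List.not_mem_nil, or_false] at hc
  obtain ⟨cand, hcand, hmap⟩ := hc
  rw [Option.map_eq_some_iff] at hmap
  obtain ⟨k, hk, rfl⟩ := hmap
  rcases hcand with rfl | rfl | rfl | rfl | rfl | rfl | rfl
  · obtain ⟨h1, h2⟩ := chainRoot_add G hf hr hs (le_refl 1) hk
    exact ⟨h1, le_refl _, le_refl _, by simp only [h2]; push_cast; ring⟩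
  · obtain ⟨h1, h2⟩ := chainRoot_add G hf hr hs (by norm_num) hk
    exact ⟨h1, by norm_num, le_refl _, by simp only [h2]; push_cast; ring⟩
  · obtain ⟨h1, h2⟩ := chainRoot_add G hf hs hr (by norm_num) hk
    exact ⟨h1, le_refl _, by norm_num, by simp only [h2]; push_cast; ring⟩
  · obtain ⟨h1, h2⟩ := chainRoot_add G hf hr hs (by norm_num) hk
    exact ⟨h1, by norm_num, le_refl _, by simp only [h2]; push_cast; ring⟩
  · obtain ⟨h1, h2⟩ := chainRoot_add G hf hs hr (by norm_num) hk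
    exact ⟨h1, le_refl _, by norm_num, by simp only [h2]; push_cast; ring⟩
  · simp only [Option.bind_eq_some_iff] at hk
    obtain ⟨k', hk', hk⟩ := hk
    obtain ⟨h1, h2⟩ := chainRoot_add G hf hr hs (by norm_num) hk'
    obtain ⟨h3, h4⟩ := chainRoot_add G hf h1 hs (le_refl 1) hk
    exact ⟨h3, by norm_num, by norm_num, by simp only [h4, h2]; push_cast; ring⟩
  · simp only [Option.bind_eq_some_iff] at hk
    obtain ⟨k', hk', hk⟩ := hk
    obtain ⟨h1, h2⟩ := chainRoot_add G hf hs hr (by norm_num) hk'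
    obtain ⟨h3, h4⟩ := chainRoot_add G hf h1 hr (le_refl 1) hk
    exact ⟨h3, by norm_num, by norm_num, by simp only [h4, h2]; push_cast; ring⟩

theorem Good.pos_of_coord (G : Good D) {c j : ℕ} (hc : c < D.nroots) (hj : j < D.rank) (h : 0 < G.rc c j) :
    D.nroots / 2 ≤ c := by
  by_contra h1
  have := (G.rc_sign c hc j hj).2 (by omega)
  omega

theorem Good.simple_pos (G : Good D) {i : ℕ} (hi : i < D.rank) : D.nroots / 2 ≤ D.simple i :=
  G.pos_of_coord (G.simple_lt i hi) hi (by rw [G.rc_simple i hi i hi, if_pos rfl]; norm_num)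

theorem Good.neg_lt_half (G : Good D) {r : ℕ} (hr : r < D.nroots) (h : D.nroots / 2 ≤ r) : D.neg r < D.nroots / 2 := by
  have := G.neg_eq r hr
  have := G.even
  omega

theorem Good.half_le_neg (G : Good D) {r : ℕ} (h : r < D.nroots / 2) : D.nroots / 2 ≤ D.neg r := by
  have h1 := G.even
  have := G.neg_eq r (by omega)
  omega

namespace Rels
variable (R : Rels D G F)
include R

/-- words in `GL` -/
def wg (w : List (ℕ × F)) : GL D.Idx F := (w.map fun p => R.xg p.1 p.2).prod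

theorem coe_wg (w : List (ℕ × F)) : ((R.wg w : GL D.Idx F) : Matrix D.Idx D.Idx F) = D.wordMat F w := by
  induction w with
  | nil => simp [wg, ChevalleyDatum.wordMat]
  | cons p w ih =>
    simp only [wg, ChevalleyDatum.wordMat, List.map_cons, List.prod_cons, Units.val_mul, coe_xg] at ih ⊢
    rw [ih]

theorem eq_wg_iff (g : GL D.Idx F) (w : List (ℕ × F)) : (g : Matrix D.Idx D.Idx F) = D.wordMat F w ↔ g = R.wg w :=
  ⟨fun h => Units.ext (by rw [h, R.coe_wg]), fun h => by rw [h, R.coe_wg]⟩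

theorem wg_nil : R.wg [] = 1 := rfl
theorem wg_cons (p : ℕ × F) (w : List (ℕ × F)) : R.wg (p :: w) = R.xg p.1 p.2 * R.wg w := by
  simp [wg]
theorem wg_append (w w' : List (ℕ × F)) : R.wg (w ++ w') = R.wg w * R.wg w' := by
  simp [wg]

theorem wg_mem (K : Subgroup (GL D.Idx F)) (w : List (ℕ × F)) (h : ∀ p ∈ w, R.xg p.1 p.2 ∈ K) : R.wg w ∈ K := by
  apply Subgroup.list_prod_mem
  intro x hx
  rw [List.mem_map] at hx
  obtain ⟨p, hp, rfl⟩ := hx
  exact h p hp

theorem comm_g {r s : ℕ} (hr : r < D.nroots) (hs : s < D.nroots) (h1 : s ≠ r) (h2 : s ≠ D.neg r) (t u : F) :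
    (R.xg r t)⁻¹ * R.xg s u * R.xg r t = R.xg s u * R.wg (D.commWord F r s t u) := by
  have : R.xg s u * R.xg r t = R.xg r t * R.xg s u * R.wg (D.commWord F r s t u) := by
    apply Units.ext
    simp only [Units.val_mul, coe_xg, coe_wg]
    exact R.comm r s hr hs h1 h2 t u
  rw [mul_assoc, this]; group

/-- a root element normalises a group generated by root subgroups, if the set of roots is suitably closed -/
theorem xg_normalizes (p : ℕ → Prop) (r : ℕ) (hr : r < D.nroots)
    (hp : ∀ s, p s → s < D.nroots ∧ s ≠ r ∧ s ≠ D.neg r ∧ ∀ c ∈ D.commTerms r s, p c.1) (t : F) :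
    R.xg r t ∈ Subgroup.normalizer (Subgroup.closure {x : GL D.Idx F | ∃ (s : ℕ) (u : F), p s ∧
      (x : Matrix D.Idx D.Idx F) = D.x F s u} : Set (GL D.Idx F)) := by
  have key : ∀ (t : F) (x : GL D.Idx F), x ∈ {x : GL D.Idx F | ∃ (s : ℕ) (u : F), p s ∧
      (x : Matrix D.Idx D.Idx F) = D.x F s u} → (R.xg r t)⁻¹ * x * R.xg r t ∈
      Subgroup.closure {x : GL D.Idx F | ∃ (s : ℕ) (u : F), p s ∧ (x : Matrix D.Idx D.Idx F) = D.x F s u} := by
    rintro t x ⟨s, u, hs, hx⟩
    obtain ⟨h1, h2, h3, h4⟩ := hp s hs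
    rw [(R.eq_xg_iff _ _ _).mp hx, R.comm_g hr h1 h2 h3]
    refine Subgroup.mul_mem _ (Subgroup.subset_closure ⟨s, u, hs, rfl⟩) ?_
    apply R.wg_mem
    intro q hq
    unfold ChevalleyDatum.commWord at hq
    rw [List.mem_map] at hq
    obtain ⟨c, hc, rfl⟩ := hq
    exact Subgroup.subset_closure ⟨c.1, _, h4 c hc, rfl⟩
  apply mem_normalizer_closure
  · intro x hx
    have := key (-t) x hx
    rwa [← R.xg_inv, inv_inv] at this
  · exact key t

theorem xg_mem_group (r : ℕ) (t : F) : R.xg r t ∈ D.group F := by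
  by_cases hr : r < D.nroots
  · apply Subgroup.subset_closure
    refine ⟨⟨r, hr⟩, t, ?_⟩
    simp [ChevalleyDatum.x, hr]
  · rw [R.xg_oor r hr]; exact Subgroup.one_mem _

theorem wg_mem_group (w : List (ℕ × F)) : R.wg w ∈ D.group F := R.wg_mem _ _ (fun p _ => R.xg_mem_group _ _)

theorem U_le_group : D.posUnipotent F ≤ D.group F := by
  unfold ChevalleyDatum.posUnipotent
  rw [Subgroup.closure_le]
  rintro g ⟨r, t, _, hg⟩
  rw [(R.eq_xg_iff _ _ _).mp hg]; exact R.xg_mem_group r t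

theorem V_le_group : D.negUnipotent F ≤ D.group F := by
  unfold ChevalleyDatum.negUnipotent
  rw [Subgroup.closure_le]
  rintro g ⟨r, t, _, hg⟩
  rw [(R.eq_xg_iff _ _ _).mp hg]; exact R.xg_mem_group r t

theorem group_le {K : Subgroup (GL D.Idx F)} (h : ∀ r < D.nroots, ∀ t, R.xg r t ∈ K) : D.group F ≤ K := by
  unfold ChevalleyDatum.group
  rw [Subgroup.closure_le]
  rintro g ⟨r, t, hg⟩
  have : g = R.xg r t := by
    apply Units.ext
    rw [hg]; simp [ChevalleyDatum.x]
  rw [this]; exact h r r.2 t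

theorem U_sup_V : D.posUnipotent F ⊔ D.negUnipotent F = D.group F := by
  apply le_antisymm (sup_le R.U_le_group R.V_le_group)
  apply R.group_le
  intro r hr t
  rcases Nat.lt_or_ge r (D.nroots / 2) with h | h
  · exact Subgroup.mem_sup_right (R.xg_mem_V r h t)
  · exact Subgroup.mem_sup_left (R.xg_mem_U r h hr t)

theorem H_le_group : D.diagonalSubgroup F ≤ D.group F := by
  unfold ChevalleyDatum.diagonalSubgroup
  rw [Subgroup.closure_le]
  rintro g ⟨r, t, _, _, hg⟩
  rw [(R.eq_wg_iff _ _).mp hg]; exact R.wg_mem_group _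

theorem N_le_group : D.monomialSubgroup F ≤ D.group F := by
  unfold ChevalleyDatum.monomialSubgroup
  apply sup_le R.H_le_group
  rw [Subgroup.closure_le]
  rintro g ⟨r, _, hg⟩
  rw [(R.eq_wg_iff _ _).mp hg]; exact R.wg_mem_group _

theorem B_le_group : D.borelSubgroup F ≤ D.group F := sup_le R.U_le_group R.H_le_group

/-! ### the elements `n_i` -/

/-- `n_r(t)` in `GL` -/
def ng (r : ℕ) (t : F) : GL D.Idx F := R.wg (D.nWord r t)

theorem coe_ng (r : ℕ) (t : F) : ((R.ng r t : GL D.Idx F) : Matrix D.Idx D.Idx F) = D.nMat F r t := R.coe_wg _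

theorem ng_conj {i : ℕ} (hi : i < D.rank) {s : ℕ} (hs : s < D.nroots) (t : F) :
    R.ng (D.simple i) 1 * R.xg s t * (R.ng (D.simple i) 1)⁻¹ = R.xg (D.reflectRoot i s) ((G.eta i s : F) * t) := by
  rw [mul_inv_eq_iff_eq_mul]
  apply Units.ext
  simp only [Units.val_mul, coe_xg, coe_ng]
  exact R.nconj i hi s hs t

theorem ng_mem_N {r : ℕ} (hr : r < D.nroots) : R.ng r 1 ∈ D.monomialSubgroup F :=
  Subgroup.mem_sup_right (Subgroup.subset_closure ⟨r, hr, R.coe_ng r 1⟩)

theorem eta_ne_zero {i : ℕ} (hi : i < D.rank) {s : ℕ} (hs : s < D.nroots) : (G.eta i s : F) ≠ 0 := by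
  rcases G.eta_sq i hi s hs with h | h <;> rw [h] <;> simp

theorem eta_mul_self {i : ℕ} (hi : i < D.rank) {s : ℕ} (hs : s < D.nroots) : (G.eta i s : F) * (G.eta i s : F) = 1 := by
  rcases G.eta_sq i hi s hs with h | h <;> rw [h] <;> simp

theorem B_sup_N (G2 : Good2 D) : D.borelSubgroup F ⊔ D.monomialSubgroup F = D.group F := by
  apply le_antisymm (sup_le R.B_le_group R.N_le_group)
  apply R.group_le
  apply G2.root_ind (fun r => ∀ t, R.xg r t ∈ D.borelSubgroup F ⊔ D.monomialSubgroup F)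
  · intro i hi t
    exact Subgroup.mem_sup_left (Subgroup.mem_sup_left (R.xg_mem_U _ (G.simple_pos hi) (G.simple_lt i hi) t))
  · intro i hi s hs ih t
    have h1 := R.ng_conj hi hs ((G.eta i s : F) * t)
    rw [← mul_assoc, R.eta_mul_self hi hs, one_mul] at h1
    rw [← h1]
    have hn : R.ng (D.simple i) 1 ∈ D.borelSubgroup F ⊔ D.monomialSubgroup F :=
      Subgroup.mem_sup_right (R.ng_mem_N (G.simple_lt i hi))
    exact Subgroup.mul_mem _ (Subgroup.mul_mem _ hn (ih _)) (Subgroup.inv_mem _ hn)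

end Rels

end Cfsg.Agent.Chev
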