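import Cfsg.Agent.Chev.Thy3

/-!
# The structure of `U`: unique products over the positive roots
-/

set_option autoImplicit false
set_option linter.unusedSectionVars false
set_option linter.unusedVariables false

namespace Cfsg.Agent.Chev
open Cfsg.Lie
open scoped MatrixGroups

variable {D : ChevalleyDatum} {G : Good D} {F : Type*} [Field F]

/-- the subgroup generated by the root subgroups `X_s`, `p s` -/
def UU (D : ChevalleyDatum) (F : Type*) [Field F] (p : ℕ → Prop) : Subgroup (GL D.Idx F) :=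
  Subgroup.closure {x : GL D.Idx F | ∃ (s : ℕ) (u : F), p s ∧ (x : Matrix D.Idx D.Idx F) = D.x F s u}

theorem UU_pos : UU D F D.IsPosRoot = D.posUnipotent F := rfl
theorem UU_neg : UU D F D.IsNegRoot = D.negUnipotent F := rfl

theorem UU_mono {p q : ℕ → Prop} (h : ∀ s, p s → q s) : UU D F p ≤ UU D F q := by
  apply Subgroup.closure_mono
  rintro x ⟨s, u, hs, hx⟩
  exact ⟨s, u, h s hs, hx⟩

theorem Good.half_pos (G : Good D) : 0 < D.nroots / 2 := by
  have h1 := G.simple_lt 0 G.rank_pos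
  have h2 := G.even
  omega

/-! ### a finer level function -/

/-- the level given by the height function -/
def Good.lvl (G : Good D) (a : D.Idx) : ℕ := (wtI D G.ht a + G.ht (D.nroots - 1)).toNat

theorem Good.ht_top_pos (G : Good D) : 0 < G.ht (D.nroots - 1) := by
  have h1 := G.half_pos
  have h2 := G.even
  exact (G.ht_pos_iff (by omega)).mpr (by omega)

theorem Good.lvl_cast (G : Good D) (a : D.Idx) : ((G.lvl a : ℕ) : ℤ) = wtI D G.ht a + G.ht (D.nroots - 1) := by
  unfold Good.lvl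
  apply Int.toNat_of_nonneg
  have h1 := G.half_pos
  have h2 := G.even
  rcases a with i | s
  · simp only [wtI, Sum.elim_inl, zero_add]; exact G.ht_top_pos.le
  · simp only [wtI, Sum.elim_inr]
    have h3 : D.neg 0 = D.nroots - 1 := by rw [G.neg_eq 0 (by omega)]; omega
    have h4 := G.ht_addFn.neg 0 (by omega)
    rw [h3] at h4
    have h5 : G.ht 0 ≤ G.ht s := by
      rcases Nat.eq_zero_or_pos (s : ℕ) with h | h
      · rw [h]
      · exact (G.ht_lt h s.2).le
    linarith

theorem x_SD_lvl (G : Good D) (r : ℕ) (d : ℕ) (hd : (d : ℤ) ≤ G.ht r) (hd1 : 1 ≤ d) (t : F) :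
    Tri.SD G.lvl d (D.x F r t - 1) := by
  intro row col h
  by_cases hr : r < D.nroots
  · by_cases h2 : row = col
    · subst h2
      rw [Matrix.sub_apply, x_diag G, Matrix.one_apply_eq, sub_self] at h
      exact absurd rfl h
    · rw [Matrix.sub_apply, Matrix.one_apply_ne h2, sub_zero] at h
      rcases x_support G G.ht_addFn r hr t row col h with h3 | ⟨e, he, h3⟩
      · exact absurd h3 h2
      · have h4 : (1 : ℤ) ≤ (e : ℤ) := by exact_mod_cast he
        have h5 : (0 : ℤ) < G.ht r := by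
          have : (1 : ℤ) ≤ (d : ℤ) := by exact_mod_cast hd1
          linarith
        have h6 : G.ht r ≤ (e : ℤ) * G.ht r := by nlinarith
        have h7 := G.lvl_cast row
        have h8 := G.lvl_cast col
        have : ((G.lvl col + d : ℕ) : ℤ) ≤ (G.lvl row : ℤ) := by
          push_cast; linarith
        exact_mod_cast this
  · simp [ChevalleyDatum.x, hr] at h

theorem x_entry_h (G : Good D) {k : ℕ} (hk : k < D.nroots) (a : F) (i : Fin D.rank) :
    D.x F k a (Sum.inl i) (Sum.inr ⟨D.neg k, G.neg_lt hk⟩) = (((D.coroot.getD k #[]).getD i 0 : ℤ) : F) * a := by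
  have h2 : (⟨D.neg k, G.neg_lt hk⟩ : Fin D.nroots) ≠ ⟨k, hk⟩ := fun e => G.neg_ne hk (Fin.mk.inj e)
  unfold ChevalleyDatum.x
  rw [dif_pos hk]
  unfold ChevalleyDatum.xMat
  simp only [Matrix.of_apply]
  rw [if_neg h2, if_pos (show D.neg k = D.negIdx.getD k 0 from rfl)]

namespace Rels
variable (R : Rels D G F)
include R

theorem xg_mem_UU {p : ℕ → Prop} {s : ℕ} (hs : p s) (u : F) : R.xg s u ∈ UU D F p :=
  Subgroup.subset_closure ⟨s, u, hs, rfl⟩

theorem UU_le {p : ℕ → Prop} {K : Subgroup (GL D.Idx F)} (h : ∀ s, p s → ∀ u, R.xg s u ∈ K) : UU D F p ≤ K := by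
  unfold UU
  rw [Subgroup.closure_le]
  rintro x ⟨s, u, hs, hx⟩
  rw [(R.eq_xg_iff _ _ _).mp hx]; exact h s hs u

/-! ### `S1045` -/

theorem simple_normalizes {i : ℕ} (hi : i < D.rank) (r : ℕ) (hr : r = D.simple i ∨ r = D.neg (D.simple i)) (t : F) :
    R.xg r t ∈ Subgroup.normalizer (UU D F (fun s => D.IsPosRoot s ∧ s ≠ D.simple i) : Set (GL D.Idx F)) := by
  have hsl := G.simple_lt i hi
  have hsp := G.simple_pos hi
  have hnl := G.neg_lt_half hsl hsp
  have hrn : r < D.nroots := by rcases hr with rfl | rfl; exact hsl; exact G.neg_lt hsl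
  apply R.xg_normalizes _ r hrn
  rintro s ⟨hs1, hs2⟩
  obtain ⟨hs3, hs4⟩ := (G.isPosRoot_iff s).mp hs1
  refine ⟨hs4, ?_, ?_, ?_⟩
  · rcases hr with rfl | rfl
    · exact hs2
    · omega
  · rcases hr with rfl | rfl
    · omega
    · rw [G.neg_neg hsl]; exact hs2
  · intro c hc
    obtain ⟨j, hj, hji, hpos⟩ := G.other_coord i hi s hs4 hs3 hs2
    obtain ⟨h1, h2, h3, h4⟩ := commTerms_add G (G.rc_addFn j hj) hrn hs4 c hc
    have h5 : G.rc (D.simple i) j = 0 := by rw [G.rc_simple i hi j hj, if_neg (fun h => hji h.symm)]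
    have h6 : G.rc r j = 0 := by
      rcases hr with rfl | rfl
      · exact h5
      · rw [G.rc_neg _ hsl j hj, h5, neg_zero]
    simp only [h6, mul_zero, zero_add] at h4
    have h7 : 0 < G.rc c.1 j := by
      rw [h4]; exact mul_pos (by exact_mod_cast h3) hpos
    refine ⟨(G.isPosRoot_iff _).mpr ⟨G.pos_of_coord h1 hj h7, h1⟩, ?_⟩
    intro h8
    rw [h8, h5] at h7
    exact lt_irrefl _ h7

theorem rootSubgroup_le {r : ℕ} {K : Subgroup (GL D.Idx F)} (h : ∀ t, R.xg r t ∈ K) : D.rootSubgroup F r ≤ K := by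
  intro g hg
  obtain ⟨t, rfl⟩ := (R.mem_rootSubgroup r g).mp hg
  exact h t

theorem Ui_sup {i : ℕ} (hi : i < D.rank) :
    UU D F (fun s => D.IsPosRoot s ∧ s ≠ D.simple i) ⊔ D.rootSubgroup F (D.simple i) = D.posUnipotent F := by
  apply le_antisymm
  · apply sup_le
    · exact UU_mono (fun s hs => hs.1)
    · exact R.rootSubgroup_le (fun t => R.xg_mem_U _ (G.simple_pos hi) (G.simple_lt i hi) t)
  · rw [← UU_pos]
    apply R.UU_le
    intro s hs u
    by_cases h : s = D.simple i
    · subst h; exact Subgroup.mem_sup_right (R.xg_mem_rootSubgroup _ u)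
    · exact Subgroup.mem_sup_left (R.xg_mem_UU (p := fun s => D.IsPosRoot s ∧ s ≠ D.simple i) ⟨hs, h⟩ u)

/-! ### products over the roots `≥ k` -/

/-- the roots with index at least `k` -/
def geP (D : ChevalleyDatum) (k : ℕ) : ℕ → Prop := fun s => k ≤ s ∧ s < D.nroots

/-- `x_k(t_k) x_{k+1}(t_{k+1}) ⋯` (`m` factors) -/
def prodFrom (t : ℕ → F) (k m : ℕ) : GL D.Idx F := ((List.range' k m).map fun r => R.xg r (t r)).prod

theorem prodFrom_zero (t : ℕ → F) (k : ℕ) : R.prodFrom t k 0 = 1 := rfl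

theorem prodFrom_succ (t : ℕ → F) (k m : ℕ) : R.prodFrom t k (m + 1) = R.xg k (t k) * R.prodFrom t (k + 1) m := by
  simp [prodFrom, List.range'_succ]

theorem prodFrom_congr {t t' : ℕ → F} {k m : ℕ} (h : ∀ r, k ≤ r → r < k + m → t r = t' r) :
    R.prodFrom t k m = R.prodFrom t' k m := by
  unfold prodFrom
  congr 1
  apply List.map_congr_left
  intro r hr
  rw [List.mem_range'_1] at hr
  rw [h r hr.1 hr.2]

theorem prodFrom_mem (t : ℕ → F) (k m : ℕ) (hkm : k + m ≤ D.nroots) : R.prodFrom t k m ∈ UU D F (geP D k) := by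
  apply Subgroup.list_prod_mem
  intro x hx
  rw [List.mem_map] at hx
  obtain ⟨r, hr, rfl⟩ := hx
  rw [List.mem_range'_1] at hr
  exact R.xg_mem_UU (p := geP D k) ⟨hr.1, by omega⟩ _

theorem xk_normalizes {k : ℕ} (hk1 : D.nroots / 2 ≤ k) (hk2 : k < D.nroots) (t : F) :
    R.xg k t ∈ Subgroup.normalizer (UU D F (geP D (k + 1)) : Set (GL D.Idx F)) := by
  apply R.xg_normalizes _ k hk2
  rintro s ⟨hs1, hs2⟩
  have hnl := G.neg_lt_half hk2 hk1
  refine ⟨hs2, by omega, by omega, ?_⟩
  intro c hc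
  obtain ⟨h1, h2, h3, h4⟩ := commTerms_add G G.ht_addFn hk2 hs2 c hc
  refine ⟨?_, h1⟩
  have h5 := (G.ht_pos_iff hk2).mpr hk1
  have h6 := (G.ht_pos_iff hs2).mpr (by omega)
  have h7 : G.ht s < G.ht c.1 := by
    rw [h4]
    have e1 : (1 : ℤ) ≤ (c.2.2.1 : ℤ) := by exact_mod_cast h2
    have e2 : (1 : ℤ) ≤ (c.2.2.2 : ℤ) := by exact_mod_cast h3
    nlinarith
  have := (G.ht_lt_iff hs2 h1).mp h7
  omega

theorem exists_prodFrom (m : ℕ) : ∀ k, D.nroots / 2 ≤ k → k + m = D.nroots → ∀ g ∈ UU D F (geP D k),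
    ∃ t : ℕ → F, g = R.prodFrom t k m := by
  induction m with
  | zero =>
    intro k hk1 hk2 g hg
    have : UU D F (geP D k) ≤ ⊥ := by
      apply R.UU_le
      rintro s ⟨h1, h2⟩ u
      omega
    exact ⟨fun _ => 0, by rw [prodFrom_zero]; exact this hg⟩
  | succ m ih =>
    intro k hk1 hk2 g hg
    have hk3 : k < D.nroots := by omega
    have h1 : UU D F (geP D k) ≤ D.rootSubgroup F k ⊔ UU D F (geP D (k + 1)) := by
      apply R.UU_le
      rintro s ⟨h1, h2⟩ u
      by_cases h : s = k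
      · subst h; exact Subgroup.mem_sup_left (R.xg_mem_rootSubgroup _ u)
      · exact Subgroup.mem_sup_right (R.xg_mem_UU (p := geP D (k + 1)) ⟨by omega, h2⟩ u)
    have h2 : D.rootSubgroup F k ≤ Subgroup.normalizer (UU D F (geP D (k + 1)) : Set (GL D.Idx F)) :=
      R.rootSubgroup_le (fun t => R.xk_normalizes hk1 hk3 t)
    have h3 : g ∈ ((D.rootSubgroup F k ⊔ UU D F (geP D (k + 1)) : Subgroup (GL D.Idx F)) : Set (GL D.Idx F)) := h1 hg
    rw [Subgroup.coe_mul_of_left_le_normalizer_right _ _ h2, Set.mem_mul] at h3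
    obtain ⟨x, hx, g', hg', rfl⟩ := h3
    obtain ⟨a, rfl⟩ := (R.mem_rootSubgroup k x).mp hx
    obtain ⟨t', rfl⟩ := ih (k + 1) (by omega) (by omega) g' hg'
    refine ⟨Function.update t' k a, ?_⟩
    rw [prodFrom_succ, Function.update_self]
    congr 1
    apply R.prodFrom_congr
    intro r hr1 hr2
    rw [Function.update_of_ne (by omega)]

theorem UU_ge_le_depth {k : ℕ} (hk1 : D.nroots / 2 ≤ k) (hk2 : k < D.nroots) :
    UU D F (geP D (k + 1)) ≤ Tri.depthGrp F G.lvl ((G.ht k).toNat + 1) := by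
  apply R.UU_le
  rintro s ⟨h1, h2⟩ u
  have h3 := (G.ht_pos_iff hk2).mpr hk1
  have h4 := G.ht_lt (r := k) (s := s) (by omega) h2
  have h5 : (((G.ht k).toNat + 1 : ℕ) : ℤ) ≤ G.ht s := by
    push_cast
    rw [Int.toNat_of_nonneg h3.le]; omega
  exact ⟨x_SD_lvl G s _ h5 (by omega) u, x_SD_lvl G s _ h5 (by omega) (-u)⟩

theorem entry_mul {k : ℕ} (hk1 : D.nroots / 2 ≤ k) (hk2 : k < D.nroots) (a : F) {g : GL D.Idx F}
    (hg : g ∈ UU D F (geP D (k + 1))) (i : Fin D.rank) :
    ((R.xg k a * g : GL D.Idx F) : Matrix D.Idx D.Idx F) (Sum.inl i) (Sum.inr ⟨D.neg k, G.neg_lt hk2⟩) =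
      (((D.coroot.getD k #[]).getD i 0 : ℤ) : F) * a := by
  have h3 := (G.ht_pos_iff hk2).mpr hk1
  have h1 : ((R.xg k a * g : GL D.Idx F) : Matrix D.Idx D.Idx F) =
      D.x F k a + D.x F k a * ((g : Matrix D.Idx D.Idx F) - 1) := by
    rw [Units.val_mul, coe_xg, mul_sub, mul_one]; abel
  rw [h1, Matrix.add_apply, x_entry_h G hk2]
  have h2 : Tri.SD G.lvl (0 + ((G.ht k).toNat + 1)) (D.x F k a * ((g : Matrix D.Idx D.Idx F) - 1)) := by
    apply Tri.SD.mul
    · exact Tri.SD.of_sub_one (x_SD_lvl G k 1 (by omega) (le_refl _) a)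
    · exact (R.UU_ge_le_depth hk1 hk2 hg).1
  have h4 : (D.x F k a * ((g : Matrix D.Idx D.Idx F) - 1)) (Sum.inl i) (Sum.inr ⟨D.neg k, G.neg_lt hk2⟩) = 0 := by
    by_contra h
    have h5 := h2 _ _ h
    have h6 := G.lvl_cast (Sum.inl i)
    have h7 := G.lvl_cast (Sum.inr ⟨D.neg k, G.neg_lt hk2⟩)
    simp only [wtI, Sum.elim_inl, Sum.elim_inr] at h6 h7
    rw [G.ht_addFn.neg k hk2] at h7
    have h8 : ((G.lvl (Sum.inr ⟨D.neg k, G.neg_lt hk2⟩) + (0 + ((G.ht k).toNat + 1)) : ℕ) : ℤ) ≤
        (G.lvl (Sum.inl i) : ℤ) := by exact_mod_cast h5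
    push_cast at h8
    rw [Int.toNat_of_nonneg h3.le] at h8
    linarith
  rw [h4, add_zero]

theorem prodFrom_inj (G2 : Good2 D) (m : ℕ) : ∀ k, D.nroots / 2 ≤ k → k + m = D.nroots → ∀ t t' : ℕ → F,
    R.prodFrom t k m = R.prodFrom t' k m → ∀ r, k ≤ r → r < D.nroots → t r = t' r := by
  induction m with
  | zero => intro k hk1 hk2 t t' _ r h1 h2; omega
  | succ m ih =>
    intro k hk1 hk2 t t' h r hr1 hr2
    have hk3 : k < D.nroots := by omega
    rw [prodFrom_succ, prodFrom_succ] at h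
    have e1 : t k = t' k := by
      obtain ⟨b, hb⟩ := G2.bezout k hk3
      have h1 : ∀ i : Fin D.rank, (((D.coroot.getD k #[]).getD i 0 : ℤ) : F) * t k =
          (((D.coroot.getD k #[]).getD i 0 : ℤ) : F) * t' k := by
        intro i
        rw [← R.entry_mul hk1 hk3 (t k) (R.prodFrom_mem t (k + 1) m (by omega)) i,
          ← R.entry_mul hk1 hk3 (t' k) (R.prodFrom_mem t' (k + 1) m (by omega)) i, h]
      have h2 : ∀ x : F, x = ∑ i ∈ Finset.range D.rank, (b i : F) * ((((D.coroot.getD k #[]).getD i 0 : ℤ) : F) * x) := by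
        intro x
        have := congrArg (Int.cast : ℤ → F) hb
        push_cast at this
        calc x = 1 * x := (one_mul x).symm
          _ = _ := by rw [← this, Finset.sum_mul]; apply Finset.sum_congr rfl; intro i _; ring
      rw [h2 (t k), h2 (t' k)]
      apply Finset.sum_congr rfl
      intro i hi
      rw [h1 ⟨i, Finset.mem_range.mp hi⟩]
    rcases Nat.eq_or_lt_of_le hr1 with h1 | h1
    · rw [← h1]; exact e1
    · rw [e1] at h
      exact ih (k + 1) (by omega) (by omega) t t' (mul_left_cancel h) r h1 hr2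

end Rels

theorem Good.posRoots_eq (G : Good D) : D.posRoots = List.range' (D.nroots / 2) (D.nroots / 2) := by
  unfold ChevalleyDatum.posRoots
  have h1 : List.range D.nroots = List.range' 0 (D.nroots / 2) ++ List.range' (D.nroots / 2) (D.nroots / 2) := by
    rw [List.range_eq_range']
    have := List.range'_append_1 (s := 0) (m := D.nroots / 2) (n := D.nroots / 2)
    rw [zero_add] at this
    rw [this]
    congr 1
    have := G.even; omega
  rw [h1, List.filter_append]
  have h2 : (List.range' 0 (D.nroots / 2)).filter (fun r => decide (D.IsPosRoot r)) = [] := by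
    rw [List.filter_eq_nil_iff]
    intro r hr
    rw [List.mem_range'_1] at hr
    simp only [decide_eq_true_eq, G.isPosRoot_iff]
    omega
  have h3 : (List.range' (D.nroots / 2) (D.nroots / 2)).filter (fun r => decide (D.IsPosRoot r)) =
      List.range' (D.nroots / 2) (D.nroots / 2) := by
    rw [List.filter_eq_self]
    intro r hr
    rw [List.mem_range'_1] at hr
    simp only [decide_eq_true_eq, G.isPosRoot_iff]
    have := G.even
    omega
  rw [h2, h3, List.nil_append]

namespace Rels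
variable (R : Rels D G F)
include R

theorem geP_half : UU D F (geP D (D.nroots / 2)) = D.posUnipotent F := by
  rw [← UU_pos]
  apply le_antisymm
  · exact UU_mono (fun s hs => (G.isPosRoot_iff s).mpr hs)
  · exact UU_mono (fun s hs => (G.isPosRoot_iff s).mp hs)

theorem wg_posRoots (t : ℕ → F) :
    R.wg (D.posRoots.map fun r => (r, t r)) = R.prodFrom t (D.nroots / 2) (D.nroots / 2) := by
  rw [G.posRoots_eq]
  simp [wg, prodFrom, List.map_map, Function.comp_def]

theorem U_unique_product (G2 : Good2 D) :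
    (∀ g : GL D.Idx F, g ∈ D.posUnipotent F →
      ∃! t : ℕ → F, (∀ r, ¬ D.IsPosRoot r → t r = 0) ∧
        (g : Matrix D.Idx D.Idx F) = D.wordMat F (D.posRoots.map fun r => (r, t r))) ∧
    (∀ t : ℕ → F, ∃ g : GL D.Idx F, g ∈ D.posUnipotent F ∧
      (g : Matrix D.Idx D.Idx F) = D.wordMat F (D.posRoots.map fun r => (r, t r))) := by
  have hev := G.even
  constructor
  · intro g hg
    rw [← R.geP_half] at hg
    obtain ⟨t0, ht0⟩ := R.exists_prodFrom (D.nroots / 2) (D.nroots / 2) (le_refl _) (by omega) g hg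
    classical
    refine ⟨fun r => if D.IsPosRoot r then t0 r else 0, ⟨fun r hr => by simp [hr], ?_⟩, ?_⟩
    · rw [R.eq_wg_iff, R.wg_posRoots, ht0]
      apply R.prodFrom_congr
      intro r h1 h2
      rw [if_pos ((G.isPosRoot_iff r).mpr ⟨h1, by omega⟩)]
    · rintro t' ⟨h1, h2⟩
      rw [R.eq_wg_iff, R.wg_posRoots, ht0] at h2
      funext r
      by_cases hr : D.IsPosRoot r
      · rw [if_pos hr]
        obtain ⟨h3, h4⟩ := (G.isPosRoot_iff r).mp hr
        exact (R.prodFrom_inj G2 _ _ (le_refl _) (by omega) _ _ h2 r h3 h4).symm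
      · rw [if_neg hr]; exact h1 r hr
  · intro t
    refine ⟨R.wg (D.posRoots.map fun r => (r, t r)), ?_, R.coe_wg _⟩
    rw [R.wg_posRoots, ← R.geP_half]
    exact R.prodFrom_mem t _ _ (by omega)

theorem card_U (G2 : Good2 D) [Fintype F] : Nat.card (D.posUnipotent F) = Fintype.card F ^ (D.nroots / 2) := by
  have hev := G.even
  let ext : (Fin (D.nroots / 2) → F) → ℕ → F := fun t r =>
    if h : r - D.nroots / 2 < D.nroots / 2 then t ⟨r - D.nroots / 2, h⟩ else 0
  let φ : (Fin (D.nroots / 2) → F) → D.posUnipotent F := fun t =>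
    ⟨R.prodFrom (ext t) (D.nroots / 2) (D.nroots / 2), by
      rw [← R.geP_half]; exact R.prodFrom_mem _ _ _ (by omega)⟩
  have hφ : Function.Bijective φ := by
    constructor
    · intro t t' h
      have h1 : R.prodFrom (ext t) (D.nroots / 2) (D.nroots / 2) = R.prodFrom (ext t') (D.nroots / 2) (D.nroots / 2) :=
        congrArg Subtype.val h
      funext i
      have := R.prodFrom_inj G2 _ _ (le_refl _) (by omega) _ _ h1 (D.nroots / 2 + i) (by omega) (by omega)
      simp only [ext] at this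
      rw [dif_pos (by omega), dif_pos (by omega)] at this
      have e : (⟨D.nroots / 2 + i - D.nroots / 2, by omega⟩ : Fin (D.nroots / 2)) = i := by
        apply Fin.ext; simp
      rwa [e] at this
    · rintro ⟨g, hg⟩
      have hg' := hg
      rw [← R.geP_half] at hg'
      obtain ⟨t0, ht0⟩ := R.exists_prodFrom (D.nroots / 2) (D.nroots / 2) (le_refl _) (by omega) g hg'
      refine ⟨fun i => t0 (D.nroots / 2 + i), ?_⟩
      apply Subtype.ext
      simp only [φ]
      rw [ht0]
      apply R.prodFrom_congr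
      intro r h1 h2
      simp only [ext]
      rw [dif_pos (by omega)]
      congr 1
      omega
  rw [← Nat.card_congr (Equiv.ofBijective φ hφ), Nat.card_fun]
  simp

end Rels

end Cfsg.Agent.Chev
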