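import Cfsg.Agent.Chev.Thy4

/-!
# The monomial subgroup `N`
-/

set_option autoImplicit false
set_option linter.unusedSectionVars false
set_option linter.unusedVariables false

namespace Cfsg.Agent.Chev
open Cfsg.Lie
open scoped MatrixGroups

variable {D : ChevalleyDatum} {G : Good D} {F : Type*} [Field F]

theorem Good.eta_neg_eq (G : Good D) {i : ℕ} (hi : i < D.rank) {s : ℕ} (hs : s < D.nroots) :
    G.eta i (D.neg s) = G.eta i s := by
  have h1 := G.eta_neg i hi s hs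
  rcases G.eta_sq i hi s hs with h | h <;> rw [h] at h1 ⊢ <;> omega

namespace Rels
variable (R : Rels D G F)
include R

/-- `h_r(t)` in `GL` -/
def hg (r : ℕ) (t : F) : GL D.Idx F := R.wg (D.hWord r t)

theorem coe_hg (r : ℕ) (t : F) : ((R.hg r t : GL D.Idx F) : Matrix D.Idx D.Idx F) = D.hMat F r t := R.coe_wg _

theorem ng_eq (r : ℕ) (t : F) : R.ng r t = R.xg r t * R.xg (D.neg r) (-t⁻¹) * R.xg r t := by
  simp [ng, ChevalleyDatum.nWord, wg_cons, wg_nil, mul_assoc]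

theorem hg_eq (r : ℕ) (t : F) : R.hg r t = R.ng r t * R.ng r (-1) := by
  simp [hg, ng, ChevalleyDatum.hWord, wg_append]

theorem ng_mul_neg (r : ℕ) (t : F) : R.ng r t * R.ng r (-t) = 1 := by
  rw [ng_eq, ng_eq, inv_neg, neg_neg]
  calc R.xg r t * R.xg (D.neg r) (-t⁻¹) * R.xg r t * (R.xg r (-t) * R.xg (D.neg r) t⁻¹ * R.xg r (-t))
      = R.xg r t * (R.xg (D.neg r) (-t⁻¹) * (R.xg r t * R.xg r (-t)) * R.xg (D.neg r) t⁻¹) * R.xg r (-t) := by group
    _ = 1 := by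
      rw [R.xg_add, add_neg_cancel, R.xg_zero, mul_one, R.xg_add, neg_add_cancel, R.xg_zero, mul_one, R.xg_add,
        add_neg_cancel, R.xg_zero]

theorem ng_inv (r : ℕ) (t : F) : (R.ng r t)⁻¹ = R.ng r (-t) := inv_eq_of_mul_eq_one_right (R.ng_mul_neg r t)

theorem hg_mem_H {r : ℕ} (hr : r < D.nroots) {t : F} (ht : t ≠ 0) : R.hg r t ∈ D.diagonalSubgroup F :=
  Subgroup.subset_closure ⟨r, t, hr, ht, R.coe_hg r t⟩

/-- `n_r(1)^2 ∈ H` -/
theorem ng_sq_mem_H {r : ℕ} (hr : r < D.nroots) : R.ng r 1 * R.ng r 1 ∈ D.diagonalSubgroup F := by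
  have h1 : (R.hg r (-1))⁻¹ = R.ng r 1 * R.ng r 1 := by
    rw [hg_eq, mul_inv_rev, R.ng_inv, neg_neg]
  rw [← h1]
  exact Subgroup.inv_mem _ (R.hg_mem_H hr (by simp))

theorem ng_conj_ng {i : ℕ} (hi : i < D.rank) {s : ℕ} (hs : s < D.nroots) (t : F) :
    R.ng (D.simple i) 1 * R.ng s t * (R.ng (D.simple i) 1)⁻¹ = R.ng (D.reflectRoot i s) ((G.eta i s : F) * t) := by
  rw [R.ng_eq s t, R.ng_eq (D.reflectRoot i s)]
  have h1 := R.ng_conj hi hs t
  have h2 := R.ng_conj hi (G.neg_lt hs) (-t⁻¹)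
  rw [G.refl_neg i hi s hs, G.eta_neg_eq hi hs] at h2
  have h3 : (G.eta i s : F) * -t⁻¹ = -((G.eta i s : F) * t)⁻¹ := by
    rcases G.eta_sq i hi s hs with h | h <;> rw [h] <;> simp [inv_neg]
  rw [h3] at h2
  rw [← h1, ← h2]
  group

theorem ng_conj_hg_mem {i : ℕ} (hi : i < D.rank) {s : ℕ} (hs : s < D.nroots) {t : F} (ht : t ≠ 0) :
    R.ng (D.simple i) 1 * R.hg s t * (R.ng (D.simple i) 1)⁻¹ ∈ D.diagonalSubgroup F := by
  have hw := G.refl_lt i hi s hs
  have h1 : R.ng (D.simple i) 1 * R.hg s t * (R.ng (D.simple i) 1)⁻¹ =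
      R.ng (D.reflectRoot i s) ((G.eta i s : F) * t) * R.ng (D.reflectRoot i s) ((G.eta i s : F) * (-1)) := by
    rw [← R.ng_conj_ng hi hs, ← R.ng_conj_ng hi hs, hg_eq]; group
  rw [h1]
  rcases G.eta_sq i hi s hs with h | h
  · rw [h]
    simp only [Int.cast_one, one_mul]
    rw [← hg_eq]
    exact R.hg_mem_H hw ht
  · rw [h]
    simp only [Int.cast_neg, Int.cast_one, neg_mul, one_mul, neg_neg]
    have h2 : R.ng (D.reflectRoot i s) (-t) * R.ng (D.reflectRoot i s) 1 =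
        R.hg (D.reflectRoot i s) (-t) * (R.ng (D.reflectRoot i s) 1 * R.ng (D.reflectRoot i s) 1) := by
      rw [hg_eq, ← R.ng_inv _ 1]; group
    rw [h2]
    exact Subgroup.mul_mem _ (R.hg_mem_H hw (neg_ne_zero.mpr ht)) (R.ng_sq_mem_H hw)

theorem ni_inv_eq {r : ℕ} : (R.ng r 1)⁻¹ = R.hg r (-1) * R.ng r 1 := by
  rw [hg_eq, ← R.ng_inv _ 1]; group

theorem ni_normalizes_H {i : ℕ} (hi : i < D.rank) :
    R.ng (D.simple i) 1 ∈ Subgroup.normalizer (D.diagonalSubgroup F : Set (GL D.Idx F)) := by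
  unfold ChevalleyDatum.diagonalSubgroup
  apply mem_normalizer_closure
  · rintro x ⟨s, t, hs, ht, hx⟩
    rw [(R.eq_wg_iff _ _).mp hx]
    exact R.ng_conj_hg_mem hi hs ht
  · rintro x ⟨s, t, hs, ht, hx⟩
    rw [(R.eq_wg_iff _ _).mp hx]
    have h1 := R.ng_conj_hg_mem hi hs ht
    have h2 := R.hg_mem_H (G.simple_lt i hi) (t := (-1 : F)) (by simp)
    have h3 : (R.ng (D.simple i) 1)⁻¹ * R.wg (D.hWord s t) * R.ng (D.simple i) 1 =
        R.hg (D.simple i) (-1) * (R.ng (D.simple i) 1 * R.hg s t * (R.ng (D.simple i) 1)⁻¹) *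
          (R.hg (D.simple i) (-1))⁻¹ := by
      have e1 := R.ni_inv_eq (r := D.simple i)
      calc (R.ng (D.simple i) 1)⁻¹ * R.wg (D.hWord s t) * R.ng (D.simple i) 1
          = (R.ng (D.simple i) 1)⁻¹ * R.hg s t * ((R.ng (D.simple i) 1)⁻¹)⁻¹ := by rw [inv_inv]; rfl
        _ = (R.hg (D.simple i) (-1) * R.ng (D.simple i) 1) * R.hg s t *
              (R.hg (D.simple i) (-1) * R.ng (D.simple i) 1)⁻¹ := by rw [e1]
        _ = _ := by group
    rw [h3]
    exact Subgroup.mul_mem _ (Subgroup.mul_mem _ h2 h1) (Subgroup.inv_mem _ h2)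

/-- the group generated by `H` and the `n_i` -/
def N0 (D : ChevalleyDatum) (F : Type*) [Field F] : Subgroup (GL D.Idx F) :=
  D.diagonalSubgroup F ⊔ Subgroup.closure {g | ∃ i < D.rank, (g : Matrix D.Idx D.Idx F) = D.nMat F (D.simple i) 1}

theorem ni_mem_N0 {i : ℕ} (hi : i < D.rank) : R.ng (D.simple i) 1 ∈ N0 D F :=
  Subgroup.mem_sup_right (Subgroup.subset_closure ⟨i, hi, R.coe_ng _ _⟩)

theorem N_eq_N0 (G2 : Good2 D) : D.monomialSubgroup F = N0 D F := by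
  apply le_antisymm
  · unfold ChevalleyDatum.monomialSubgroup
    apply sup_le le_sup_left
    rw [Subgroup.closure_le]
    rintro g ⟨r, hr, hg⟩
    rw [(R.eq_wg_iff _ _).mp hg]
    have key : ∀ r < D.nroots, R.ng r 1 ∈ N0 D F ∧ R.ng r (-1) ∈ N0 D F := by
      apply G2.root_ind
      · intro i hi
        refine ⟨R.ni_mem_N0 hi, ?_⟩
        rw [← R.ng_inv]; exact Subgroup.inv_mem _ (R.ni_mem_N0 hi)
      · intro i hi s hs ⟨h1, h2⟩
        have e1 := R.ng_conj_ng hi hs 1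
        have e2 := R.ng_conj_ng hi hs (-1)
        have m1 := Subgroup.mul_mem _ (Subgroup.mul_mem _ (R.ni_mem_N0 hi) h1) (Subgroup.inv_mem _ (R.ni_mem_N0 hi))
        have m2 := Subgroup.mul_mem _ (Subgroup.mul_mem _ (R.ni_mem_N0 hi) h2) (Subgroup.inv_mem _ (R.ni_mem_N0 hi))
        rw [e1] at m1
        rw [e2] at m2
        rcases G.eta_sq i hi s hs with h | h <;> rw [h] at m1 m2
        · simp only [Int.cast_one, one_mul] at m1 m2; exact ⟨m1, m2⟩
        · simp only [Int.cast_neg, Int.cast_one, neg_mul, one_mul, neg_neg] at m1 m2; exact ⟨m2, m1⟩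
    exact (key r hr).1
  · unfold N0 ChevalleyDatum.monomialSubgroup
    apply sup_le_sup_left
    apply Subgroup.closure_mono
    rintro g ⟨i, hi, hg⟩
    exact ⟨D.simple i, G.simple_lt i hi, hg⟩

theorem N_le_normalizer_H (G2 : Good2 D) :
    D.monomialSubgroup F ≤ Subgroup.normalizer (D.diagonalSubgroup F : Set (GL D.Idx F)) := by
  rw [R.N_eq_N0 G2]
  unfold N0
  apply sup_le Subgroup.le_normalizer
  rw [Subgroup.closure_le]
  rintro g ⟨i, hi, hg⟩
  rw [(R.eq_wg_iff _ _).mp hg]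
  exact R.ni_normalizes_H hi

theorem H_le_N : D.diagonalSubgroup F ≤ D.monomialSubgroup F := le_sup_left

theorem H_normal_N (G2 : Good2 D) : ((D.diagonalSubgroup F).subgroupOf (D.monomialSubgroup F)).Normal :=
  (Subgroup.normal_subgroupOf_iff_le_normalizer R.H_le_N).mpr (R.N_le_normalizer_H G2)

end Rels

end Cfsg.Agent.Chev
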