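import Cfsg.Agent.Chev.Thy5

/-!
# Monomial elements and their permutations of the roots
-/

set_option autoImplicit false
set_option linter.unusedSectionVars false
set_option linter.unusedVariables false

namespace Cfsg.Agent.Chev
open Cfsg.Lie
open scoped MatrixGroups

variable {D : ChevalleyDatum} {G : Good D} {F : Type*} [Field F]

/-- negation of roots -/
def Good.negF (G : Good D) (s : Fin D.nroots) : Fin D.nroots := ⟨D.neg s, G.neg_lt s.2⟩

/-- the fundamental reflections as permutations of the roots -/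
def Good.wP (G : Good D) (i : ℕ) (hi : i < D.rank) : Equiv.Perm (Fin D.nroots) where
  toFun s := ⟨D.reflectRoot i s, G.refl_lt i hi s s.2⟩
  invFun s := ⟨D.reflectRoot i s, G.refl_lt i hi s s.2⟩
  left_inv s := Fin.ext (G.refl_refl i hi s s.2)
  right_inv s := Fin.ext (G.refl_refl i hi s s.2)

theorem Good.wP_apply (G : Good D) (i : ℕ) (hi : i < D.rank) (s : Fin D.nroots) :
    ((G.wP i hi s : Fin D.nroots) : ℕ) = D.reflectRoot i s := rfl

theorem Good.wP_inv (G : Good D) (i : ℕ) (hi : i < D.rank) : (G.wP i hi)⁻¹ = G.wP i hi := rfl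

theorem Good.refl_simple (G : Good D) (i : ℕ) : D.reflectRoot i (D.simple i) = D.neg (D.simple i) := by
  simp [ChevalleyDatum.reflectRoot]

theorem Good.refl_pos (G : Good D) {i : ℕ} (hi : i < D.rank) {s : ℕ} (hs : s < D.nroots) (h1 : D.nroots / 2 ≤ s)
    (h2 : s ≠ D.simple i) : D.nroots / 2 ≤ D.reflectRoot i s ∧ D.reflectRoot i s ≠ D.simple i := by
  obtain ⟨j, hj, hji, hpos⟩ := G.other_coord i hi s hs h1 h2
  have h3 := G.rc_refl i hi s hs j hj
  rw [if_neg (fun h => hji h.symm), sub_zero] at h3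
  refine ⟨G.pos_of_coord (G.refl_lt i hi s hs) hj (by rw [h3]; exact hpos), ?_⟩
  intro h4
  rw [h4, G.rc_simple i hi j hj, if_neg (fun h => hji h.symm)] at h3
  omega

/-- block monomial matrices -/
def MonoM (M : Matrix D.Idx D.Idx F) (σ : Equiv.Perm (Fin D.nroots)) : Prop :=
  (∀ (s : Fin D.nroots) (row : D.Idx), row ≠ Sum.inr (σ s) → M row (Sum.inr s) = 0) ∧
  (∀ (s : Fin D.nroots) (j : Fin D.rank), M (Sum.inr s) (Sum.inl j) = 0)

theorem MonoM.mul {M M' : Matrix D.Idx D.Idx F} {σ σ' : Equiv.Perm (Fin D.nroots)} (h : MonoM M σ)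
    (h' : MonoM M' σ') : MonoM (M * M') (σ * σ') := by
  constructor
  · intro s row hrow
    rw [Matrix.mul_apply]
    apply Finset.sum_eq_zero
    intro m _
    by_cases hm : m = Sum.inr (σ' s)
    · subst hm
      rw [h.1 (σ' s) row hrow, zero_mul]
    · rw [h'.1 s m hm, mul_zero]
  · intro s j
    rw [Matrix.mul_apply]
    apply Finset.sum_eq_zero
    intro m _
    rcases m with k | s'
    · rw [h.2 s k, zero_mul]
    · rw [h'.2 s' j, mul_zero]

theorem MonoM.diagonal (d : D.Idx → F) : MonoM (Matrix.diagonal d) (1 : Equiv.Perm (Fin D.nroots)) := by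
  constructor
  · intro s row hrow
    exact Matrix.diagonal_apply_ne _ hrow
  · intro s j
    exact Matrix.diagonal_apply_ne _ (by simp)

theorem MonoM.monoMat (i : ℕ) (Aj : ℕ → ℤ) (w : ℕ → ℕ) (η : ℕ → ℤ) (σ : Equiv.Perm (Fin D.nroots))
    (hσ : ∀ s : Fin D.nroots, ((σ s : Fin D.nroots) : ℕ) = w s) :
    MonoM (monoMat D.rank D.nroots F i Aj w η) σ := by
  constructor
  · intro s row hrow
    rcases row with j | s'
    · simp [Chev.monoMat]
    · simp only [Chev.monoMat, Matrix.of_apply]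
      rw [if_neg]
      intro h
      apply hrow
      congr 1
      apply Fin.ext
      rw [h, hσ]
  · intro s j
    simp [Chev.monoMat]

theorem perm_apply_inv {α : Type*} (σ : Equiv.Perm α) (s : α) : σ (σ⁻¹ s) = s := σ.apply_symm_apply s

theorem perm_eq_one_of_le {n : ℕ} (σ : Equiv.Perm (Fin n)) (h : ∀ s, s ≤ σ s) : σ = 1 := by
  have h1 : ∑ s, ((σ s : Fin n) : ℕ) = ∑ s : Fin n, (s : ℕ) := Equiv.sum_comp σ (fun s => (s : ℕ))
  have h2 := (Finset.sum_eq_sum_iff_of_le (s := Finset.univ) (f := fun s : Fin n => (s : ℕ))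
    (g := fun s => ((σ s : Fin n) : ℕ)) (fun s _ => h s)).mp h1.symm
  ext s
  simp [← h2 s (Finset.mem_univ s)]

namespace Rels
variable (R : Rels D G F)
include R

/-- monomial elements, with the permutation of the roots they induce -/
structure IsMono (g : GL D.Idx F) (σ : Equiv.Perm (Fin D.nroots)) : Prop where
  m1 : MonoM (g : Matrix D.Idx D.Idx F) σ
  m2 : MonoM ((g⁻¹ : GL D.Idx F) : Matrix D.Idx D.Idx F) σ⁻¹
  conj : ∀ s : Fin D.nroots, ∃ c : F, c ≠ 0 ∧ ∀ t, g * R.xg s t * g⁻¹ = R.xg (σ s) (c * t)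
  neg : ∀ s, σ (G.negF s) = G.negF (σ s)

theorem IsMono.mul {g g' : GL D.Idx F} {σ σ' : Equiv.Perm (Fin D.nroots)} (h : R.IsMono g σ) (h' : R.IsMono g' σ') :
    R.IsMono (g * g') (σ * σ') where
  m1 := by rw [Units.val_mul]; exact h.m1.mul h'.m1
  m2 := by rw [mul_inv_rev, mul_inv_rev, Units.val_mul]; exact h'.m2.mul h.m2
  conj := fun s => by
    obtain ⟨c', hc', e'⟩ := h'.conj s
    obtain ⟨c, hc, e⟩ := h.conj (σ' s)
    refine ⟨c * c', mul_ne_zero hc hc', fun t => ?_⟩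
    calc g * g' * R.xg s t * (g * g')⁻¹ = g * (g' * R.xg s t * g'⁻¹) * g⁻¹ := by group
      _ = _ := by rw [e', e, mul_assoc]; rfl
  neg := fun s => by
    simp only [Equiv.Perm.mul_apply]
    rw [h'.neg, h.neg]

theorem IsMono.inv {g : GL D.Idx F} {σ : Equiv.Perm (Fin D.nroots)} (h : R.IsMono g σ) : R.IsMono g⁻¹ σ⁻¹ where
  m1 := h.m2
  m2 := by rw [inv_inv, inv_inv]; exact h.m1
  conj := fun s => by
    obtain ⟨c, hc, e⟩ := h.conj (σ⁻¹ s)
    refine ⟨c⁻¹, inv_ne_zero hc, fun t => ?_⟩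
    have := e (c⁻¹ * t)
    rw [← mul_assoc, mul_inv_cancel₀ hc, one_mul, perm_apply_inv] at this
    rw [← this]; group
  neg := fun s => by
    apply σ.injective
    rw [h.neg, perm_apply_inv, perm_apply_inv]

theorem IsMono.of_tor {g : GL D.Idx F} (h : R.IsTor g) : R.IsMono g 1 := by
  have key : ∀ g, R.IsTor g → MonoM (g : Matrix D.Idx D.Idx F) (1 : Equiv.Perm (Fin D.nroots)) := by
    rintro g ⟨χ, h1, h2, h3⟩
    rw [h2]; exact MonoM.diagonal _
  refine ⟨key g h, by rw [inv_one]; exact key _ (IsTor.inv R h), ?_, fun s => rfl⟩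
  intro s
  obtain ⟨χ, h1, h2, h3⟩ := h
  refine ⟨χ (Sum.inr s), Units.ne_zero _, fun t => ?_⟩
  rw [h3 s t]
  simp

theorem IsMono.ni {i : ℕ} (hi : i < D.rank) : R.IsMono (R.ng (D.simple i) 1) (G.wP i hi) := by
  have h1 : MonoM ((R.ng (D.simple i) 1 : GL D.Idx F) : Matrix D.Idx D.Idx F) (G.wP i hi) := by
    rw [R.coe_ng, R.nmat i hi]
    exact MonoM.monoMat _ _ _ _ _ (fun s => rfl)
  refine ⟨h1, ?_, ?_, ?_⟩
  · rw [R.ni_inv_eq, Units.val_mul, G.wP_inv]
    have h2 := (IsMono.of_tor R (R.H_le_Tor (R.hg_mem_H (G.simple_lt i hi) (t := (-1 : F)) (by simp)))).m1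
    have := h2.mul h1
    rwa [one_mul] at this
  · intro s
    exact ⟨G.eta i s, R.eta_ne_zero hi s.2, fun t => R.ng_conj hi s.2 t⟩
  · intro s
    apply Fin.ext
    exact G.refl_neg i hi s s.2

/-- the group of monomial elements -/
def Mon : Subgroup (GL D.Idx F) where
  carrier := {g | ∃ σ, R.IsMono g σ}
  one_mem' := ⟨1, IsMono.of_tor R (IsTor.one R)⟩
  mul_mem' := by
    rintro a b ⟨σ, h⟩ ⟨σ', h'⟩
    exact ⟨σ * σ', IsMono.mul R h h'⟩
  inv_mem' := by
    rintro a ⟨σ, h⟩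
    exact ⟨σ⁻¹, IsMono.inv R h⟩

theorem N_le_Mon (G2 : Good2 D) : D.monomialSubgroup F ≤ R.Mon := by
  rw [R.N_eq_N0 G2]
  unfold N0
  apply sup_le
  · intro g hg
    exact ⟨1, IsMono.of_tor R (R.H_le_Tor hg)⟩
  · rw [Subgroup.closure_le]
    rintro g ⟨i, hi, hg⟩
    rw [(R.eq_wg_iff _ _).mp hg]
    exact ⟨_, IsMono.ni R hi⟩

theorem IsMono.ne_zero {g : GL D.Idx F} {σ : Equiv.Perm (Fin D.nroots)} (h : R.IsMono g σ) (s : Fin D.nroots) :
    (g : Matrix D.Idx D.Idx F) (Sum.inr (σ s)) (Sum.inr s) ≠ 0 := by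
  intro h0
  have h1 : (((g⁻¹ : GL D.Idx F) : Matrix D.Idx D.Idx F) * (g : Matrix D.Idx D.Idx F)) (Sum.inr s) (Sum.inr s) = 0 := by
    rw [Matrix.mul_apply]
    apply Finset.sum_eq_zero
    intro m _
    by_cases hm : m = Sum.inr (σ s)
    · rw [hm, h0, mul_zero]
    · rw [h.m1.1 s m hm, mul_zero]
  rw [Units.inv_mul, Matrix.one_apply_eq] at h1
  exact one_ne_zero h1

theorem IsMono.unique {g : GL D.Idx F} {σ σ' : Equiv.Perm (Fin D.nroots)} (h : R.IsMono g σ) (h' : R.IsMono g σ') :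
    σ = σ' := by
  ext s
  by_contra hne
  apply IsMono.ne_zero R h s
  apply h'.m1.1 s
  intro e
  apply hne
  rw [Sum.inr.inj e]

/-- conjugation of a group generated by root subgroups -/
theorem IsMono.conj_UU {g : GL D.Idx F} {σ : Equiv.Perm (Fin D.nroots)} (h : R.IsMono g σ) {p q : ℕ → Prop}
    (hp : ∀ s, p s → s < D.nroots) (hpq : ∀ s : Fin D.nroots, p s → q (σ s)) :
    ∀ x ∈ UU D F p, g * x * g⁻¹ ∈ UU D F q := by
  apply conj_mem_closure
  rintro x ⟨s, u, hs, hx⟩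
  rw [(R.eq_xg_iff _ _ _).mp hx]
  obtain ⟨c, _, e⟩ := h.conj ⟨s, hp s hs⟩
  rw [e]
  exact R.xg_mem_UU (hpq ⟨s, hp s hs⟩ hs) _

theorem B_inf_N (G2 : Good2 D) : D.borelSubgroup F ⊓ D.monomialSubgroup F = D.diagonalSubgroup F := by
  apply le_antisymm
  · rintro g ⟨h1, h2⟩
    obtain ⟨σ, hσ⟩ := R.N_le_Mon G2 h2
    have hLT := (R.B_le_tri h1).1
    have hσ1 : σ = 1 := by
      apply perm_eq_one_of_le
      intro s
      rcases hLT _ _ (IsMono.ne_zero R hσ s) with h | h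
      · rw [Sum.inr.inj h]
      · simp only [ordw, Sum.elim_inr] at h
        rw [Fin.le_def]
        split_ifs at h <;> omega
    subst hσ1
    obtain ⟨u, hu, h, hh, rfl⟩ := exists_mul_of_mem_sup R.H_le_normalizer_U h1
    have hu1 : u = 1 := by
      have e : u = u * h * h⁻¹ := by group
      have hm : R.IsMono u 1 := by
        have := IsMono.mul R hσ (IsMono.inv R (IsMono.of_tor R (R.H_le_Tor hh)))
        rw [← e] at this
        simpa using this
      apply R.eq_one_of_depth_of_diag (R.U_le hu)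
      intro a b hab
      rcases b with j | s
      · rcases a with i | s'
        · by_contra hne
          have := (R.U_le hu).1 (Sum.inl i) (Sum.inl j) (by
            rwa [Matrix.sub_apply, Matrix.one_apply_ne hab, sub_zero])
          simp [ordw] at this
        · exact hm.m1.2 s' j
      · exact hm.m1.1 s a hab
    rw [hu1, one_mul]; exact hh
  · exact le_inf le_sup_right R.H_le_N

theorem U_inf_N (G2 : Good2 D) : D.posUnipotent F ⊓ D.monomialSubgroup F = ⊥ := by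
  rw [eq_bot_iff]
  rintro g ⟨h1, h2⟩
  have h3 : g ∈ D.borelSubgroup F ⊓ D.monomialSubgroup F := ⟨Subgroup.mem_sup_left h1, h2⟩
  rw [R.B_inf_N G2] at h3
  have : g ∈ D.posUnipotent F ⊓ D.diagonalSubgroup F := ⟨h1, h3⟩
  rwa [R.U_inf_H] at this

/-- words in the `n_i` -/
theorem exists_mono_word (L : List ℕ) (hL : ∀ i ∈ L, i < D.rank) :
    ∃ g ∈ D.monomialSubgroup F, ∃ σ, R.IsMono g σ ∧
      ∀ s : Fin D.nroots, ((σ s : Fin D.nroots) : ℕ) = L.foldr D.reflectRoot s := by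
  induction L with
  | nil => exact ⟨1, Subgroup.one_mem _, 1, IsMono.of_tor R (IsTor.one R), fun s => rfl⟩
  | cons i L ih =>
    obtain ⟨g, hg, σ, hσ, e⟩ := ih (fun j hj => hL j (List.mem_cons_of_mem _ hj))
    have hi := hL i List.mem_cons_self
    refine ⟨R.ng (D.simple i) 1 * g, Subgroup.mul_mem _ (R.ng_mem_N (G.simple_lt i hi)) hg, G.wP i hi * σ,
      IsMono.mul R (IsMono.ni R hi) hσ, fun s => ?_⟩
    simp only [Equiv.Perm.mul_apply, List.foldr_cons, G.wP_apply, e]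

theorem exists_opposition (G2 : Good2 D) :
    ∃ n ∈ D.monomialSubgroup F, (D.posUnipotent F).map (MulAut.conj n).toMonoidHom = D.negUnipotent F := by
  obtain ⟨L, hL, hneg⟩ := G2.w0
  obtain ⟨n, hn, σ, hσ, e⟩ := R.exists_mono_word L hL
  have hev := G.even
  have h1 : ∀ s : Fin D.nroots, D.IsPosRoot s → D.IsNegRoot (σ s) := by
    intro s hs
    rw [G.isNegRoot_iff, e]
    exact hneg s ((G.isPosRoot_iff s).mp hs).1 s.2
  have h2 : ∀ s : Fin D.nroots, D.IsNegRoot s → D.IsPosRoot (σ⁻¹ s) := by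
    intro s hs
    rw [G.isPosRoot_iff]
    refine ⟨?_, (σ⁻¹ s).2⟩
    by_contra h3
    -- then `-σ⁻¹ s` is positive, so `σ (-σ⁻¹ s) = - s` is negative
    have h4 : D.IsPosRoot (G.negF (σ⁻¹ s)) := by
      rw [G.isPosRoot_iff]
      exact ⟨G.half_le_neg (by omega), (G.negF _).2⟩
    have h5 := h1 _ h4
    rw [hσ.neg, perm_apply_inv, G.isNegRoot_iff] at h5
    have h6 := G.half_le_neg ((G.isNegRoot_iff s).mp hs)
    simp only [Good.negF] at h5
    omega
  refine ⟨n, hn, ?_⟩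
  apply le_antisymm
  · rintro y ⟨x, hx, rfl⟩
    exact IsMono.conj_UU R hσ (p := D.IsPosRoot) (q := D.IsNegRoot) (fun s hs => hs.1) h1 x hx
  · intro y hy
    refine ⟨n⁻¹ * y * n, ?_, ?_⟩
    · have := IsMono.conj_UU R (IsMono.inv R hσ) (p := D.IsNegRoot) (q := D.IsPosRoot) (fun s hs => hs.1) h2 y hy
      rwa [inv_inv] at this
    · simp [MulAut.conj_apply, mul_assoc]

end Rels

end Cfsg.Agent.Chev
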