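import Cfsg.Agent.Chev.Thy6
import Cfsg.Prelude.Def_LieExceptional

/-!
# The (B, N)-pair of a Chevalley group
-/

set_option autoImplicit false
set_option linter.unusedSectionVars false
set_option linter.unusedVariables false

namespace Cfsg.Agent.Chev
open Cfsg.Lie
open scoped MatrixGroups

variable {D : ChevalleyDatum} {G : Good D} {F : Type*} [Field F]

namespace Rels
variable (R : Rels D G F)
include R

theorem xg_eq_one_iff {r : ℕ} (hr : r < D.nroots) (t : F) : R.xg r t = 1 ↔ t = 0 := by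
  constructor
  · intro h
    have h0 : D.x F r t = 1 := by
      have := congrArg (fun g : GL D.Idx F => (g : Matrix D.Idx D.Idx F)) h
      simpa using this
    have hnr := G.neg_lt hr
    have hne := G.neg_ne hr
    have h1 := congrFun (congrFun h0 (Sum.inr ⟨r, hr⟩)) (Sum.inr ⟨D.neg r, hnr⟩)
    have h2 : (⟨D.neg r, hnr⟩ : Fin D.nroots) ≠ ⟨r, hr⟩ := fun e => hne (Fin.mk.inj e)
    rw [Matrix.one_apply_ne (fun e => h2 (Sum.inr.inj e).symm)] at h1
    unfold ChevalleyDatum.x at h1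
    rw [dif_pos hr] at h1
    unfold ChevalleyDatum.xMat at h1
    simp only [Matrix.of_apply] at h1
    rw [if_neg h2, if_pos (show D.neg r = D.negIdx.getD r 0 from rfl), if_neg h2.symm] at h1
    simpa using h1
  · rintro rfl
    exact R.xg_zero r

/-- the rank one identity -/
theorem xneg_eq (p : ℕ) {b : F} (hb : b ≠ 0) :
    R.xg (D.neg p) b = R.xg p b⁻¹ * R.hg p (-b⁻¹) * R.ng p 1 * R.xg p b⁻¹ := by
  have h1 : R.hg p (-b⁻¹) * R.ng p 1 = R.ng p (-b⁻¹) := by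
    rw [hg_eq, ← R.ng_inv p 1]; group
  rw [mul_assoc (R.xg p b⁻¹), h1, ng_eq]
  have h2 : -(-b⁻¹)⁻¹ = b := by rw [inv_neg, inv_inv, neg_neg]
  rw [h2]
  calc R.xg (D.neg p) b = (R.xg p b⁻¹ * R.xg p (-b⁻¹)) * R.xg (D.neg p) b * (R.xg p (-b⁻¹) * R.xg p b⁻¹) := by
        rw [R.xg_add, R.xg_add, add_neg_cancel, neg_add_cancel, R.xg_zero]; group
    _ = _ := by group

theorem ni_conj_Ui {i : ℕ} (hi : i < D.rank) :
    ∀ x ∈ UU D F (fun s => D.IsPosRoot s ∧ s ≠ D.simple i),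
      R.ng (D.simple i) 1 * x * (R.ng (D.simple i) 1)⁻¹ ∈ UU D F (fun s => D.IsPosRoot s ∧ s ≠ D.simple i) := by
  apply IsMono.conj_UU R (IsMono.ni R hi) (fun s hs => hs.1.1)
  rintro s ⟨h1, h2⟩
  obtain ⟨h3, h4⟩ := G.refl_pos hi s.2 ((G.isPosRoot_iff s).mp h1).1 h2
  exact ⟨(G.isPosRoot_iff _).mpr ⟨h3, G.refl_lt i hi s s.2⟩, h4⟩

theorem U_le_B : D.posUnipotent F ≤ D.borelSubgroup F := le_sup_left
theorem H_le_B : D.diagonalSubgroup F ≤ D.borelSubgroup F := le_sup_right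

/-- the double coset axiom, in `GL` -/
theorem bn_axiom (G2 : Good2 D) {i : ℕ} (hi : i < D.rank) {n b : GL D.Idx F} (hn : n ∈ D.monomialSubgroup F)
    (hb : b ∈ D.borelSubgroup F) :
    ∃ b1 ∈ D.borelSubgroup F, ∃ b2 ∈ D.borelSubgroup F,
      R.ng (D.simple i) 1 * b * n = b1 * (R.ng (D.simple i) 1 * n) * b2 ∨ R.ng (D.simple i) 1 * b * n = b1 * n * b2 := by
  have hsl := G.simple_lt i hi
  have hsp := G.simple_pos hi
  set ni := R.ng (D.simple i) 1 with hni
  obtain ⟨u, hu, h, hh, rfl⟩ := exists_mul_of_mem_sup R.H_le_normalizer_U hb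
  rw [← R.Ui_sup hi] at hu
  obtain ⟨u', hu', x, hx, rfl⟩ := exists_mul_of_mem_sup
    (R.rootSubgroup_le (fun t => R.simple_normalizes hi _ (Or.inl rfl) t)) hu
  obtain ⟨a, rfl⟩ := (R.mem_rootSubgroup _ x).mp hx
  have hb0 : ni * u' * ni⁻¹ ∈ D.borelSubgroup F :=
    R.U_le_B (UU_mono (fun s hs => hs.1) (R.ni_conj_Ui hi u' hu'))
  have hh' : n⁻¹ * h * n ∈ D.borelSubgroup F := by
    have := (Subgroup.mem_normalizer_iff''.mp (R.N_le_normalizer_H G2 hn) h).mp hh
    exact R.H_le_B this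
  obtain ⟨σ, hσ⟩ := R.N_le_Mon G2 hn
  obtain ⟨c, hc, hconj⟩ := (IsMono.inv R hσ).conj ⟨D.simple i, hsl⟩
  rw [inv_inv] at hconj
  by_cases hr : D.nroots / 2 ≤ ((σ⁻¹ ⟨D.simple i, hsl⟩ : Fin D.nroots) : ℕ)
  · refine ⟨ni * u' * ni⁻¹, hb0, R.xg (σ⁻¹ ⟨D.simple i, hsl⟩ : Fin D.nroots) (c * a) * (n⁻¹ * h * n),
      Subgroup.mul_mem _ (R.U_le_B (R.xg_mem_U _ hr (Fin.is_lt _) _)) hh', Or.inl ?_⟩
    rw [← hconj]; group
  · by_cases ha : a = 0
    · refine ⟨ni * u' * ni⁻¹, hb0, n⁻¹ * h * n, hh', Or.inl ?_⟩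
      rw [ha, R.xg_zero]; group
    · -- the interesting case
      have hη := R.eta_ne_zero hi hsl
      have e1 : ni * R.xg (D.simple i) a * ni⁻¹ = R.xg (D.neg (D.simple i)) ((G.eta i (D.simple i) : F) * a) := by
        rw [hni, R.ng_conj hi hsl, G.refl_simple]
      set bb := (G.eta i (D.simple i) : F) * a with hbb
      have hbb0 : bb ≠ 0 := mul_ne_zero hη ha
      have hm := IsMono.inv R (IsMono.mul R (IsMono.ni R hi) hσ)
      obtain ⟨c', hc', hconj'⟩ := hm.conj ⟨D.simple i, hsl⟩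
      rw [inv_inv, ← hni] at hconj'
      have e2 : ((G.wP i hi * σ)⁻¹ ⟨D.simple i, hsl⟩ : Fin D.nroots) = G.negF (σ⁻¹ ⟨D.simple i, hsl⟩) := by
        rw [mul_inv_rev, Equiv.Perm.mul_apply, G.wP_inv]
        have : G.wP i hi ⟨D.simple i, hsl⟩ = G.negF ⟨D.simple i, hsl⟩ := Fin.ext (G.refl_simple i)
        rw [this, (IsMono.inv R hσ).neg]
      rw [e2] at hconj'
      have hpos : D.nroots / 2 ≤ ((G.negF (σ⁻¹ ⟨D.simple i, hsl⟩) : Fin D.nroots) : ℕ) :=
        G.half_le_neg (by omega)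
      refine ⟨ni * u' * ni⁻¹ * (R.xg (D.simple i) bb⁻¹ * R.hg (D.simple i) (-bb⁻¹) * (ni * ni)), ?_,
        R.xg (G.negF (σ⁻¹ ⟨D.simple i, hsl⟩) : Fin D.nroots) (c' * bb⁻¹) * (n⁻¹ * h * n), ?_, Or.inr ?_⟩
      · refine Subgroup.mul_mem _ hb0 (Subgroup.mul_mem _ (Subgroup.mul_mem _ ?_ ?_) ?_)
        · exact R.U_le_B (R.xg_mem_U _ hsp hsl _)
        · exact R.H_le_B (R.hg_mem_H hsl (neg_ne_zero.mpr (inv_ne_zero hbb0)))
        · exact R.H_le_B (R.ng_sq_mem_H hsl)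
      · exact Subgroup.mul_mem _ (R.U_le_B (R.xg_mem_U _ hpos (Fin.is_lt _) _)) hh'
      · rw [← hconj']
        have e3 := R.xneg_eq (D.simple i) hbb0
        rw [← e1, ← hni] at e3
        calc ni * (u' * R.xg (D.simple i) a * h) * n
            = ni * u' * ni⁻¹ * (ni * R.xg (D.simple i) a * ni⁻¹) * ni * n * (n⁻¹ * h * n) := by group
          _ = _ := by rw [e3]; group

theorem ni_not_mem_B {i : ℕ} (hi : i < D.rank) (G2 : Good2 D) : R.ng (D.simple i) 1 ∉ D.borelSubgroup F := by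
  intro h
  have hsl := G.simple_lt i hi
  have h1 : R.ng (D.simple i) 1 * R.xg (D.simple i) 1 * (R.ng (D.simple i) 1)⁻¹ ∈ D.borelSubgroup F :=
    Subgroup.mul_mem _ (Subgroup.mul_mem _ h (R.U_le_B (R.xg_mem_U _ (G.simple_pos hi) hsl _))) (Subgroup.inv_mem _ h)
  rw [R.ng_conj hi hsl, G.refl_simple] at h1
  have h2 : R.xg (D.neg (D.simple i)) ((G.eta i (D.simple i) : F) * 1) ∈ D.borelSubgroup F ⊓ D.negUnipotent F :=
    ⟨h1, R.xg_mem_V _ (G.neg_lt_half hsl (G.simple_pos hi)) _⟩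
  rw [R.B_inf_V, Subgroup.mem_bot, R.xg_eq_one_iff (G.neg_lt hsl), mul_one] at h2
  exact R.eta_ne_zero hi hsl h2

theorem Good_simple_inj {i j : ℕ} (hi : i < D.rank) (hj : j < D.rank) (h : D.simple i = D.simple j) : i = j := by
  by_contra hne
  have h1 := G.rc_simple i hi i hi
  have h2 := G.rc_simple j hj i hi
  rw [if_pos rfl] at h1
  rw [if_neg (fun e => hne e.symm), ← h, h1] at h2
  exact one_ne_zero h2

/-- the (B, N)-pair -/
def bnPair (G2 : Good2 D) : Cfsg.BNPair ↥(D.group F) where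
  B := (D.borelSubgroup F).subgroupOf (D.group F)
  N := (D.monomialSubgroup F).subgroupOf (D.group F)
  S := {n : ↥(D.group F) | ∃ i < D.rank, ((n : GL D.Idx F) : Matrix D.Idx D.Idx F) = D.nMat F (D.simple i) 1}
  sup_eq_top := by
    rw [← Subgroup.subgroupOf_sup R.B_le_group R.N_le_group, R.B_sup_N G2, Subgroup.subgroupOf_self]
  conj_mem := by
    rintro n hn t ht
    obtain ⟨ht1, ht2⟩ := Subgroup.mem_inf.mp ht
    rw [Subgroup.mem_subgroupOf] at hn ht1 ht2 ⊢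
    have h1 : (t : GL D.Idx F) ∈ D.borelSubgroup F ⊓ D.monomialSubgroup F := ⟨ht1, ht2⟩
    rw [R.B_inf_N G2] at h1
    have := (Subgroup.mem_normalizer_iff.mp (R.N_le_normalizer_H G2 hn) _).mp h1
    exact R.H_le_B this
  subset := by
    rintro n ⟨i, hi, hn⟩
    show n ∈ (D.monomialSubgroup F).subgroupOf (D.group F)
    rw [Subgroup.mem_subgroupOf, (R.eq_wg_iff _ _).mp hn]
    exact R.ng_mem_N (G.simple_lt i hi)
  sq_mem := by
    rintro n ⟨i, hi, hn⟩
    rw [Subgroup.mem_subgroupOf, Subgroup.coe_mul, (R.eq_wg_iff _ _).mp hn]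
    exact R.H_le_B (R.ng_sq_mem_H (G.simple_lt i hi))
  inj := by
    rintro s ⟨i, hi, hs⟩ s' ⟨j, hj, hs'⟩ h
    rw [Subgroup.mem_subgroupOf, Subgroup.coe_mul, Subgroup.coe_inv, (R.eq_wg_iff _ _).mp hs,
      (R.eq_wg_iff _ _).mp hs'] at h
    have h1 : (R.ng (D.simple i) 1)⁻¹ * R.ng (D.simple j) 1 ∈ D.borelSubgroup F ⊓ D.monomialSubgroup F :=
      ⟨h, Subgroup.mul_mem _ (Subgroup.inv_mem _ (R.ng_mem_N (G.simple_lt i hi))) (R.ng_mem_N (G.simple_lt j hj))⟩
    rw [R.B_inf_N G2] at h1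
    have h2 := IsMono.unique R (IsMono.of_tor R (R.H_le_Tor h1))
      (IsMono.mul R (IsMono.inv R (IsMono.ni R hi)) (IsMono.ni R hj))
    rw [G.wP_inv] at h2
    have hij : i = j := by
      by_contra hne
      have h3 := congrArg (fun σ : Equiv.Perm (Fin D.nroots) => ((σ ⟨D.simple i, G.simple_lt i hi⟩ : Fin D.nroots) : ℕ)) h2
      simp only [Equiv.Perm.one_apply, Equiv.Perm.mul_apply, G.wP_apply] at h3
      have h4 := G.refl_pos hj (G.simple_lt i hi) (G.simple_pos hi)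
        (fun e => hne (R.Good_simple_inj hi hj e))
      -- `w_i (w_j p_i) = p_i` gives `w_j p_i = w_i p_i = - p_i`
      have h5 := congrArg (D.reflectRoot i) h3
      rw [G.refl_refl i hi _ (G.refl_lt j hj _ (G.simple_lt i hi)), G.refl_simple] at h5
      have h6 := G.neg_lt_half (G.simple_lt i hi) (G.simple_pos hi)
      omega
    subst hij
    apply Subtype.ext
    apply Units.ext
    rw [hs, hs']
  closure_sup := by
    apply le_antisymm
    · apply sup_le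
      · rw [Subgroup.closure_le]
        rintro n ⟨i, hi, hn⟩
        show n ∈ (D.monomialSubgroup F).subgroupOf (D.group F)
        rw [Subgroup.mem_subgroupOf, (R.eq_wg_iff _ _).mp hn]
        exact R.ng_mem_N (G.simple_lt i hi)
      · exact inf_le_right
    · intro n hn
      rw [Subgroup.mem_subgroupOf, R.N_eq_N0 G2] at hn
      set K : Subgroup ↥(D.group F) := Subgroup.closure {n : ↥(D.group F) | ∃ i < D.rank,
        ((n : GL D.Idx F) : Matrix D.Idx D.Idx F) = D.nMat F (D.simple i) 1} ⊔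
        ((D.borelSubgroup F).subgroupOf (D.group F) ⊓ (D.monomialSubgroup F).subgroupOf (D.group F)) with hK
      have h1 : N0 D F ≤ K.map (D.group F).subtype := by
        unfold N0
        apply sup_le
        · intro g hg
          refine ⟨⟨g, R.H_le_group hg⟩, ?_, rfl⟩
          exact Subgroup.mem_sup_right ⟨Subgroup.mem_subgroupOf.mpr (R.H_le_B hg),
            Subgroup.mem_subgroupOf.mpr (R.H_le_N hg)⟩
        · rw [Subgroup.closure_le]
          rintro g ⟨i, hi, hg⟩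
          have hgG : g ∈ D.group F := by
            rw [(R.eq_wg_iff _ _).mp hg]; exact R.wg_mem_group _
          exact ⟨⟨g, hgG⟩, Subgroup.mem_sup_left (Subgroup.subset_closure ⟨i, hi, hg⟩), rfl⟩
      obtain ⟨m, hm, e⟩ := h1 hn
      have : m = n := Subtype.ext e
      rwa [← this]
  mul_mem_union := by
    rintro s ⟨i, hi, hs⟩ n hn b hb
    rw [Subgroup.mem_subgroupOf] at hn hb
    obtain ⟨b1, hb1, b2, hb2, h⟩ := R.bn_axiom G2 hi hn hb
    have hs' : (s : GL D.Idx F) = R.ng (D.simple i) 1 := (R.eq_wg_iff _ _).mp hs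
    rcases h with h | h
    · left
      rw [DoubleCoset.mem_doubleCoset]
      refine ⟨⟨b1, R.B_le_group hb1⟩, Subgroup.mem_subgroupOf.mpr hb1, ⟨b2, R.B_le_group hb2⟩,
        Subgroup.mem_subgroupOf.mpr hb2, ?_⟩
      apply Subtype.ext
      simp only [Subgroup.coe_mul, hs']
      exact h
    · right
      rw [DoubleCoset.mem_doubleCoset]
      refine ⟨⟨b1, R.B_le_group hb1⟩, Subgroup.mem_subgroupOf.mpr hb1, ⟨b2, R.B_le_group hb2⟩,
        Subgroup.mem_subgroupOf.mpr hb2, ?_⟩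
      apply Subtype.ext
      simp only [Subgroup.coe_mul, hs']
      exact h
  conj_ne := by
    rintro s ⟨i, hi, hs⟩ heq
    have hs' : (s : GL D.Idx F) = R.ng (D.simple i) 1 := (R.eq_wg_iff _ _).mp hs
    have hsl := G.simple_lt i hi
    have hx : (⟨R.xg (D.simple i) 1, R.xg_mem_group _ _⟩ : ↥(D.group F)) ∈
        ((D.borelSubgroup F).subgroupOf (D.group F) : Set ↥(D.group F)) :=
      Subgroup.mem_subgroupOf.mpr (R.U_le_B (R.xg_mem_U _ (G.simple_pos hi) hsl _))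
    have h1 : s * ⟨R.xg (D.simple i) 1, R.xg_mem_group _ _⟩ * s ∈
        ((D.borelSubgroup F).subgroupOf (D.group F) : Set ↥(D.group F)) := by
      rw [← heq]; exact ⟨_, hx, rfl⟩
    have h2 : R.ng (D.simple i) 1 * R.xg (D.simple i) 1 * R.ng (D.simple i) 1 ∈ D.borelSubgroup F := by
      have := Subgroup.mem_subgroupOf.mp h1
      simpa only [Subgroup.coe_mul, hs'] using this
    have h3 : R.ng (D.simple i) 1 * R.xg (D.simple i) 1 * (R.ng (D.simple i) 1)⁻¹ ∈ D.borelSubgroup F := by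
      have h4 := Subgroup.mul_mem _ h2 (Subgroup.inv_mem _ (R.H_le_B (R.ng_sq_mem_H hsl)))
      have e : R.ng (D.simple i) 1 * R.xg (D.simple i) 1 * R.ng (D.simple i) 1 *
          (R.ng (D.simple i) 1 * R.ng (D.simple i) 1)⁻¹ =
          R.ng (D.simple i) 1 * R.xg (D.simple i) 1 * (R.ng (D.simple i) 1)⁻¹ := by group
      rwa [e] at h4
    rw [R.ng_conj hi hsl, G.refl_simple] at h3
    have h5 : R.xg (D.neg (D.simple i)) ((G.eta i (D.simple i) : F) * 1) ∈ D.borelSubgroup F ⊓ D.negUnipotent F :=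
      ⟨h3, R.xg_mem_V _ (G.neg_lt_half hsl (G.simple_pos hi)) _⟩
    rw [R.B_inf_V, Subgroup.mem_bot, R.xg_eq_one_iff (G.neg_lt hsl), mul_one] at h5
    exact R.eta_ne_zero hi hsl h5

end Rels

end Cfsg.Agent.Chev
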