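import Cfsg.Agent.Chev.Thy7

/-!
# The torus as the image of the fundamental cocharacters
-/

set_option autoImplicit false
set_option linter.unusedSectionVars false
set_option linter.unusedVariables false

namespace Cfsg.Agent.Chev
open Cfsg.Lie

variable {D : ChevalleyDatum} {G : Good D} {F : Type*} [Field F]

theorem wordMat_flatMap {α : Type*} (L : List α) (f : α → List (ℕ × F)) :
    D.wordMat F (L.flatMap f) = (L.map fun i => D.wordMat F (f i)).prod := by
  induction L with
  | nil => simp [ChevalleyDatum.wordMat]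
  | cons a L ih =>
    rw [List.flatMap_cons, List.map_cons, List.prod_cons, ← ih]
    simp [ChevalleyDatum.wordMat]

theorem prod_diagonal_range {n : Type*} [Fintype n] [DecidableEq n] (l : ℕ) (d : ℕ → n → F) :
    ((List.range l).map fun i => Matrix.diagonal (d i)).prod = Matrix.diagonal fun a => ∏ i ∈ Finset.range l, d i a := by
  induction l with
  | zero => simp
  | succ l ih =>
    rw [List.range_succ, List.map_append, List.prod_append, ih]
    simp only [List.map_cons, List.map_nil, List.prod_cons, List.prod_nil, mul_one, Matrix.diagonal_mul_diagonal]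
    congr 1
    funext a
    rw [Finset.prod_range_succ]

/-- the diagonal matrix `∏ h_{p_i}(c_i)` -/
def torMat (D : ChevalleyDatum) (c : ℕ → F) : Matrix D.Idx D.Idx F :=
  Matrix.diagonal fun a => ∏ i ∈ Finset.range D.rank, c i ^ wtI D (D.cartan i) a

namespace Rels
variable (R : Rels D G F)
include R

theorem wordMat_tor (c : ℕ → F) (hc : ∀ i < D.rank, c i ≠ 0) :
    D.wordMat F ((List.range D.rank).flatMap fun i => D.hWord (D.simple i) (c i)) = torMat D c := by
  rw [wordMat_flatMap, torMat, ← prod_diagonal_range]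
  congr 1
  apply List.map_congr_left
  intro i hi
  have hi' := List.mem_range.mp hi
  have := R.hmat _ (G.simple_lt i hi') (c i) (hc i hi')
  rw [ChevalleyDatum.hMat] at this
  rw [this]
  congr 1
  funext a
  rcases a with a | a
  · simp [wtI]
  · simp [wtI, G.pairing_simple i hi']

theorem H_eq_tor {g : GL D.Idx F} (hg : g ∈ D.diagonalSubgroup F) :
    ∃ c : ℕ → F, (∀ i, c i ≠ 0) ∧ (g : Matrix D.Idx D.Idx F) = torMat D c := by
  induction hg using Subgroup.closure_induction with
  | mem g hg =>
    obtain ⟨r, t, hr, ht, e⟩ := hg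
    refine ⟨fun i => t ^ ((D.coroot.getD r #[]).getD i 0), fun i => zpow_ne_zero _ ht, ?_⟩
    rw [e, R.hmat r hr t ht, torMat]
    congr 1
    funext a
    simp only [← zpow_mul]
    have hz : ∀ (s : Finset ℕ) (f : ℕ → ℤ), ∏ i ∈ s, t ^ f i = t ^ ∑ i ∈ s, f i := by
      intro s f
      induction s using Finset.induction_on with
      | empty => simp
      | insert a s ha ih => rw [Finset.prod_insert ha, Finset.sum_insert ha, ih, zpow_add₀ ht]
    rw [hz]
    congr 1
    rcases a with a | a
    · simp [wtI]
    · simp [wtI, pairing]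
  | one => exact ⟨fun _ => 1, fun _ => one_ne_zero, by simp [torMat]⟩
  | mul g h _ _ ihg ihh =>
    obtain ⟨c, hc, e⟩ := ihg
    obtain ⟨c', hc', e'⟩ := ihh
    refine ⟨fun i => c i * c' i, fun i => mul_ne_zero (hc i) (hc' i), ?_⟩
    rw [Units.val_mul, e, e', torMat, torMat, torMat, Matrix.diagonal_mul_diagonal]
    congr 1
    funext a
    rw [← Finset.prod_mul_distrib]
    apply Finset.prod_congr rfl
    intro i _
    rw [mul_zpow]
  | inv g _ ih =>
    obtain ⟨c, hc, e⟩ := ih
    refine ⟨fun i => (c i)⁻¹, fun i => inv_ne_zero (hc i), ?_⟩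
    have h1 : (g : Matrix D.Idx D.Idx F) * torMat D (fun i => (c i)⁻¹) = 1 := by
      rw [e, torMat, torMat, Matrix.diagonal_mul_diagonal, ← Matrix.diagonal_one]
      congr 1
      funext a
      rw [← Finset.prod_mul_distrib]
      apply Finset.prod_eq_one
      intro i _
      rw [← mul_zpow, mul_inv_cancel₀ (hc i), one_zpow]
    calc ((g⁻¹ : GL D.Idx F) : Matrix D.Idx D.Idx F)
        = ((g⁻¹ : GL D.Idx F) : Matrix D.Idx D.Idx F) * ((g : Matrix D.Idx D.Idx F) * torMat D (fun i => (c i)⁻¹)) := by
          rw [h1, mul_one]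
      _ = _ := by rw [← mul_assoc, ← Units.val_mul, inv_mul_cancel, Units.val_one, one_mul]

end Rels

end Cfsg.Agent.Chev
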