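import Cfsg.Agent.Chev.Thy8

/-!
# The order of the diagonal subgroup
-/

set_option autoImplicit false
set_option linter.unusedSectionVars false
set_option linter.unusedVariables false

namespace Cfsg.Agent.Chev
open Cfsg.Lie
open scoped MatrixGroups

section zphi
variable {l : ℕ} {A : Type*} [CommGroup A]

theorem prod_zpow_sum {ι : Type*} (s : Finset ι) (a : A) (f : ι → ℤ) : ∏ i ∈ s, a ^ f i = a ^ ∑ i ∈ s, f i := by
  classical
  induction s using Finset.induction_on with
  | empty => simp
  | insert b s hb ih => rw [Finset.prod_insert hb, Finset.sum_insert hb, ih, zpow_add]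

/-- the endomorphism of `A ^ l` attached to an integer matrix -/
def zphi (M : Matrix (Fin l) (Fin l) ℤ) : (Fin l → A) →* (Fin l → A) where
  toFun c j := ∏ i, c i ^ M i j
  map_one' := by ext j; simp
  map_mul' c c' := by ext j; simp [mul_zpow, Finset.prod_mul_distrib]

theorem zphi_apply (M : Matrix (Fin l) (Fin l) ℤ) (c : Fin l → A) (j : Fin l) : zphi M c j = ∏ i, c i ^ M i j := rfl

theorem zphi_mul (M N : Matrix (Fin l) (Fin l) ℤ) (c : Fin l → A) : zphi (M * N) c = zphi N (zphi M c) := by
  ext k
  simp only [zphi_apply, Matrix.mul_apply]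
  have h1 : ∀ j, (∏ i, c i ^ M i j) ^ N j k = ∏ i, c i ^ (M i j * N j k) := by
    intro j
    rw [← Finset.prod_zpow]
    apply Finset.prod_congr rfl
    intro i _
    rw [zpow_mul]
  simp only [h1]
  rw [Finset.prod_comm]
  apply Finset.prod_congr rfl
  intro i _
  rw [prod_zpow_sum]

theorem zphi_one (c : Fin l → A) : zphi (1 : Matrix (Fin l) (Fin l) ℤ) c = c := by
  ext j
  rw [zphi_apply, Finset.prod_eq_single j]
  · simp
  · intro i _ hij
    rw [Matrix.one_apply_ne hij, zpow_zero]
  · intro h; exact absurd (Finset.mem_univ j) h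

theorem card_range_zphi {M U U' V V' Δ : Matrix (Fin l) (Fin l) ℤ} (h1 : U' * U = 1) (h2 : V * V' = 1)
    (h3 : U * M * V = Δ) : Nat.card (zphi M : (Fin l → A) →* _).range = Nat.card (zphi Δ : (Fin l → A) →* _).range := by
  have hinj : Function.Injective (zphi V : (Fin l → A) →* _) := by
    intro x y h
    have := congrArg (zphi V' : (Fin l → A) →* _) h
    rwa [← zphi_mul, ← zphi_mul, h2, zphi_one, zphi_one] at this
  have hmap : (zphi Δ : (Fin l → A) →* _).range = (zphi M : (Fin l → A) →* _).range.map (zphi V) := by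
    ext y
    constructor
    · rintro ⟨c, rfl⟩
      refine ⟨zphi M (zphi U c), ⟨_, rfl⟩, ?_⟩
      rw [← h3, zphi_mul, zphi_mul]
    · rintro ⟨_, ⟨x, rfl⟩, rfl⟩
      refine ⟨zphi U' x, ?_⟩
      rw [← h3, zphi_mul, zphi_mul, ← zphi_mul U' U, h1, zphi_one]
  rw [hmap, Subgroup.card_map_of_injective hinj]

theorem card_range_diag [IsCyclic A] [Finite A] (δ : Fin l → ℕ) :
    Nat.card (zphi (Matrix.diagonal fun j => (δ j : ℤ)) : (Fin l → A) →* _).range =
      ∏ j, (Nat.card A / (Nat.card A).gcd (δ j)) := by
  have happ : ∀ (c : Fin l → A) (j : Fin l), zphi (Matrix.diagonal fun j => (δ j : ℤ)) c j = c j ^ δ j := by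
    intro c j
    rw [zphi_apply, Finset.prod_eq_single j]
    · simp
    · intro i _ hij
      rw [Matrix.diagonal_apply_ne _ hij, zpow_zero]
    · intro h; exact absurd (Finset.mem_univ j) h
  let e : (zphi (Matrix.diagonal fun j => (δ j : ℤ)) : (Fin l → A) →* _).range ≃
      ∀ j, (powMonoidHom (δ j) : A →* A).range :=
    { toFun := fun y j => ⟨y.1 j, by
        obtain ⟨c, hc⟩ := y.2
        exact ⟨c j, by rw [← hc, happ]; rfl⟩⟩
      invFun := fun z => ⟨fun j => (z j).1, by
        choose c hc using fun j => (z j).2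
        exact ⟨c, by ext j; rw [happ, ← hc]; rfl⟩⟩
      left_inv := fun y => rfl
      right_inv := fun z => rfl }
  rw [Nat.card_congr e, Nat.card_pi]
  apply Finset.prod_congr rfl
  intro j _
  exact IsCyclic.card_powMonoidHom_range A (δ j)

end zphi

variable {D : ChevalleyDatum} {G : Good D} {F : Type*} [Field F]

/-- diagonal matrices as elements of `GL` -/
def diagG (n : Type*) [Fintype n] [DecidableEq n] (F : Type*) [Field F] : (n → Fˣ) →* GL n F :=
  (Units.map (Matrix.diagonalRingHom n F).toMonoidHom).comp MulEquiv.piUnits.symm.toMonoidHom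

theorem coe_diagG {n : Type*} [Fintype n] [DecidableEq n] (χ : n → Fˣ) :
    ((diagG n F χ : GL n F) : Matrix n n F) = Matrix.diagonal fun a => (χ a : F) := rfl

theorem diagG_injective {n : Type*} [Fintype n] [DecidableEq n] : Function.Injective (diagG n F) := by
  intro χ χ' h
  have h1 := congrArg (fun g : GL n F => (g : Matrix n n F)) h
  simp only [coe_diagG] at h1
  funext a
  apply Units.ext
  exact congrFun (Matrix.diagonal_injective h1) a

/-- the characters of the torus -/
def kap (D : ChevalleyDatum) (F : Type*) [Field F] : (Fin D.rank → Fˣ) →* (D.Idx → Fˣ) where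
  toFun c a := ∏ i, c i ^ wtI D (D.cartan i) a
  map_one' := by ext a; simp
  map_mul' c c' := by ext a; simp [mul_zpow, Finset.prod_mul_distrib]

/-- the Cartan matrix -/
def cartanM (D : ChevalleyDatum) : Matrix (Fin D.rank) (Fin D.rank) ℤ := fun i j => D.cartan i (D.simple j)

theorem Good.kap_ker (G : Good D) : (kap D F).ker = (zphi (cartanM D) : (Fin D.rank → Fˣ) →* _).ker := by
  ext c
  rw [MonoidHom.mem_ker, MonoidHom.mem_ker]
  constructor
  · intro h
    ext j
    have := congrFun h (Sum.inr ⟨D.simple j, G.simple_lt j j.2⟩)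
    rw [zphi_apply]
    exact congrArg Units.val this
  · intro h
    funext a
    rcases a with a | s
    · show ∏ i, c i ^ wtI D (D.cartan i) (Sum.inl a) = 1
      simp [wtI]
    · show ∏ i : Fin D.rank, c i ^ D.cartan i s = 1
      have h1 : ∀ i : Fin D.rank, c i ^ D.cartan i s = ∏ j : Fin D.rank, (c i ^ cartanM D i j) ^ G.rc s j := by
        intro i
        rw [G.cartan_lin i i.2 s s.2, isum_eq, ← Fin.sum_univ_eq_sum_range (fun j => G.rc s j * D.cartan i (D.simple j)),
          ← prod_zpow_sum]
        apply Finset.prod_congr rfl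
        intro j _
        rw [← zpow_mul, mul_comm]; rfl
      simp only [h1]
      rw [Finset.prod_comm]
      apply Finset.prod_eq_one
      intro j _
      rw [Finset.prod_zpow]
      have := congrFun h j
      rw [zphi_apply] at this
      rw [this]
      simp

namespace Rels
variable (R : Rels D G F)
include R

theorem wg_flatMap {α : Type*} (L : List α) (f : α → List (ℕ × F)) :
    R.wg (L.flatMap f) = (L.map fun i => R.wg (f i)).prod := by
  induction L with
  | nil => simp [wg]
  | cons a L ih =>
    rw [List.flatMap_cons, List.map_cons, List.prod_cons, ← ih]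
    simp [wg]

theorem range_tor : ((diagG D.Idx F).comp (kap D F)).range = D.diagonalSubgroup F := by
  have hmat : ∀ c : Fin D.rank → Fˣ, ((diagG D.Idx F (kap D F c) : GL D.Idx F) : Matrix D.Idx D.Idx F) =
      torMat D (fun i => if h : i < D.rank then ((c ⟨i, h⟩ : Fˣ) : F) else 1) := by
    intro c
    rw [coe_diagG, torMat]
    congr 1
    funext a
    show ((∏ i, c i ^ wtI D (D.cartan i) a : Fˣ) : F) = _
    rw [← Fin.prod_univ_eq_prod_range (fun i => (if h : i < D.rank then ((c ⟨i, h⟩ : Fˣ) : F) else 1) ^ wtI D (D.cartan i) a)]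
    push_cast
    apply Finset.prod_congr rfl
    intro i _
    rw [dif_pos i.2]
  apply le_antisymm
  · rintro _ ⟨c, rfl⟩
    have h1 := hmat c
    rw [← R.wordMat_tor _ (fun i hi => by rw [dif_pos hi]; exact Units.ne_zero _), R.eq_wg_iff] at h1
    show diagG D.Idx F (kap D F c) ∈ _
    rw [h1, R.wg_flatMap]
    apply Subgroup.list_prod_mem
    intro x hx
    rw [List.mem_map] at hx
    obtain ⟨i, hi, rfl⟩ := hx
    have hi' := List.mem_range.mp hi
    exact R.hg_mem_H (G.simple_lt i hi') (by rw [dif_pos hi']; exact Units.ne_zero _)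
  · intro g hg
    obtain ⟨c, hc, e⟩ := R.H_eq_tor hg
    refine ⟨fun i => Units.mk0 (c i) (hc i), ?_⟩
    apply Units.ext
    show ((diagG D.Idx F (kap D F _) : GL D.Idx F) : Matrix D.Idx D.Idx F) = _
    rw [hmat, e]
    unfold torMat
    congr 1
    funext a
    apply Finset.prod_congr rfl
    intro i hi
    simp only [dif_pos (Finset.mem_range.mp hi)]
    rfl

theorem card_H : Nat.card (D.diagonalSubgroup F) = Nat.card (zphi (cartanM D) : (Fin D.rank → Fˣ) →* _).range := by
  have hk : ((diagG D.Idx F).comp (kap D F)).ker = (kap D F).ker := by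
    ext c
    rw [MonoidHom.mem_ker, MonoidHom.mem_ker, MonoidHom.comp_apply, map_eq_one_iff _ diagG_injective]
  rw [← R.range_tor, ← Subgroup.index_ker, ← Subgroup.index_ker, hk, G.kap_ker]

end Rels

end Cfsg.Agent.Chev
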