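import Cfsg.Agent.Chev.ListProd

/-!
# Twisted groups: the abstract setting, fixed points in unipotent groups
-/

set_option autoImplicit false
set_option linter.unusedSectionVars false
set_option linter.unusedVariables false

namespace Cfsg.Agent.Chev
open Cfsg.Lie
open scoped MatrixGroups

/-- combinatorial data of a twisting -/
structure TwC where
  π : ℕ → ℕ
  ρ : ℕ → ℕ
  ε : ℕ → ℤ
  d : ℕ
  heads : List ℕ
  rep : ℕ → ℕ
  kk : ℕ → ℕ
  par : ℕ → ℕ × ℕ
  dep : ℕ → ℕ

namespace TwC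
variable (C : TwC)

/-- size of the orbit of a root -/
def e (c : ℕ) : ℕ := if C.ρ c = c then 1 else C.d

/-- the orbit of a root, as a list -/
def blk (c : ℕ) : List ℕ := (List.range (C.e c)).map fun k => C.ρ^[k] c

/-- all positive roots, orbit after orbit -/
def L : List ℕ := C.heads.flatMap C.blk

/-- the accumulated sign along an orbit -/
def sg (c : ℕ) : ℕ → ℤ
  | 0 => 1
  | k + 1 => C.ε (C.ρ^[k] c) * sg c k

/-- the orbit of a fundamental root, as a list of indices -/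
def Js (D : ChevalleyDatum) (i : ℕ) : List ℕ := (List.range (C.e (D.simple i))).map fun k => C.π^[k] i

/-- the product of the commuting reflections of an orbit of fundamental roots -/
def wJ (D : ChevalleyDatum) (i s : ℕ) : ℕ := (C.Js D i).foldr D.reflectRoot s

end TwC

/-- the table facts -/
structure TwOK (D : ChevalleyDatum) (C : TwC) : Prop where
  d_pos : 0 < C.d
  rho_lt : ∀ r < D.nroots, C.ρ r < D.nroots
  rho_pow : ∀ r < D.nroots, C.ρ^[C.d] r = r
  rho_neg : ∀ r < D.nroots, C.ρ (D.neg r) = D.neg (C.ρ r)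
  rho_pos : ∀ r < D.nroots, D.nroots / 2 ≤ r → D.nroots / 2 ≤ C.ρ r
  simple : ∀ i < D.rank, C.π i < D.rank ∧ C.ρ (D.simple i) = D.simple (C.π i) ∧ C.ε (D.simple i) = 1 ∧
    C.ε (D.neg (D.simple i)) = 1
  eps : ∀ r < D.nroots, C.ε r = 1 ∨ C.ε r = -1
  perm : C.L.Perm (List.range' (D.nroots / 2) (D.nroots / 2))
  sc : SC D C.L
  comm : ∀ r < D.nroots, ∀ k < C.d, C.ρ^[k] r ≠ r → D.commTerms r (C.ρ^[k] r) = [] ∧ C.ρ^[k] r ≠ D.neg r
  sg_e : ∀ r < D.nroots, C.sg r (C.e r) = 1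
  rep_kk : ∀ c ∈ C.heads, ∀ k < C.e c, C.rep (C.ρ^[k] c) = c ∧ C.kk (C.ρ^[k] c) = k
  heads_nodup : C.heads.Nodup
  eps_neg : ∀ r < D.nroots, C.ε (D.neg r) = C.ε r
  comm2 : ∀ r < D.nroots, ∀ k < C.d, C.ρ^[k] r ≠ r → D.commTerms r (D.neg (C.ρ^[k] r)) = []
  blk_nodup : ∀ r < D.nroots, (C.blk r).Nodup
  orth : ∀ i < D.rank, ∀ a ∈ C.Js D i, ∀ j ∈ C.Js D i, a ≠ j → D.reflectRoot a (D.simple j) = D.simple j
  trans : ∀ i < D.rank, ∀ j ∈ C.Js D i, ∀ k ∈ C.Js D i, ∃ m < C.d, C.π^[m] j = k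
  reach : ∀ r < D.nroots, (r ∈ C.heads ∧ ∃ i < D.rank, r = D.simple i) ∨
    (C.dep (C.par r).2 < C.dep r ∧ (C.par r).1 < D.rank ∧ D.simple (C.par r).1 ∈ C.heads ∧ (C.par r).2 < D.nroots ∧
      ∀ s ∈ C.blk r, C.wJ D (C.par r).1 s ∈ C.blk (C.par r).2)
  hinj : ∀ i < D.rank, ∀ j < D.rank, (D.simple i ∈ C.heads ∧ D.simple j ∈ C.heads ∧ i ≠ j) →
    C.wJ D j (D.simple i) ≠ D.neg (D.simple i)
  cover : ∀ j < D.rank, ∃ i < D.rank, D.simple i ∈ C.heads ∧ j ∈ C.Js D i
  wJ_sq : ∀ i < D.rank, ∀ s < D.nroots, C.wJ D i (C.wJ D i s) = s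

namespace TwOK
variable {D : ChevalleyDatum} {C : TwC} (O : TwOK D C)
include O

theorem iter_lt {r : ℕ} (hr : r < D.nroots) (k : ℕ) : C.ρ^[k] r < D.nroots := by
  induction k with
  | zero => exact hr
  | succ k ih => rw [Function.iterate_succ_apply']; exact O.rho_lt _ ih

theorem iter_pos {r : ℕ} (hr : r < D.nroots) (hp : D.nroots / 2 ≤ r) (k : ℕ) : D.nroots / 2 ≤ C.ρ^[k] r := by
  induction k with
  | zero => exact hp
  | succ k ih => rw [Function.iterate_succ_apply']; exact O.rho_pos _ (O.iter_lt hr k) ih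

theorem e_pow {r : ℕ} (hr : r < D.nroots) : C.ρ^[C.e r] r = r := by
  unfold TwC.e
  split_ifs with h
  · exact h
  · exact O.rho_pow r hr

theorem e_pos (r : ℕ) : 0 < C.e r := by
  unfold TwC.e
  split_ifs
  · exact Nat.one_pos
  · exact O.d_pos

theorem e_le (r : ℕ) : C.e r ≤ C.d := by
  unfold TwC.e
  split_ifs
  · exact O.d_pos
  · exact le_refl _

theorem mem_L (G : Good D) (r : ℕ) : r ∈ C.L ↔ D.nroots / 2 ≤ r ∧ r < D.nroots := by
  rw [O.perm.mem_iff, List.mem_range'_1]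
  have := G.even
  omega

theorem nodup_L : C.L.Nodup := O.perm.nodup_iff.mpr (List.nodup_range')

/-- the inverse of `ρ` -/
theorem rho_inv {r : ℕ} (hr : r < D.nroots) : C.ρ (C.ρ^[C.d - 1] r) = r := by
  rw [← Function.iterate_succ_apply' C.ρ, show (C.d - 1).succ = C.d from Nat.succ_pred_eq_of_pos O.d_pos]
  exact O.rho_pow r hr

theorem inv_rho {r : ℕ} (hr : r < D.nroots) : C.ρ^[C.d - 1] (C.ρ r) = r := by
  rw [← Function.iterate_succ_apply C.ρ, show (C.d - 1).succ = C.d from Nat.succ_pred_eq_of_pos O.d_pos]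
  exact O.rho_pow r hr

/-- `ρ` as a permutation of the roots -/
def rhoP : Equiv.Perm (Fin D.nroots) where
  toFun s := ⟨C.ρ s, O.rho_lt s s.2⟩
  invFun s := ⟨C.ρ^[C.d - 1] s, O.iter_lt s.2 _⟩
  left_inv s := Fin.ext (O.inv_rho s.2)
  right_inv s := Fin.ext (O.rho_inv s.2)

theorem rhoP_apply (s : Fin D.nroots) : ((O.rhoP s : Fin D.nroots) : ℕ) = C.ρ s := rfl

theorem head_mem (G : Good D) {c : ℕ} (hc : c ∈ C.heads) : c ∈ C.L := by
  unfold TwC.L
  rw [List.mem_flatMap]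
  refine ⟨c, hc, ?_⟩
  unfold TwC.blk
  rw [List.mem_map]
  exact ⟨0, List.mem_range.mpr (O.e_pos c), rfl⟩

theorem mem_L_iff (r : ℕ) : r ∈ C.L ↔ ∃ c ∈ C.heads, ∃ k < C.e c, r = C.ρ^[k] c := by
  unfold TwC.L TwC.blk
  simp only [List.mem_flatMap, List.mem_map, List.mem_range]
  constructor
  · rintro ⟨c, hc, k, hk, rfl⟩; exact ⟨c, hc, k, hk, rfl⟩
  · rintro ⟨c, hc, k, hk, rfl⟩; exact ⟨c, hc, k, hk, rfl⟩

end TwOK

variable {D : ChevalleyDatum} {G : Good D} {K : Type*} [Field K]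

/-- the twisting endomorphism -/
structure TwS (C : TwC) (O : TwOK D C) (R : Rels D G K) where
  φ : K →+* K
  sig : GL D.Idx K →* GL D.Idx K
  sig_xg : ∀ r < D.nroots, ∀ t, sig (R.xg r t) = R.xg (C.ρ r) ((C.ε r : K) * φ t)
  sig_mono : ∀ n w, R.IsMono n w → R.IsMono (sig n) (O.rhoP * w * O.rhoP⁻¹)
  phi_pow : ∀ a, φ^[C.d] a = a
  q : ℕ
  phi_eq : ∀ a, φ a = a ^ q
  card_fix : Nat.card {x : K // φ x = x} = q
  card_K : Nat.card K = q ^ C.d

namespace Rels
variable (R : Rels D G K)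
include R

theorem xg_comm_of_terms {r s : ℕ} (hr : r < D.nroots) (hs : s < D.nroots) (h1 : s ≠ r) (h2 : s ≠ D.neg r)
    (ht : D.commTerms r s = []) (t u : K) : Commute (R.xg r t) (R.xg s u) := by
  have h3 := R.comm_g hr hs h1 h2 t u
  have h4 : R.wg (D.commWord K r s t u) = 1 := by
    unfold ChevalleyDatum.commWord
    rw [ht]
    rfl
  rw [h4, mul_one] at h3
  show R.xg r t * R.xg s u = R.xg s u * R.xg r t
  calc R.xg r t * R.xg s u = R.xg r t * ((R.xg r t)⁻¹ * R.xg s u * R.xg r t) := by rw [h3]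
    _ = _ := by group

theorem prodL_perm (t : ℕ → K) {L L' : List ℕ} (h : L.Perm L')
    (hc : ∀ r ∈ L, ∀ s ∈ L, Commute (R.xg r (t r)) (R.xg s (t s))) : R.prodL t L = R.prodL t L' := by
  unfold prodL
  apply List.Perm.prod_eq' (h.map _)
  rw [List.pairwise_map]
  exact List.pairwise_of_forall_mem_list hc

end Rels

namespace TwS
variable {C : TwC} {O : TwOK D C} {R : Rels D G K} (S : TwS C O R)
include S

/-- the fixed points -/
def Γ : Subgroup (GL D.Idx K) := MonoidHom.eqLocus S.sig (MonoidHom.id _)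

theorem mem_Γ (g : GL D.Idx K) : g ∈ S.Γ ↔ S.sig g = g := Iff.rfl

/-- the action on coordinates -/
def tw (t : ℕ → K) : ℕ → K := fun s => (C.ε (C.ρ^[C.d - 1] s) : K) * S.φ (t (C.ρ^[C.d - 1] s))

theorem tw_rho (t : ℕ → K) {r : ℕ} (hr : r < D.nroots) : S.tw t (C.ρ r) = (C.ε r : K) * S.φ (t r) := by
  unfold tw
  rw [O.inv_rho hr]

theorem orbit_comm {r : ℕ} (hr : r < D.nroots) (j k : ℕ) (t u : K) :
    Commute (R.xg (C.ρ^[j] r) t) (R.xg (C.ρ^[k] r) u) := by
  -- reduce to `k = j + m` with `m < d`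
  have key : ∀ (s : ℕ), s < D.nroots → ∀ (m : ℕ) (t u : K), Commute (R.xg s t) (R.xg (C.ρ^[m] s) u) := by
    intro s hs m t u
    have hm : C.ρ^[m] s = C.ρ^[m % C.d] s := by
      conv_lhs => rw [← Nat.div_add_mod m C.d, Nat.add_comm, Function.iterate_add_apply]
      congr 1
      generalize m / C.d = a
      induction a with
      | zero => rfl
      | succ a ih =>
        rw [Nat.mul_succ, Function.iterate_add_apply, O.rho_pow s hs, ih]
    rw [hm]
    by_cases h : C.ρ^[m % C.d] s = s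
    · rw [h]
      show R.xg s t * R.xg s u = R.xg s u * R.xg s t
      rw [R.xg_add, R.xg_add, add_comm]
    · obtain ⟨h1, h2⟩ := O.comm s hs _ (Nat.mod_lt _ O.d_pos) h
      exact R.xg_comm_of_terms hs (O.iter_lt hs _) h h2 h1 t u
  rcases Nat.le_total j k with h | h
  · obtain ⟨m, rfl⟩ := Nat.exists_eq_add_of_le h
    rw [Nat.add_comm, Function.iterate_add_apply]
    exact key _ (O.iter_lt hr j) m t u
  · obtain ⟨m, rfl⟩ := Nat.exists_eq_add_of_le h
    rw [Nat.add_comm k m, Function.iterate_add_apply]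
    exact (key _ (O.iter_lt hr k) m u t).symm

theorem blk_map_perm {c : ℕ} (hc : c < D.nroots) : ((C.blk c).map C.ρ).Perm (C.blk c) := by
  unfold TwC.blk
  rw [List.map_map]
  have h1 : (List.range (C.e c)).map (C.ρ ∘ fun k => C.ρ^[k] c) =
      (List.range (C.e c)).map (fun k => C.ρ^[(k + 1) % C.e c] c) := by
    apply List.map_congr_left
    intro k hk
    rw [List.mem_range] at hk
    simp only [Function.comp]
    rw [← Function.iterate_succ_apply' C.ρ]
    rcases Nat.lt_or_ge (k + 1) (C.e c) with h | h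
    · rw [Nat.mod_eq_of_lt h]
    · have : k + 1 = C.e c := by omega
      rw [show k.succ = C.e c from this, this, Nat.mod_self, O.e_pow hc]
      rfl
  rw [h1]
  have h2 : (List.range (C.e c)).map (fun k => C.ρ^[(k + 1) % C.e c] c) =
      ((List.range (C.e c)).map (fun k => (k + 1) % C.e c)).map (fun k => C.ρ^[k] c) := by
    rw [List.map_map]; rfl
  rw [h2]
  apply List.Perm.map
  have he := O.e_pos c
  -- the rotation of `range e`
  have h3 : (List.range (C.e c)).map (fun k => (k + 1) % C.e c) = (List.range (C.e c)).rotate 1 := by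
    apply List.ext_getElem
    · simp
    · intro i h1 h2
      simp only [List.length_map, List.length_range] at h1
      rw [List.getElem_map, List.getElem_range, List.getElem_rotate, List.getElem_range, List.length_range]
  rw [h3]
  exact List.rotate_perm _ _

theorem sig_prodL_gen (t : ℕ → K) (L : List ℕ) (hL : ∀ r ∈ L, r < D.nroots) :
    S.sig (R.prodL t L) = R.prodL (S.tw t) (L.map C.ρ) := by
  induction L with
  | nil => simp [Rels.prodL]
  | cons r L ih =>
    rw [List.map_cons, R.prodL_cons, R.prodL_cons, map_mul, ih (fun s hs => hL s (List.mem_cons_of_mem _ hs)),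
      S.sig_xg r (hL r List.mem_cons_self), S.tw_rho t (hL r List.mem_cons_self)]

theorem blk_lt {c : ℕ} (hc : c < D.nroots) : ∀ r ∈ C.blk c, r < D.nroots := by
  intro r hr
  unfold TwC.blk at hr
  rw [List.mem_map] at hr
  obtain ⟨k, _, rfl⟩ := hr
  exact O.iter_lt hc k

theorem sig_prodL_blk (t : ℕ → K) {c : ℕ} (hc : c < D.nroots) :
    S.sig (R.prodL t (C.blk c)) = R.prodL (S.tw t) (C.blk c) := by
  rw [S.sig_prodL_gen t _ (S.blk_lt hc)]
  apply R.prodL_perm _ (S.blk_map_perm hc)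
  intro r hr s hs
  rw [(S.blk_map_perm hc).mem_iff] at hr hs
  unfold TwC.blk at hr hs
  rw [List.mem_map] at hr hs
  obtain ⟨j, _, rfl⟩ := hr
  obtain ⟨k, _, rfl⟩ := hs
  exact S.orbit_comm hc j k _ _

theorem prodL_flatMap (t : ℕ → K) (H : List ℕ) :
    R.prodL t (H.flatMap C.blk) = (H.map fun c => R.prodL t (C.blk c)).prod := by
  induction H with
  | nil => rfl
  | cons c H ih => rw [List.flatMap_cons, R.prodL_append, ih, List.map_cons, List.prod_cons]

theorem sig_prodL (t : ℕ → K) : S.sig (R.prodL t C.L) = R.prodL (S.tw t) C.L := by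
  unfold TwC.L
  rw [S.prodL_flatMap, S.prodL_flatMap, map_list_prod, List.map_map]
  congr 1
  apply List.map_congr_left
  intro c hc
  exact S.sig_prodL_blk t ((O.mem_L G c).mp (O.head_mem G hc)).2

end TwS

end Cfsg.Agent.Chev
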