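import Cfsg.Agent.Chev.Tw8

/-!
# Twisted groups: the (B, N)-pair
-/

set_option autoImplicit false
set_option linter.unusedSectionVars false
set_option linter.unusedVariables false

namespace Cfsg.Agent.Chev
open Cfsg.Lie
open scoped MatrixGroups

variable {D : ChevalleyDatum} {G : Good D} {K : Type*} [Field K]

namespace TwS
variable {C : TwC} {O : TwOK D C} {R : Rels D G K} (S : TwS C O R)
include S

theorem nn_mul_wl {i : ℕ} (hi : i < D.rank) (L : List ℕ) (hnd : L.Nodup) (hL : ∀ a ∈ L, a ∈ C.Js D i) :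
    ∀ w ∈ G.W, (∀ a (ha : a ∈ L), (w (G.sF a (O.Js_lt hi a (hL a ha))) : ℕ) < D.nroots / 2) →
      G.nn (w * S.wl L) + L.length = G.nn w := by
  induction L with
  | nil =>
    intro w _ _
    simp [wl]
  | cons a L ih =>
    intro w hw hneg
    rw [List.nodup_cons] at hnd
    have haJ := hL a List.mem_cons_self
    have ha := O.Js_lt hi a haJ
    have h1 := G.nn_mul_refl hw a ha
    have h2 := hneg a List.mem_cons_self
    rw [if_pos h2, if_neg (by omega)] at h1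
    have h3 := ih hnd.2 (fun k hk => hL k (List.mem_cons_of_mem _ hk)) (w * G.wP a ha)
      (Subgroup.mul_mem _ hw (G.wP_mem a ha)) (by
        intro k hk
        have hkJ := hL k (List.mem_cons_of_mem _ hk)
        have e : G.wP a ha (G.sF k (O.Js_lt hi k hkJ)) = G.sF k (O.Js_lt hi k hkJ) := by
          apply Fin.ext
          rw [G.wP_apply]
          exact O.orth i hi a haJ k hkJ (fun e => hnd.1 (e ▸ hk))
        rw [Equiv.Perm.mul_apply, e]
        exact hneg k (List.mem_cons_of_mem _ hk))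
    rw [S.wl_cons a ha, ← mul_assoc, List.length_cons]
    omega

/-- the reflections -/
def refl : Set (GL D.Idx K) := {g | ∃ i < D.rank, D.simple i ∈ C.heads ∧ g = S.nJ i}

theorem N1_le (G2 : Good2 D) (k : ℕ) : ∀ n ∈ D.monomialSubgroup K ⊓ S.G1, ∀ w ∈ G.W, R.IsMono n w → G.nn w = k →
    n ∈ Subgroup.closure S.refl ⊔ (D.diagonalSubgroup K ⊓ S.G1) := by
  induction k using Nat.strong_induction_on with
  | _ k ih =>
    intro n hn w hw hm hk
    by_cases h0 : G.nn w = 0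
    · have h1 := R.W_eq_one G2 hw h0
      subst h1
      exact Subgroup.mem_sup_right ⟨R.mono_one_mem_H G2 hn.1 hm, hn.2⟩
    · obtain ⟨j, hj, hneg⟩ := G.exists_simple_neg hw h0
      obtain ⟨i, hi, hh, hjJ⟩ := O.cover j hj
      have hc := S.mono_comm (S.G1_le_Γ hn.2) hm
      have h1 := S.nn_mul_wl hi (C.Js D i) (O.Js_nodup G hi) (fun a ha => ha) w hw
        (fun a ha => S.neg_spread hc hi hjJ ha hneg)
      have hlen : 0 < (C.Js D i).length := List.length_pos_iff.mpr (O.Js_ne_nil i)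
      have hnJ := S.nJ_mem_G1 hi hh
      have h2 := ih (G.nn (w * S.wl (C.Js D i))) (by omega) (n * S.nJ i)
        ⟨Subgroup.mul_mem _ hn.1 (S.nw_mem_N _ (O.Js_lt hi)), Subgroup.mul_mem _ hn.2 hnJ⟩ _
        (Subgroup.mul_mem _ hw (S.wl_mem _)) (Rels.IsMono.mul R hm (S.nJ_mono hi)) rfl
      have h3 : S.nJ i ∈ Subgroup.closure S.refl ⊔ (D.diagonalSubgroup K ⊓ S.G1) :=
        Subgroup.mem_sup_left (Subgroup.subset_closure ⟨i, hi, hh, rfl⟩)
      have e : n = n * S.nJ i * (S.nJ i)⁻¹ := by group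
      rw [e]
      exact Subgroup.mul_mem _ h2 (Subgroup.inv_mem _ h3)

theorem mem_blk_simple {i : ℕ} (hi : i < D.rank) {s : ℕ} (hs : s ∈ C.blk (D.simple i)) :
    ∃ j, ∃ hj : j ∈ C.Js D i, s = D.simple j := by
  obtain ⟨k, hk, rfl⟩ := O.mem_blk.mp hs
  refine ⟨C.π^[k] i, ?_, (O.simple_iter hi k).2⟩
  unfold TwC.Js
  exact List.mem_map.mpr ⟨k, List.mem_range.mpr hk, rfl⟩

theorem mem_blk_neg_simple {i : ℕ} (hi : i < D.rank) {s : ℕ} (hs : s ∈ C.blk (D.neg (D.simple i))) :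
    ∃ j, ∃ hj : j ∈ C.Js D i, s = D.neg (D.simple j) := by
  obtain ⟨k, hk, rfl⟩ := O.mem_blk.mp hs
  rw [O.e_neg G (G.simple_lt i hi)] at hk
  refine ⟨C.π^[k] i, ?_, ?_⟩
  · unfold TwC.Js
    exact List.mem_map.mpr ⟨k, List.mem_range.mpr hk, rfl⟩
  · rw [O.neg_iter (G.simple_lt i hi), (O.simple_iter hi k).2]

theorem wJ_simple {i : ℕ} (hi : i < D.rank) {j : ℕ} (hj : j ∈ C.Js D i) :
    S.wl (C.Js D i) (G.sF j (O.Js_lt hi j hj)) = G.negF (G.sF j (O.Js_lt hi j hj)) :=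
  S.wl_neg hi _ _ (O.Js_nodup G hi) (fun a ha => ha) hj

theorem nJ_conj_pos {i : ℕ} (hi : i < D.rank) : ∀ u ∈ UU D K (fun s => s ∈ C.blk (D.simple i)),
    S.nJ i * u * (S.nJ i)⁻¹ ∈ D.negUnipotent K := by
  apply Rels.IsMono.conj_UU R (S.nJ_mono hi) (S.blk_lt (G.simple_lt i hi))
  intro s hs
  obtain ⟨j, hj, e⟩ := S.mem_blk_simple hi hs
  have e' : s = G.sF j (O.Js_lt hi j hj) := Fin.ext e
  rw [e', S.wJ_simple hi hj, G.isNegRoot_iff]
  exact G.neg_lt_half (G.simple_lt j (O.Js_lt hi j hj)) (G.simple_pos (O.Js_lt hi j hj))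

theorem nJ_conj_neg {i : ℕ} (hi : i < D.rank) : ∀ u ∈ UU D K (fun s => s ∈ C.blk (D.neg (D.simple i))),
    S.nJ i * u * (S.nJ i)⁻¹ ∈ D.posUnipotent K := by
  apply Rels.IsMono.conj_UU R (S.nJ_mono hi) (S.blk_lt (G.neg_lt (G.simple_lt i hi)))
  intro s hs
  obtain ⟨j, hj, e⟩ := S.mem_blk_neg_simple hi hs
  have hjr := O.Js_lt hi j hj
  have e' : s = G.negF (G.sF j hjr) := Fin.ext e
  rw [e', G.W_neg (S.wl_mem _), S.wJ_simple hi hj, G.isPosRoot_iff]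
  have : ((G.negF (G.negF (G.sF j hjr)) : Fin D.nroots) : ℕ) = D.simple j := G.neg_neg (G.simple_lt j hjr)
  rw [this]
  exact ⟨G.simple_pos hjr, G.simple_lt j hjr⟩

theorem blk_simple_le_U {i : ℕ} (hi : i < D.rank) :
    UU D K (fun s => s ∈ C.blk (D.simple i)) ≤ D.posUnipotent K := by
  rw [← UU_pos]
  apply UU_mono
  intro s hs
  obtain ⟨j, hj, rfl⟩ := S.mem_blk_simple hi hs
  exact (G.isPosRoot_iff _).mpr ⟨G.simple_pos (O.Js_lt hi j hj), G.simple_lt j (O.Js_lt hi j hj)⟩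

theorem blk_neg_simple_le_V {i : ℕ} (hi : i < D.rank) :
    UU D K (fun s => s ∈ C.blk (D.neg (D.simple i))) ≤ D.negUnipotent K := by
  rw [← UU_neg]
  apply UU_mono
  intro s hs
  obtain ⟨j, hj, rfl⟩ := S.mem_blk_neg_simple hi hs
  exact (G.isNegRoot_iff _).mpr (G.neg_lt_half (G.simple_lt j (O.Js_lt hi j hj)) (G.simple_pos (O.Js_lt hi j hj)))

theorem nJ_sq {i : ℕ} (hi : i < D.rank) (G2 : Good2 D) : S.nJ i * S.nJ i ∈ D.diagonalSubgroup K := by
  have hN := S.nw_mem_N _ (O.Js_lt hi)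
  apply R.mono_one_mem_H G2 (Subgroup.mul_mem _ hN hN)
  have h := Rels.IsMono.mul R (S.nJ_mono hi) (S.nJ_mono hi)
  have e : S.wl (C.Js D i) * S.wl (C.Js D i) = 1 := by
    ext s
    rw [Equiv.Perm.mul_apply, S.wJ_apply hi, S.wJ_apply hi, O.wJ_sq i hi s s.2]
    rfl
  rwa [e] at h

theorem nJ_ne_one {i : ℕ} (hi : i < D.rank) : S.nJ i ≠ 1 := by
  intro h
  have h1 := S.nJ_mono hi
  rw [h] at h1
  have h2 := Rels.IsMono.unique R h1 (Rels.IsMono.of_tor R (Rels.IsTor.one R))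
  have h3 := S.wJ_simple hi (O.self_mem_Js i)
  rw [h2, Equiv.Perm.one_apply] at h3
  have h4 := congrArg (fun s : Fin D.nroots => (s : ℕ)) h3
  exact G.neg_ne (G.simple_lt i hi) h4.symm

theorem B1_sup_N1 (G2 : Good2 D) : (D.borelSubgroup K ⊓ S.G1) ⊔ (D.monomialSubgroup K ⊓ S.G1) = S.G1 := by
  apply le_antisymm (sup_le inf_le_right inf_le_right)
  conv_lhs => unfold G1
  rw [Subgroup.closure_le]
  rintro g ⟨i, hi, hh, t, ht, hg⟩
  have hgG : g ∈ S.G1 := Subgroup.subset_closure ⟨i, hi, hh, t, ht, hg⟩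
  rcases hg with rfl | rfl
  · exact Subgroup.mem_sup_left ⟨R.U_le_B (S.blk_simple_le_U hi (S.xs_mem_UU _ _)), hgG⟩
  · have hnJ := S.nJ_mem_G1 hi hh
    have hn : S.nJ i ∈ (D.borelSubgroup K ⊓ S.G1) ⊔ (D.monomialSubgroup K ⊓ S.G1) :=
      Subgroup.mem_sup_right ⟨S.nw_mem_N _ (O.Js_lt hi), hnJ⟩
    have h1 : S.nJ i * S.xs (D.neg (D.simple i)) t * (S.nJ i)⁻¹ ∈
        (D.borelSubgroup K ⊓ S.G1) ⊔ (D.monomialSubgroup K ⊓ S.G1) :=
      Subgroup.mem_sup_left ⟨R.U_le_B (S.nJ_conj_neg hi _ (S.xs_mem_UU _ _)),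
        Subgroup.mul_mem _ (Subgroup.mul_mem _ hnJ hgG) (Subgroup.inv_mem _ hnJ)⟩
    have e : S.xs (D.neg (D.simple i)) t =
        (S.nJ i)⁻¹ * (S.nJ i * S.xs (D.neg (D.simple i)) t * (S.nJ i)⁻¹) * S.nJ i := by group
    show S.xs (D.neg (D.simple i)) t ∈ _
    rw [e]
    exact Subgroup.mul_mem _ (Subgroup.mul_mem _ (Subgroup.inv_mem _ hn) h1) hn

theorem nJ_inj (G2 : Good2 D) {i j : ℕ} (hi : i < D.rank) (hj : j < D.rank) (hhi : D.simple i ∈ C.heads)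
    (hhj : D.simple j ∈ C.heads) (h : (S.nJ i)⁻¹ * S.nJ j ∈ D.borelSubgroup K) : i = j := by
  by_contra hne
  have h1 : (S.nJ i)⁻¹ * S.nJ j ∈ D.borelSubgroup K ⊓ D.monomialSubgroup K :=
    ⟨h, Subgroup.mul_mem _ (Subgroup.inv_mem _ (S.nw_mem_N _ (O.Js_lt hi))) (S.nw_mem_N _ (O.Js_lt hj))⟩
  rw [R.B_inf_N G2] at h1
  have h2 := Rels.IsMono.unique R (Rels.IsMono.of_tor R (R.H_le_Tor h1))
    (Rels.IsMono.mul R (Rels.IsMono.inv R (S.nJ_mono hi)) (S.nJ_mono hj))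
  have h3 : S.wl (C.Js D i) = S.wl (C.Js D j) := by
    calc S.wl (C.Js D i) = S.wl (C.Js D i) * 1 := by group
      _ = _ := by rw [h2]; group
  have h4 := S.wJ_simple hi (O.self_mem_Js i)
  rw [h3] at h4
  have h5 := congrArg (fun s : Fin D.nroots => (s : ℕ)) h4
  simp only [S.wJ_apply hj] at h5
  exact O.hinj i hi j hj ⟨hhi, hhj, hne⟩ h5

theorem nJ_conj_ne (G2 : Good2 D) {i : ℕ} (hi : i < D.rank)
    (h : S.nJ i * S.xs (D.simple i) 1 * S.nJ i ∈ D.borelSubgroup K) : False := by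
  set s := S.nJ i with hs
  set x := S.xs (D.simple i) 1 with hx
  have h1 : s * x * s⁻¹ ∈ D.borelSubgroup K := by
    have h4 := Subgroup.mul_mem _ h (Subgroup.inv_mem _ (R.H_le_B (S.nJ_sq hi G2)))
    have e : s * x * s * (s * s)⁻¹ = s * x * s⁻¹ := by group
    rwa [← hs, e] at h4
  have h2 : s * x * s⁻¹ ∈ D.borelSubgroup K ⊓ D.negUnipotent K := ⟨h1, S.nJ_conj_pos hi _ (S.xs_mem_UU _ _)⟩
  rw [R.B_inf_V, Subgroup.mem_bot] at h2
  have h3 : x = 1 := by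
    have e : x = s⁻¹ * (s * x * s⁻¹) * s := by group
    rw [e, h2]; group
  have h4 : s = S.xs (D.neg (D.simple i)) (-1) := by
    rw [hs, S.nJ_eq hi, ← hx, h3, one_mul, mul_one]
  have h5 : s * s * s⁻¹ ∈ D.posUnipotent K := by
    have := S.nJ_conj_neg hi _ (S.xs_mem_UU (D.neg (D.simple i)) (-1))
    rwa [← h4, ← hs] at this
  have h6 : s ∈ D.negUnipotent K := by
    rw [h4]
    exact S.blk_neg_simple_le_V hi (S.xs_mem_UU _ _)
  have e : s * s * s⁻¹ = s := by group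
  rw [e] at h5
  have h7 : s ∈ D.borelSubgroup K ⊓ D.negUnipotent K := ⟨R.U_le_B h5, h6⟩
  rw [R.B_inf_V, Subgroup.mem_bot] at h7
  exact S.nJ_ne_one hi h7

/-- the (B, N)-pair of the twisted group -/
def bnPair1 (G2 : Good2 D) [Fintype K] : Cfsg.BNPair ↥S.G1 where
  B := (D.borelSubgroup K ⊓ S.G1).subgroupOf S.G1
  N := (D.monomialSubgroup K ⊓ S.G1).subgroupOf S.G1
  S := {n : ↥S.G1 | (n : GL D.Idx K) ∈ S.refl}
  sup_eq_top := by
    rw [← Subgroup.subgroupOf_sup inf_le_right inf_le_right, S.B1_sup_N1 G2, Subgroup.subgroupOf_self]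
  conj_mem := by
    rintro n hn t ht
    obtain ⟨ht1, ht2⟩ := Subgroup.mem_inf.mp ht
    rw [Subgroup.mem_subgroupOf] at hn ht1 ht2 ⊢
    have h1 : (t : GL D.Idx K) ∈ D.borelSubgroup K ⊓ D.monomialSubgroup K := ⟨ht1.1, ht2.1⟩
    rw [R.B_inf_N G2] at h1
    have := (Subgroup.mem_normalizer_iff.mp (R.N_le_normalizer_H G2 hn.1) _).mp h1
    exact ⟨R.H_le_B this, (n * t * n⁻¹).2⟩
  subset := by
    rintro n ⟨i, hi, hh, hn⟩
    show n ∈ (D.monomialSubgroup K ⊓ S.G1).subgroupOf S.G1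
    rw [Subgroup.mem_subgroupOf]
    exact ⟨hn ▸ S.nw_mem_N _ (O.Js_lt hi), n.2⟩
  sq_mem := by
    rintro n ⟨i, hi, hh, hn⟩
    rw [Subgroup.mem_subgroupOf]
    refine ⟨?_, (n * n).2⟩
    rw [Subgroup.coe_mul, hn]
    exact R.H_le_B (S.nJ_sq hi G2)
  inj := by
    rintro s ⟨i, hi, hhi, hs⟩ s' ⟨j, hj, hhj, hs'⟩ h
    rw [Subgroup.mem_subgroupOf, Subgroup.coe_mul, Subgroup.coe_inv, hs, hs'] at h
    have := S.nJ_inj G2 hi hj hhi hhj h.1
    subst this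
    exact Subtype.ext (hs.trans hs'.symm)
  closure_sup := by
    apply le_antisymm
    · apply sup_le
      · rw [Subgroup.closure_le]
        rintro n ⟨i, hi, hh, hn⟩
        show n ∈ (D.monomialSubgroup K ⊓ S.G1).subgroupOf S.G1
        rw [Subgroup.mem_subgroupOf]
        exact ⟨hn ▸ S.nw_mem_N _ (O.Js_lt hi), n.2⟩
      · exact inf_le_right
    · intro n hn
      rw [Subgroup.mem_subgroupOf] at hn
      set T : Subgroup ↥S.G1 := Subgroup.closure {n : ↥S.G1 | (n : GL D.Idx K) ∈ S.refl} ⊔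
        ((D.borelSubgroup K ⊓ S.G1).subgroupOf S.G1 ⊓ (D.monomialSubgroup K ⊓ S.G1).subgroupOf S.G1) with hT
      have h1 : Subgroup.closure S.refl ⊔ (D.diagonalSubgroup K ⊓ S.G1) ≤ T.map S.G1.subtype := by
        apply sup_le
        · rw [Subgroup.closure_le]
          rintro g ⟨i, hi, hh, rfl⟩
          exact ⟨⟨S.nJ i, S.nJ_mem_G1 hi hh⟩,
            Subgroup.mem_sup_left (Subgroup.subset_closure ⟨i, hi, hh, rfl⟩), rfl⟩
        · intro g hg
          refine ⟨⟨g, hg.2⟩, ?_, rfl⟩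
          exact Subgroup.mem_sup_right ⟨Subgroup.mem_subgroupOf.mpr ⟨R.H_le_B hg.1, hg.2⟩,
            Subgroup.mem_subgroupOf.mpr ⟨R.H_le_N hg.1, hg.2⟩⟩
      obtain ⟨w, hw, hm⟩ := R.N_mono G2 hn.1
      obtain ⟨m, hm', e⟩ := h1 (S.N1_le G2 _ n hn w hw hm rfl)
      have : m = n := Subtype.ext e
      rwa [← this]
  mul_mem_union := by
    rintro s ⟨i, hi, hh, hs⟩ n hn b hb
    rw [Subgroup.mem_subgroupOf] at hn hb
    obtain ⟨b1, hb1, b2, hb2, h⟩ := S.bn_axiom1 G2 hi hh hn hb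
    rcases h with h | h
    · left
      rw [DoubleCoset.mem_doubleCoset]
      refine ⟨⟨b1, hb1.2⟩, Subgroup.mem_subgroupOf.mpr hb1, ⟨b2, hb2.2⟩, Subgroup.mem_subgroupOf.mpr hb2, ?_⟩
      apply Subtype.ext
      simp only [Subgroup.coe_mul, hs]
      exact h
    · right
      rw [DoubleCoset.mem_doubleCoset]
      refine ⟨⟨b1, hb1.2⟩, Subgroup.mem_subgroupOf.mpr hb1, ⟨b2, hb2.2⟩, Subgroup.mem_subgroupOf.mpr hb2, ?_⟩
      apply Subtype.ext
      simp only [Subgroup.coe_mul, hs]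
      exact h
  conj_ne := by
    rintro s ⟨i, hi, hh, hs⟩ heq
    have hxG : S.xs (D.simple i) 1 ∈ S.G1 :=
      Subgroup.subset_closure ⟨i, hi, hh, 1, iterate_map_one _ _, Or.inl rfl⟩
    have hx : (⟨S.xs (D.simple i) 1, hxG⟩ : ↥S.G1) ∈
        ((D.borelSubgroup K ⊓ S.G1).subgroupOf S.G1 : Set ↥S.G1) :=
      Subgroup.mem_subgroupOf.mpr ⟨R.U_le_B (S.blk_simple_le_U hi (S.xs_mem_UU _ _)), hxG⟩
    have h1 : s * ⟨S.xs (D.simple i) 1, hxG⟩ * s ∈ ((D.borelSubgroup K ⊓ S.G1).subgroupOf S.G1 : Set ↥S.G1) := by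
      rw [← heq]; exact ⟨_, hx, rfl⟩
    have h2 := (Subgroup.mem_subgroupOf.mp h1).1
    simp only [Subgroup.coe_mul, hs] at h2
    exact S.nJ_conj_ne G2 hi h2

end TwS

end Cfsg.Agent.Chev
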