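import Cfsg.Agent.Chev.Tw9

/-!
# Twisted groups: the core of the Borel subgroup is trivial
-/

set_option autoImplicit false
set_option linter.unusedSectionVars false
set_option linter.unusedVariables false

namespace Cfsg.Agent.Chev
open Cfsg.Lie
open scoped MatrixGroups

variable {D : ChevalleyDatum} {G : Good D} {K : Type*} [Field K]

/-- a word for the longest element -/
structure TwX (D : ChevalleyDatum) (C : TwC) (w0 : List ℕ) : Prop where
  ok : ∀ i ∈ w0, i < D.rank ∧ D.simple i ∈ C.heads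
  neg : ∀ s < D.nroots, D.nroots / 2 ≤ s → w0.foldr (C.wJ D) s < D.nroots / 2

namespace TwS
variable {C : TwC} {O : TwOK D C} {R : Rels D G K} (S : TwS C O R)
include S

theorem exists_word (L : List ℕ) (hL : ∀ i ∈ L, i < D.rank ∧ D.simple i ∈ C.heads) :
    ∃ n ∈ D.monomialSubgroup K ⊓ S.G1, ∃ w ∈ G.W, R.IsMono n w ∧
      ∀ s : Fin D.nroots, ((w s : Fin D.nroots) : ℕ) = L.foldr (C.wJ D) s := by
  induction L with
  | nil =>
    exact ⟨1, Subgroup.one_mem _, 1, Subgroup.one_mem _, Rels.IsMono.of_tor R (Rels.IsTor.one R), fun s => rfl⟩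
  | cons i L ih =>
    obtain ⟨n, hn, w, hw, hm, e⟩ := ih (fun j hj => hL j (List.mem_cons_of_mem _ hj))
    obtain ⟨hi, hh⟩ := hL i List.mem_cons_self
    refine ⟨S.nJ i * n, Subgroup.mul_mem _ ⟨S.nw_mem_N _ (O.Js_lt hi), S.nJ_mem_G1 hi hh⟩ hn, _,
      Subgroup.mul_mem _ (S.wl_mem _) hw, Rels.IsMono.mul R (S.nJ_mono hi) hm, fun s => ?_⟩
    rw [Equiv.Perm.mul_apply, S.wJ_apply hi, e, List.foldr_cons]

/-- elements all of whose conjugates lie in `B` -/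
def Core (g : GL D.Idx K) : Prop := ∀ x ∈ S.G1, x * g * x⁻¹ ∈ D.borelSubgroup K

theorem Core.conj {g y : GL D.Idx K} (hg : S.Core g) (hy : y ∈ S.G1) : S.Core (y * g * y⁻¹) := by
  intro x hx
  have := hg (x * y) (Subgroup.mul_mem _ hx hy)
  have e : x * (y * g * y⁻¹) * x⁻¹ = x * y * g * (x * y)⁻¹ := by group
  rwa [e]

theorem Core.mem_H (G2 : Good2 D) {w0 : List ℕ} (X : TwX D C w0) {g : GL D.Idx K} (hg : S.Core g) :
    g ∈ D.diagonalSubgroup K := by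
  obtain ⟨n0, hn0, w, hw, hm, e⟩ := S.exists_word w0 X.ok
  have h1 : g ∈ D.borelSubgroup K := by simpa using hg 1 (Subgroup.one_mem _)
  have h2 := hg n0⁻¹ (Subgroup.inv_mem _ hn0.2)
  rw [inv_inv] at h2
  obtain ⟨u, hu, h, hh, e'⟩ := exists_mul_of_mem_sup R.H_le_normalizer_U h2
  have h3 : n0 * u * n0⁻¹ ∈ D.negUnipotent K := by
    apply Rels.IsMono.conj_UU R hm (p := D.IsPosRoot) (fun s hs => ((G.isPosRoot_iff s).mp hs).2) _ u hu
    intro s hs
    rw [G.isNegRoot_iff, e]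
    exact X.neg s s.2 ((G.isPosRoot_iff s).mp hs).1
  have h4 : n0 * h * n0⁻¹ ∈ D.diagonalSubgroup K :=
    (Subgroup.mem_normalizer_iff.mp (R.N_le_normalizer_H G2 hn0.1) _).mp hh
  have h5 : g = (n0 * u * n0⁻¹) * (n0 * h * n0⁻¹) := by
    have : g = n0 * (n0⁻¹ * g * n0) * n0⁻¹ := by group
    rw [this, e']; group
  have h6 : g ∈ D.borelSubgroup K ⊓ (D.negUnipotent K ⊔ D.diagonalSubgroup K) :=
    ⟨h1, h5 ▸ Subgroup.mul_mem _ (Subgroup.mem_sup_left h3) (Subgroup.mem_sup_right h4)⟩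
  rwa [R.B_inf_VH] at h6

theorem Core.comm_U (G2 : Good2 D) {w0 : List ℕ} (X : TwX D C w0) {g u : GL D.Idx K} (hg : S.Core g)
    (hu : u ∈ D.posUnipotent K) (hu1 : u ∈ S.G1) : g * u * g⁻¹ = u := by
  have hH := Core.mem_H S G2 X hg
  have h1 := Core.mem_H S G2 X (Core.conj S hg (Subgroup.inv_mem _ hu1))
  rw [inv_inv] at h1
  have h2 : u⁻¹ * (g * u * g⁻¹) ∈ D.diagonalSubgroup K := by
    have := Subgroup.mul_mem _ h1 (Subgroup.inv_mem _ hH)
    have e : u⁻¹ * g * u * g⁻¹ = u⁻¹ * (g * u * g⁻¹) := by group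
    rwa [e] at this
  have h3 : g * u * g⁻¹ ∈ D.posUnipotent K :=
    (Subgroup.mem_normalizer_iff.mp (R.H_le_normalizer_U hH) _).mp hu
  have h4 : u⁻¹ * (g * u * g⁻¹) ∈ D.posUnipotent K ⊓ D.diagonalSubgroup K :=
    ⟨Subgroup.mul_mem _ (Subgroup.inv_mem _ hu) h3, h2⟩
  rw [R.U_inf_H, Subgroup.mem_bot] at h4
  exact (inv_mul_eq_one.mp h4).symm

theorem prodL_supp {c : ℕ} (hh : c ∈ C.heads) {t : ℕ → K} (ht0 : ∀ r, r ∉ C.blk c → t r = 0) :
    R.prodL t C.L = R.prodL t (C.blk c) := by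
  unfold TwC.L
  rw [S.prodL_flatMap]
  apply prod_map_single O.heads_nodup _ c _ hh
  intro c' hc' hne
  apply R.prodL_eq_one
  intro r hr
  apply ht0
  intro hr'
  exact hne (O.blk_disj hh hc' hr' hr)

theorem conj_prodL {g : GL D.Idx K} {χ : ℕ → K} (h : ∀ r t, g * R.xg r t * g⁻¹ = R.xg r (χ r * t)) (t : ℕ → K)
    (L : List ℕ) : g * R.prodL t L * g⁻¹ = R.prodL (fun r => χ r * t r) L := by
  induction L with
  | nil => simp [Rels.prodL]
  | cons r L ih =>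
    rw [R.prodL_cons, R.prodL_cons, ← ih, ← h]
    group

theorem exists_chi {g : GL D.Idx K} (hg : R.IsTor g) :
    ∃ χ : ℕ → K, ∀ r t, g * R.xg r t * g⁻¹ = R.xg r (χ r * t) := by
  classical
  obtain ⟨χ, c1, c2, c3⟩ := hg
  refine ⟨fun r => if h : r < D.nroots then (χ (Sum.inr ⟨r, h⟩) : K) else 1, fun r t => ?_⟩
  by_cases h : r < D.nroots
  · simp only [dif_pos h]
    rw [c3 ⟨r, h⟩ t]; group
  · rw [R.xg_oor r h, R.xg_oor r h]; group

theorem xg_inj {r : ℕ} (hr : r < D.nroots) {a b : K} (h : R.xg r a = R.xg r b) : a = b := by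
  have h1 : R.xg r (a - b) = 1 := by
    rw [sub_eq_add_neg, ← R.xg_add, ← R.xg_inv, h, mul_inv_cancel]
  rw [R.xg_eq_one_iff hr] at h1
  exact sub_eq_zero.mp h1

theorem Core.base (G2 : Good2 D) [Fintype K] {w0 : List ℕ} (X : TwX D C w0) {g : GL D.Idx K} (hg : S.Core g)
    {i : ℕ} (hi : i < D.rank) (hh : D.simple i ∈ C.heads) :
    ∀ s ∈ C.blk (D.simple i), ∀ t, g * R.xg s t * g⁻¹ = R.xg s t := by
  classical
  set c := D.simple i with hc
  obtain ⟨χ, hχ⟩ := S.exists_chi (R.H_le_Tor (Core.mem_H S G2 X hg))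
  let τ : ℕ → K := fun r => if r ∈ C.blk c then 1 else 0
  have e1 : R.prodL τ C.L = S.xs c 1 := by
    rw [S.prodL_supp hh (fun r hr => if_neg hr)]
    have hτ : ∀ k ∈ List.range (C.e c), τ (C.ρ^[k] c) = 1 := fun k hk =>
      if_pos (O.mem_blk.mpr ⟨k, List.mem_range.mp hk, rfl⟩)
    unfold Rels.prodL TwC.blk xs
    rw [List.map_map]
    congr 1
    apply List.map_congr_left
    intro k hk
    show R.xg (C.ρ^[k] c) (τ (C.ρ^[k] c)) = _
    rw [hτ k hk, iterate_map_one]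
  have hxG : S.xs c 1 ∈ S.G1 := Subgroup.subset_closure ⟨i, hi, hh, 1, iterate_map_one _ _, Or.inl rfl⟩
  have e2 := Core.comm_U S G2 X hg (S.blk_simple_le_U hi (S.xs_mem_UU _ _)) hxG
  rw [← hc, ← e1, S.conj_prodL hχ] at e2
  have e3 := R.prodL_inj G2 S.negHt_addFn C.L O.sc (O.mem_L G) (fun r hr h => absurd (S.negHt_lt hr) h)
    (fun r hr h => absurd (S.negHt_lt hr) h) e2
  intro s hs t
  have e4 := e3 s (O.blk_sub_L hh s hs)
  simp only [τ, if_pos hs, mul_one] at e4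
  rw [hχ, e4, one_mul]

theorem Core.all_aux (G2 : Good2 D) [Fintype K] {w0 : List ℕ} (X : TwX D C w0) :
    ∀ (N r : ℕ), C.dep r < N → r < D.nroots → ∀ g, S.Core g →
      ∀ s ∈ C.blk r, ∀ t, g * R.xg s t * g⁻¹ = R.xg s t := by
  intro N
  induction N with
  | zero => intro r h; omega
  | succ N ih =>
    intro r hN hr g hg s hs t
    rcases O.reach r hr with ⟨hh, i, hi, rfl⟩ | ⟨h1, h2, h3, h4, h5⟩
    · exact Core.base S G2 X hg hi hh s hs t
    · set n := S.nJ (C.par r).1 with hn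
      have hnG := S.nJ_mem_G1 h2 h3
      have hsl := S.blk_lt hr s hs
      obtain ⟨c, hc, e⟩ := (S.nJ_mono h2).conj ⟨s, hsl⟩
      have e1 := ih _ (by omega) h4 _ (Core.conj S hg hnG) _ (h5 s hs) (c * t)
      rw [← S.wJ_apply h2 ⟨s, hsl⟩, ← e t, ← hn] at e1
      have e2 : g * R.xg s t * g⁻¹ = n⁻¹ * (n * g * n⁻¹ * (n * R.xg s t * n⁻¹) * (n * g * n⁻¹)⁻¹) * n := by group
      rw [e2, e1]; group

theorem Core.eq_one (G2 : Good2 D) [Fintype K] {w0 : List ℕ} (X : TwX D C w0) {g : GL D.Idx K} (hg : S.Core g) :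
    g = 1 := by
  obtain ⟨χ, c1, c2, c3⟩ := R.H_le_Tor (Core.mem_H S G2 X hg)
  have hχ : ∀ s : Fin D.nroots, χ (Sum.inr s) = 1 := by
    intro s
    have h1 := Core.all_aux S G2 X _ s (Nat.lt_succ_self _) s.2 g hg s
      (O.mem_blk.mpr ⟨0, O.e_pos _, rfl⟩) 1
    rw [c3 s 1, mul_inv_cancel_right, mul_one] at h1
    exact Units.ext (S.xg_inj s.2 h1)
  apply Units.ext
  rw [c2]
  have : (fun a => ((χ a : Kˣ) : K)) = fun _ => 1 := by
    funext a
    rcases a with i | s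
    · rw [c1]; rfl
    · rw [hχ]; rfl
  rw [this]
  simp

theorem core_trivial (G2 : Good2 D) [Fintype K] {w0 : List ℕ} (X : TwX D C w0) :
    ((D.borelSubgroup K ⊓ S.G1).subgroupOf S.G1).normalCore = ⊥ := by
  rw [eq_bot_iff]
  intro g hg
  rw [Subgroup.mem_bot]
  apply Subtype.ext
  apply Core.eq_one S G2 X
  intro x hx
  have : (⟨x, hx⟩ : ↥S.G1) * g * (⟨x, hx⟩ : ↥S.G1)⁻¹ ∈ (D.borelSubgroup K ⊓ S.G1).subgroupOf S.G1 := hg ⟨x, hx⟩
  rw [Subgroup.mem_subgroupOf] at this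
  exact this.1

end TwS

end Cfsg.Agent.Chev
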