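import Cfsg.Agent.Chev.Tw9
import Cfsg.Agent.Chev.Perf

/-!
# Twisted groups: perfectness
-/

set_option autoImplicit false
set_option linter.unusedSectionVars false
set_option linter.unusedVariables false

namespace Cfsg.Agent.Chev
open Cfsg.Lie
open scoped MatrixGroups

variable {D : ChevalleyDatum} {G : Good D} {K : Type*} [Field K]

/-- table facts for perfectness -/
structure TwP (D : ChevalleyDatum) (C : TwC) (wa wb : ℕ → ℕ) : Prop where
  cart : ∀ i < D.rank, ∀ j ∈ C.Js D i, ∀ m ∈ C.Js D i, D.cartan j (D.simple m) = if j = m then 2 else 0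
  fixsum : ∀ i < D.rank, ∀ c ∈ [D.simple i, D.neg (D.simple i)], C.ρ (D.simple i) ≠ D.simple i ∨
    (wa c < D.nroots ∧ wb c < D.nroots ∧ C.ρ (wa c) = wa c ∧ C.ρ (wb c) = wb c ∧ wb c ≠ wa c ∧
      wb c ≠ D.neg (wa c) ∧
      (D.commTerms (wa c) (wb c) = [(c, 1, 1, 1)] ∨ D.commTerms (wa c) (wb c) = [(c, -1, 1, 1)]))

namespace TwS
variable {C : TwC} {O : TwOK D C} {R : Rels D G K} (S : TwS C O R)
include S

theorem xs_add {c : ℕ} (hc : c < D.nroots) (t u : K) : S.xs c (t + u) = S.xs c t * S.xs c u := by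
  unfold xs
  rw [← prod_map_mul_of_comm]
  · congr 1
    apply List.map_congr_left
    intro k _
    rw [R.xg_add, iterate_map_add]
  · apply List.pairwise_of_forall
    intro j k
    exact S.orbit_comm hc j k _ _

theorem xs_zero (c : ℕ) : S.xs c 0 = 1 := by
  unfold xs
  apply List.prod_eq_one
  intro x hx
  obtain ⟨k, _, rfl⟩ := List.mem_map.mp hx
  rw [iterate_map_zero, R.xg_zero]

theorem xs_inv {c : ℕ} (hc : c < D.nroots) (t : K) : (S.xs c t)⁻¹ = S.xs c (-t) := by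
  apply inv_eq_of_mul_eq_one_right
  rw [← S.xs_add hc, add_neg_cancel, S.xs_zero]

theorem ng_comm {c : ℕ} (hc : c < D.nroots) {j k : ℕ} (h : C.ρ^[j] c ≠ C.ρ^[k] c) (a b : K) :
    Commute (R.ng (C.ρ^[j] c) a) (R.ng (C.ρ^[k] c) b) := by
  rw [R.ng_eq, R.ng_eq]
  have h1 : ∀ t u, Commute (R.xg (C.ρ^[j] c) t) (R.xg (C.ρ^[k] c) u) := fun t u => S.orbit_comm hc j k t u
  have h2 : ∀ t u, Commute (R.xg (C.ρ^[j] c) t) (R.xg (D.neg (C.ρ^[k] c)) u) := fun t u => S.orbit_comm2 hc j k h t u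
  have h3 : ∀ t u, Commute (R.xg (D.neg (C.ρ^[j] c)) t) (R.xg (C.ρ^[k] c) u) :=
    fun t u => (S.orbit_comm2 hc k j h.symm u t).symm
  have h4 : ∀ t u, Commute (R.xg (D.neg (C.ρ^[j] c)) t) (R.xg (D.neg (C.ρ^[k] c)) u) := by
    intro t u
    rw [← O.neg_iter hc, ← O.neg_iter hc]
    exact S.orbit_comm (G.neg_lt hc) j k t u
  exact (((h1 _ _).mul_right (h2 _ _)).mul_right (h1 _ _)).mul_left
    (((h3 _ _).mul_right (h4 _ _)).mul_right (h3 _ _)) |>.mul_left (((h1 _ _).mul_right (h2 _ _)).mul_right (h1 _ _))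

/-- the torus element attached to an orbit -/
def hJ (c : ℕ) (a : K) : GL D.Idx K := ((List.range (C.e c)).map fun k => R.hg (C.ρ^[k] c) (S.φ^[k] a)).prod

theorem hJ_eq {c : ℕ} (hc : c < D.nroots) (a : K) :
    S.hJ c a = (S.xs c a * S.xs (D.neg c) (-a⁻¹) * S.xs c a) * (S.xs c (-1) * S.xs (D.neg c) (-(-1)⁻¹) * S.xs c (-1)) := by
  rw [S.xs_n hc, S.xs_n hc, ← prod_map_mul_of_comm]
  · unfold hJ
    congr 1
    apply List.map_congr_left
    intro k _
    rw [R.hg_eq, iterate_map_neg, iterate_map_one]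
  · apply List.Pairwise.imp_of_mem _ List.pairwise_lt_range
    intro j k hj hk hjk
    exact S.ng_comm hc (O.iter_ne hc (List.mem_range.mp hj) (List.mem_range.mp hk) (Nat.ne_of_lt hjk)) _ _

theorem hJ_mem_G1 {i : ℕ} (hi : i < D.rank) (hh : D.simple i ∈ C.heads) {a : K}
    (ha : S.φ^[C.e (D.simple i)] a = a) : S.hJ (D.simple i) a ∈ S.G1 := by
  rw [S.hJ_eq (G.simple_lt i hi)]
  have key : ∀ b : K, S.φ^[C.e (D.simple i)] b = b →
      S.xs (D.simple i) b * S.xs (D.neg (D.simple i)) (-b⁻¹) * S.xs (D.simple i) b ∈ S.G1 := by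
    intro b hb
    have h1 : S.xs (D.simple i) b ∈ S.G1 := Subgroup.subset_closure ⟨i, hi, hh, b, hb, Or.inl rfl⟩
    have h2 : S.xs (D.neg (D.simple i)) (-b⁻¹) ∈ S.G1 :=
      Subgroup.subset_closure ⟨i, hi, hh, -b⁻¹, by
        rw [← RingHom.coe_pow, map_neg, map_inv₀, RingHom.coe_pow, hb], Or.inr rfl⟩
    exact Subgroup.mul_mem _ (Subgroup.mul_mem _ h1 h2) h1
  exact Subgroup.mul_mem _ (key a ha) (key (-1) (by rw [iterate_map_neg, iterate_map_one]))

theorem tor_list_conj (Lk : List ℕ) (r : ℕ → ℕ) (a : ℕ → K) (hr : ∀ k ∈ Lk, r k < D.nroots) (ha : ∀ k ∈ Lk, a k ≠ 0)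
    {s : ℕ} (hs : s < D.nroots) (t : K) :
    (Lk.map fun k => R.hg (r k) (a k)).prod * R.xg s t * ((Lk.map fun k => R.hg (r k) (a k)).prod)⁻¹ =
      R.xg s ((Lk.map fun k => a k ^ pairing D (r k) s).prod * t) := by
  induction Lk with
  | nil => simp
  | cons k Lk ih =>
    simp only [List.map_cons, List.prod_cons]
    have h1 := ih (fun j hj => hr j (List.mem_cons_of_mem _ hj)) (fun j hj => ha j (List.mem_cons_of_mem _ hj))
    set T := (Lk.map fun k => R.hg (r k) (a k)).prod with hT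
    calc R.hg (r k) (a k) * T * R.xg s t * (R.hg (r k) (a k) * T)⁻¹
        = R.hg (r k) (a k) * (T * R.xg s t * T⁻¹) * (R.hg (r k) (a k))⁻¹ := by group
      _ = _ := by
        rw [h1, R.hg_conj (hr k List.mem_cons_self) hs (ha k List.mem_cons_self), mul_assoc]

/-- the action of the torus element on the fixed elements of the orbit -/
theorem hJ_conj_xs {wa wb : ℕ → ℕ} (P : TwP D C wa wb) {i : ℕ} (hi : i < D.rank) {a : K} (ha : a ≠ 0) (t : K)
    {c : ℕ} {z : ℤ} (hcz : (c = D.simple i ∧ z = 2) ∨ (c = D.neg (D.simple i) ∧ z = -2)) :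
    S.hJ (D.simple i) a * S.xs c t * (S.hJ (D.simple i) a)⁻¹ = S.xs c (a ^ z * t) := by
  set c0 := D.simple i with hc0
  have hc0l : c0 < D.nroots := G.simple_lt i hi
  have hcl : c < D.nroots := by
    rcases hcz with ⟨rfl, _⟩ | ⟨rfl, _⟩
    · exact hc0l
    · exact G.neg_lt hc0l
  have he : C.e c = C.e c0 := by
    rcases hcz with ⟨rfl, _⟩ | ⟨rfl, _⟩
    · rfl
    · exact O.e_neg G hc0l
  have hJmem : ∀ k < C.e c0, C.π^[k] i ∈ C.Js D i := by
    intro k hk
    unfold TwC.Js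
    exact List.mem_map.mpr ⟨k, List.mem_range.mpr hk, rfl⟩
  have hpair : ∀ k < C.e c0, ∀ m < C.e c0, pairing D (C.ρ^[k] c0) (C.ρ^[m] c) = if k = m then z else 0 := by
    intro k hk m hm
    have h1 := P.cart i hi _ (hJmem k hk) _ (hJmem m hm)
    have hinj : (C.π^[k] i = C.π^[m] i) ↔ k = m := by
      constructor
      · intro e
        by_contra hne
        apply O.iter_ne hc0l hk hm hne
        rw [(O.simple_iter hi k).2, (O.simple_iter hi m).2, e]
      · intro e; rw [e]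
    rw [(O.simple_iter hi k).2, G.pairing_simple _ (O.simple_iter hi k).1]
    rcases hcz with ⟨rfl, rfl⟩ | ⟨rfl, rfl⟩
    · rw [(O.simple_iter hi m).2, h1]
      simp only [hinj]
    · rw [O.neg_iter hc0l, (O.simple_iter hi m).2,
        (G.cartan_addFn _ (O.simple_iter hi k).1).neg _ (G.simple_lt _ (O.simple_iter hi m).1), h1]
      simp only [hinj]
      split_ifs <;> simp
  have hφ0 : ∀ k, S.φ^[k] a ≠ 0 := by
    intro k
    rw [← RingHom.coe_pow]
    exact (map_ne_zero _).mpr ha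
  have h1 : S.hJ c0 a * S.xs c t * (S.hJ c0 a)⁻¹ = MulAut.conj (S.hJ c0 a) (S.xs c t) := rfl
  rw [h1]
  unfold xs
  rw [map_list_prod, List.map_map, he]
  congr 1
  apply List.map_congr_left
  intro m hm
  rw [List.mem_range] at hm
  simp only [Function.comp, MulAut.conj_apply]
  unfold hJ
  rw [S.tor_list_conj _ _ _ (fun k _ => O.iter_lt hc0l k) (fun k _ => hφ0 k) (O.iter_lt hcl m)]
  congr 1
  have h2 : ((List.range (C.e c0)).map fun k => S.φ^[k] a ^ pairing D (C.ρ^[k] c0) (C.ρ^[m] c)).prod =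
      S.φ^[m] a ^ pairing D (C.ρ^[m] c0) (C.ρ^[m] c) := by
    apply prod_map_single List.nodup_range _ m _ (List.mem_range.mpr hm)
    intro k hk hkm
    rw [hpair k (List.mem_range.mp hk) m hm, if_neg hkm, zpow_zero]
  rw [h2, hpair m hm m hm, if_pos rfl, ← RingHom.coe_pow, map_mul, map_zpow₀]

theorem xs_mem_comm_big {wa wb : ℕ → ℕ} (P : TwP D C wa wb) {i : ℕ} (hi : i < D.rank) (hh : D.simple i ∈ C.heads)
    {a : K} (ha : a ≠ 0) (ha2 : a ^ 2 ≠ 1) (hfix : ∀ x : K, S.φ^[C.e (D.simple i)] x = x) (v : K)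
    {c : ℕ} (hc : c = D.simple i ∨ c = D.neg (D.simple i)) : S.xs c v ∈ ⁅S.G1, S.G1⁆ := by
  obtain ⟨z, hcz, hz⟩ : ∃ z : ℤ, ((c = D.simple i ∧ z = 2) ∨ (c = D.neg (D.simple i) ∧ z = -2)) ∧ a ^ z ≠ 1 := by
    rcases hc with rfl | rfl
    · exact ⟨2, Or.inl ⟨rfl, rfl⟩, by exact_mod_cast ha2⟩
    · refine ⟨-2, Or.inr ⟨rfl, rfl⟩, ?_⟩
      rw [zpow_neg]
      intro h
      apply ha2
      have := inv_eq_one.mp h
      exact_mod_cast this
  have hcl : c < D.nroots := by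
    rcases hc with rfl | rfl
    · exact G.simple_lt i hi
    · exact G.neg_lt (G.simple_lt i hi)
  have h2 : a ^ z - 1 ≠ 0 := sub_ne_zero.mpr hz
  have hx : S.xs c (v / (a ^ z - 1)) ∈ S.G1 := by
    rcases hc with rfl | rfl
    · exact Subgroup.subset_closure ⟨i, hi, hh, _, hfix _, Or.inl rfl⟩
    · exact Subgroup.subset_closure ⟨i, hi, hh, _, hfix _, Or.inr rfl⟩
  have h3 := Subgroup.commutator_mem_commutator (S.hJ_mem_G1 hi hh (hfix a)) hx
  rw [commutatorElement_def, S.hJ_conj_xs P hi ha _ hcz, S.xs_inv hcl, ← S.xs_add hcl] at h3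
  have h4 : a ^ z * (v / (a ^ z - 1)) + -(v / (a ^ z - 1)) = v := by
    field_simp
    ring
  rwa [h4] at h3

theorem eps_fixed {a : ℕ} (ha : a < D.nroots) (hρ : C.ρ a = a) : C.ε a = 1 := by
  have h := O.sg_e a ha
  have he : C.e a = 1 := if_pos hρ
  rw [he] at h
  simpa [TwC.sg] using h

theorem xg_fixed_mem (G2 : Good2 D) [Fintype K] {a : ℕ} (ha : a < D.nroots) (hρ : C.ρ a = a) {t : K}
    (ht : S.φ t = t) : R.xg a t ∈ S.G1 := by
  apply S.E_le G2 ha
  constructor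
  · exact R.xg_mem_UU (p := fun s => s ∈ C.blk a) (O.mem_blk.mpr ⟨0, O.e_pos a, rfl⟩) t
  · show R.xg a t ∈ S.Γ
    rw [S.mem_Γ, S.sig_xg a ha, hρ, S.eps_fixed ha hρ, ht, Int.cast_one, one_mul]

theorem xg_mem_comm_fixed (G2 : Good2 D) [Fintype K] {r s v : ℕ} {c : ℤ} (hr : r < D.nroots) (hs : s < D.nroots)
    (h1 : s ≠ r) (h2 : s ≠ D.neg r) (hc : c = 1 ∨ c = -1) (ht : D.commTerms r s = [(v, c, 1, 1)])
    (hρr : C.ρ r = r) (hρs : C.ρ s = s) {w : K} (hw : S.φ w = w) : R.xg v w ∈ ⁅S.G1, S.G1⁆ := by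
  have hc0 : (c : K) ≠ 0 := by rcases hc with rfl | rfl <;> simp
  have hwc : S.φ (w / c) = w / c := by rw [map_div₀, hw, map_intCast]
  have h3 := R.comm_g hr hs h1 h2 (-1) (w / c)
  have h4 : R.wg (D.commWord K r s (-1) (w / c)) = R.xg v w := by
    unfold ChevalleyDatum.commWord
    rw [ht]
    simp only [Rels.wg, List.map_cons, List.map_nil, List.prod_cons, List.prod_nil, mul_one]
    congr 1
    field_simp
  rw [h4] at h3
  have h5 := Subgroup.commutator_mem_commutator (Subgroup.inv_mem _ (S.xg_fixed_mem G2 hs hρs hwc))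
    (Subgroup.inv_mem _ (S.xg_fixed_mem G2 hr hρr (t := -1) (by rw [map_neg, map_one])))
  rw [commutatorElement_def, inv_inv, inv_inv] at h5
  have h6 : (R.xg s (w / c))⁻¹ * (R.xg r (-1))⁻¹ * R.xg s (w / c) * R.xg r (-1) = R.xg v w := by
    calc _ = (R.xg s (w / c))⁻¹ * ((R.xg r (-1))⁻¹ * R.xg s (w / c) * R.xg r (-1)) := by group
      _ = _ := by rw [h3]; group
  rwa [h6] at h5

theorem xs_of_fixed {c : ℕ} (h : C.ρ c = c) (t : K) : S.xs c t = R.xg c t := by
  have he : C.e c = 1 := if_pos h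
  unfold xs; rw [he]; simp [List.range_succ]

theorem perfect (G2 : Good2 D) [Fintype K] {wa wb : ℕ → ℕ} (P : TwP D C wa wb)
    (hbig : ∃ a : K, a ≠ 0 ∧ a ^ 2 ≠ 1) : commutator ↥S.G1 = ⊤ := by
  obtain ⟨a, ha, ha2⟩ := hbig
  have h1 : S.G1 ≤ ⁅S.G1, S.G1⁆ := by
    conv_lhs => unfold G1
    rw [Subgroup.closure_le]
    rintro g ⟨i, hi, hh, t, ht, hg⟩
    have hsl := G.simple_lt i hi
    by_cases hρ : C.ρ (D.simple i) = D.simple i
    · have he : C.e (D.simple i) = 1 := if_pos hρ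
      rw [he, Function.iterate_one] at ht
      have hρ' : C.ρ (D.neg (D.simple i)) = D.neg (D.simple i) := by rw [O.rho_neg _ hsl, hρ]
      have key : ∀ c ∈ [D.simple i, D.neg (D.simple i)], R.xg c t ∈ ⁅S.G1, S.G1⁆ := by
        intro c hc
        obtain ⟨h1, h2, h3, h4, h5, h6, h7⟩ := (P.fixsum i hi c hc).resolve_left (fun h => h hρ)
        rcases h7 with h7 | h7
        · exact S.xg_mem_comm_fixed G2 h1 h2 h5 h6 (Or.inl rfl) h7 h3 h4 ht
        · exact S.xg_mem_comm_fixed G2 h1 h2 h5 h6 (Or.inr rfl) h7 h3 h4 ht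
      rcases hg with rfl | rfl
      · show S.xs (D.simple i) t ∈ _
        rw [S.xs_of_fixed hρ]; exact key _ (by simp)
      · show S.xs (D.neg (D.simple i)) t ∈ _
        rw [S.xs_of_fixed hρ']; exact key _ (by simp)
    · have he : C.e (D.simple i) = C.d := if_neg hρ
      have hfix : ∀ x : K, S.φ^[C.e (D.simple i)] x = x := by rw [he]; exact S.phi_pow
      rcases hg with rfl | rfl
      · exact S.xs_mem_comm_big P hi hh ha ha2 hfix t (Or.inl rfl)
      · exact S.xs_mem_comm_big P hi hh ha ha2 hfix t (Or.inr rfl)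
  apply Subgroup.map_injective S.G1.subtype_injective
  rw [commutator_def, Subgroup.map_commutator, ← MonoidHom.range_eq_map, Subgroup.range_subtype]
  refine le_antisymm ?_ h1
  rw [Subgroup.commutator_le]
  intro a ha b hb
  rw [commutatorElement_def]
  exact Subgroup.mul_mem _ (Subgroup.mul_mem _ (Subgroup.mul_mem _ ha hb) (Subgroup.inv_mem _ ha)) (Subgroup.inv_mem _ hb)

end TwS

end Cfsg.Agent.Chev
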