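import Cfsg.Agent.Chev.Tw1

/-!
# Twisted groups: coordinates of the fixed points of unipotent groups, and their number
-/

set_option autoImplicit false
set_option linter.unusedSectionVars false
set_option linter.unusedVariables false

namespace Cfsg.Agent.Chev
open Cfsg.Lie
open scoped MatrixGroups

variable {D : ChevalleyDatum} {G : Good D} {K : Type*} [Field K]

namespace TwS
variable {C : TwC} {O : TwOK D C} {R : Rels D G K} (S : TwS C O R)
include S

theorem rho_mem_L {r : ℕ} (hr : r ∈ C.L) : C.ρ r ∈ C.L := by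
  rw [O.mem_L G] at hr ⊢
  exact ⟨O.rho_pos r hr.2 hr.1, O.rho_lt r hr.2⟩

theorem iter_mem_L {r : ℕ} (hr : r ∈ C.L) (k : ℕ) : C.ρ^[k] r ∈ C.L := by
  rw [O.mem_L G] at hr ⊢
  exact ⟨O.iter_pos hr.2 hr.1 k, O.iter_lt hr.2 k⟩

/-- the twisted condition on coordinates -/
def TC (t : ℕ → K) : Prop := ∀ r ∈ C.L, t (C.ρ r) = (C.ε r : K) * S.φ (t r)

theorem TC_iff (t : ℕ → K) : S.TC t ↔ ∀ r ∈ C.L, S.tw t r = t r := by
  constructor
  · intro h r hr
    have h1 := S.iter_mem_L hr (C.d - 1)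
    have h2 := h _ h1
    rw [O.rho_inv ((O.mem_L G r).mp hr).2] at h2
    rw [h2]; rfl
  · intro h r hr
    rw [← h _ (S.rho_mem_L hr), S.tw_rho t ((O.mem_L G r).mp hr).2]

theorem iter_stable {f : ℕ → ℤ} (hfρ : ∀ r ∈ C.L, (f (C.ρ r) < 0 ↔ f r < 0)) {r : ℕ} (hr : r ∈ C.L) (k : ℕ) :
    f (C.ρ^[k] r) < 0 ↔ f r < 0 := by
  induction k with
  | zero => rfl
  | succ k ih => rw [Function.iterate_succ_apply', hfρ _ (S.iter_mem_L hr k), ih]

theorem fixed_iff (G2 : Good2 D) [Fintype K] {f : ℕ → ℤ} (hf : AddFn D f)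
    (hfρ : ∀ r ∈ C.L, (f (C.ρ r) < 0 ↔ f r < 0)) {t : ℕ → K} (ht : ∀ r ∈ C.L, ¬ f r < 0 → t r = 0) :
    R.prodL t C.L ∈ S.Γ ↔ S.TC t := by
  rw [S.mem_Γ, S.sig_prodL, S.TC_iff]
  constructor
  · intro e
    apply R.prodL_inj G2 hf C.L O.sc (O.mem_L G) _ ht e
    intro r hr hfr
    have h1 := S.iter_mem_L hr (C.d - 1)
    have h2 : ¬ f (C.ρ^[C.d - 1] r) < 0 := by rwa [S.iter_stable hfρ hr]
    unfold tw
    rw [ht _ h1 h2, map_zero, mul_zero]
  · intro h
    exact R.prodL_congr h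

/-- spreading values at the heads along the orbits -/
def sp (a : ℕ → K) : ℕ → K := fun r => (C.sg (C.rep r) (C.kk r) : K) * S.φ^[C.kk r] (a (C.rep r))

theorem sp_iter (a : ℕ → K) {c : ℕ} (hc : c ∈ C.heads) {k : ℕ} (hk : k < C.e c) :
    S.sp a (C.ρ^[k] c) = (C.sg c k : K) * S.φ^[k] (a c) := by
  unfold sp
  rw [(O.rep_kk c hc k hk).1, (O.rep_kk c hc k hk).2]

theorem sp_head (a : ℕ → K) {c : ℕ} (hc : c ∈ C.heads) : S.sp a c = a c := by
  have := S.sp_iter a hc (O.e_pos c)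
  simpa [TwC.sg] using this

theorem TC_iter {t : ℕ → K} (ht : S.TC t) {c : ℕ} (hc : c ∈ C.L) (k : ℕ) :
    t (C.ρ^[k] c) = (C.sg c k : K) * S.φ^[k] (t c) := by
  induction k with
  | zero => simp [TwC.sg]
  | succ k ih =>
    rw [Function.iterate_succ_apply', ht _ (S.iter_mem_L hc k), ih, map_mul, map_intCast,
      Function.iterate_succ_apply']
    simp only [TwC.sg]
    push_cast
    ring

theorem TC_head {t : ℕ → K} (ht : S.TC t) {c : ℕ} (hc : c ∈ C.L) : S.φ^[C.e c] (t c) = t c := by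
  have h := S.TC_iter ht hc (C.e c)
  have hlt := ((O.mem_L G c).mp hc).2
  rw [O.e_pow hlt, O.sg_e c hlt] at h
  simpa using h.symm

theorem TC_eq_sp {t : ℕ → K} (ht : S.TC t) : ∀ r ∈ C.L, t r = S.sp t r := by
  intro r hr
  obtain ⟨c, hc, k, hk, rfl⟩ := (O.mem_L_iff r).mp hr
  rw [S.sp_iter t hc hk, S.TC_iter ht (O.head_mem G hc)]

theorem TC_sp {a : ℕ → K} (ha : ∀ c ∈ C.heads, S.φ^[C.e c] (a c) = a c) : S.TC (S.sp a) := by
  intro r hr
  obtain ⟨c, hc, k, hk, rfl⟩ := (O.mem_L_iff r).mp hr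
  have hlt := ((O.mem_L G c).mp (O.head_mem G hc)).2
  rw [S.sp_iter a hc hk, map_mul, map_intCast, ← Function.iterate_succ_apply' C.ρ,
    ← Function.iterate_succ_apply' S.φ]
  rcases Nat.lt_or_ge (k + 1) (C.e c) with h | h
  · rw [S.sp_iter a hc h]
    simp only [TwC.sg]
    push_cast
    ring
  · have he : k.succ = C.e c := by omega
    rw [he, O.e_pow hlt, S.sp_head a hc, ha c hc]
    have h1 := O.sg_e c hlt
    rw [← he] at h1
    simp only [TwC.sg] at h1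
    have h2 : ((C.ε (C.ρ^[k] c) : K)) * (C.sg c k : K) = 1 := by
      rw [← Int.cast_mul, h1, Int.cast_one]
    rw [← mul_assoc, h2, one_mul]

theorem card_fix_e (c : ℕ) : Nat.card {x : K // S.φ^[C.e c] x = x} = S.q ^ C.e c := by
  unfold TwC.e
  split_ifs
  · rw [pow_one]
    exact S.card_fix
  · rw [← S.card_K]
    exact Nat.card_congr (Equiv.subtypeUnivEquiv S.phi_pow)

end TwS

end Cfsg.Agent.Chev
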