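import Cfsg.Agent.Chev.Tw2

/-!
# Twisted groups: the number of fixed points of a unipotent group
-/

set_option autoImplicit false
set_option linter.unusedSectionVars false
set_option linter.unusedVariables false

namespace Cfsg.Agent.Chev
open Cfsg.Lie
open scoped MatrixGroups

variable {D : ChevalleyDatum} {G : Good D} {K : Type*} [Field K]

namespace TwS
variable {C : TwC} {O : TwOK D C} {R : Rels D G K} (S : TwS C O R)
include S

theorem cnt_eq {f : ℕ → ℤ} (hfρ : ∀ r ∈ C.L, (f (C.ρ r) < 0 ↔ f r < 0)) :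
    G.cnt (fun r => f r) = (C.heads.map fun c => if f c < 0 then C.e c else 0).sum := by
  classical
  have h1 : G.cnt (fun r => f r) = C.L.countP (fun r => decide (f r < 0)) := by
    unfold Good.cnt
    rw [← Finset.card_map Fin.valEmbedding, List.countP_eq_length_filter,
      ← List.toFinset_card_of_nodup (O.nodup_L.filter _)]
    congr 1
    ext r
    simp only [Finset.mem_map, Finset.mem_filter, G.mem_posF, Fin.valEmbedding_apply, List.mem_toFinset,
      List.mem_filter, decide_eq_true_eq, O.mem_L G]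
    constructor
    · rintro ⟨a, ⟨h1, h2⟩, rfl⟩
      exact ⟨⟨h1, a.2⟩, h2⟩
    · rintro ⟨⟨h1, h2⟩, h3⟩
      exact ⟨⟨r, h2⟩, ⟨h1, h3⟩, rfl⟩
  rw [h1]
  unfold TwC.L
  rw [List.countP_flatMap]
  congr 1
  apply List.map_congr_left
  intro c hc
  have hcL := O.head_mem G hc
  simp only [Function.comp]
  split_ifs with h
  · have : (C.blk c).countP (fun r => decide (f r < 0)) = (C.blk c).length := by
      rw [List.countP_eq_length]
      intro r hr
      unfold TwC.blk at hr
      rw [List.mem_map] at hr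
      obtain ⟨k, _, rfl⟩ := hr
      rw [decide_eq_true_eq, S.iter_stable hfρ hcL]
      exact h
    rw [this]
    simp [TwC.blk]
  · rw [List.countP_eq_zero]
    intro r hr
    unfold TwC.blk at hr
    rw [List.mem_map] at hr
    obtain ⟨k, _, rfl⟩ := hr
    rw [decide_eq_true_eq, S.iter_stable hfρ hcL]
    exact h

theorem card_fixed (G2 : Good2 D) [Fintype K] {f : ℕ → ℤ} (hf : AddFn D f)
    (hfρ : ∀ r ∈ C.L, (f (C.ρ r) < 0 ↔ f r < 0)) :
    Nat.card ↥(UU D K (geN D f (D.nroots / 2)) ⊓ S.Γ) = S.q ^ G.cnt (fun r => f r) := by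
  classical
  let Pc : ↥C.heads.toFinset → Type _ :=
    fun c => {x : K // (f c < 0 → S.φ^[C.e c] x = x) ∧ (¬ f c < 0 → x = 0)}
  let ext : (∀ c, Pc c) → ℕ → K := fun a r => if h : r ∈ C.heads.toFinset then (a ⟨r, h⟩).1 else 0
  have hext : ∀ (a : ∀ c, Pc c) (c : ℕ) (hc : c ∈ C.heads), ext a c = (a ⟨c, List.mem_toFinset.mpr hc⟩).1 := by
    intro a c hc
    simp only [ext]
    rw [dif_pos (List.mem_toFinset.mpr hc)]
  have hfix : ∀ (a : ∀ c, Pc c), ∀ c ∈ C.heads, S.φ^[C.e c] (ext a c) = ext a c := by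
    intro a c hc
    rw [hext a c hc]
    by_cases h : f c < 0
    · exact (a ⟨c, _⟩).2.1 h
    · rw [(a ⟨c, _⟩).2.2 h, iterate_map_zero]
  have hUU : UU D K (geN D f (D.nroots / 2)) = UU D K (fun s => s ∈ C.L ∧ f s < 0) := by
    apply UU_congr
    intro s
    rw [O.mem_L G]
    unfold geN
    tauto
  have hsupp : ∀ (a : ∀ c, Pc c), ∀ r ∈ C.L, ¬ f r < 0 → S.sp (ext a) r = 0 := by
    intro a r hr hfr
    obtain ⟨c, hc, k, hk, rfl⟩ := (O.mem_L_iff r).mp hr
    rw [S.iter_stable hfρ (O.head_mem G hc)] at hfr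
    rw [S.sp_iter _ hc hk, hext a c hc, (a ⟨c, _⟩).2.2 hfr, iterate_map_zero, mul_zero]
  let Θ : (∀ c, Pc c) → ↥(UU D K (geN D f (D.nroots / 2)) ⊓ S.Γ) := fun a =>
    ⟨R.prodL (S.sp (ext a)) C.L, by
      constructor
      · rw [hUU]
        apply R.prodL_mem
        intro r hr
        by_cases h : f r < 0
        · exact Or.inl ⟨hr, h⟩
        · exact Or.inr (hsupp a r hr h)
      · exact (S.fixed_iff G2 hf hfρ (hsupp a)).mpr (S.TC_sp (hfix a))⟩
  have hbij : Function.Bijective Θ := by
    constructor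
    · intro a a' e
      have e1 : R.prodL (S.sp (ext a)) C.L = R.prodL (S.sp (ext a')) C.L := congrArg Subtype.val e
      have e2 := R.prodL_inj G2 hf C.L O.sc (O.mem_L G) (hsupp a) (hsupp a') e1
      funext ⟨c, hc⟩
      have hc' := List.mem_toFinset.mp hc
      have e3 := e2 c (O.head_mem G hc')
      rw [S.sp_head _ hc', S.sp_head _ hc', hext a c hc', hext a' c hc'] at e3
      exact Subtype.ext e3
    · rintro ⟨u, hu1, hu2⟩
      rw [hUU] at hu1
      obtain ⟨t, ht, rfl⟩ := R.exists_prodL hf C.L O.sc (fun r hr => (O.mem_L G r).mp hr) u hu1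
      have hTC := (S.fixed_iff G2 hf hfρ (fun r _ h => ht r h)).mp hu2
      refine ⟨fun c => ⟨t c, fun _ => S.TC_head hTC (O.head_mem G (List.mem_toFinset.mp c.2)), fun h => ht _ h⟩, ?_⟩
      apply Subtype.ext
      show R.prodL _ C.L = R.prodL t C.L
      apply R.prodL_congr
      intro r hr
      rw [S.TC_eq_sp hTC r hr]
      obtain ⟨c, hc, k, hk, rfl⟩ := (O.mem_L_iff r).mp hr
      rw [S.sp_iter _ hc hk, S.sp_iter _ hc hk]
      congr 2
      simp only [ext]
      rw [dif_pos (List.mem_toFinset.mpr hc)]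
  rw [← Nat.card_congr (Equiv.ofBijective Θ hbij), Nat.card_pi]
  have hPc : ∀ c : ↥C.heads.toFinset, Nat.card (Pc c) = S.q ^ (if f c < 0 then C.e c else 0) := by
    intro c
    split_ifs with h
    · rw [← S.card_fix_e]
      apply Nat.card_congr
      apply Equiv.subtypeEquivRight
      intro x
      constructor
      · intro hx; exact hx.1 h
      · intro hx; exact ⟨fun _ => hx, fun h' => absurd h h'⟩
    · rw [pow_zero]
      have : Pc c ≃ {x : K // x = 0} := by
        apply Equiv.subtypeEquivRight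
        intro x
        constructor
        · intro hx; exact hx.2 h
        · intro hx; exact ⟨fun h' => absurd h' h, fun _ => hx⟩
      rw [Nat.card_congr this]
      simp
  rw [Finset.prod_congr rfl (fun c _ => hPc c), Finset.prod_pow_eq_pow_sum, S.cnt_eq hfρ]
  congr 1
  rw [Finset.sum_coe_sort C.heads.toFinset (fun c => if f c < 0 then C.e c else 0),
    List.sum_toFinset _ O.heads_nodup]

end TwS

end Cfsg.Agent.Chev
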