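import Cfsg.Agent.Chev.Tw3
import Cfsg.Agent.Chev.Bruhat

/-!
# Twisted groups: the twisted group, and the fixed points of `U` lie in it
-/

set_option autoImplicit false
set_option linter.unusedSectionVars false
set_option linter.unusedVariables false

namespace Cfsg.Agent.Chev
open Cfsg.Lie
open scoped MatrixGroups

theorem prod_map_mul_of_comm {M ι : Type*} [Monoid M] (L : List ι) (f g : ι → M)
    (h : L.Pairwise fun i j => Commute (g i) (f j)) :
    (L.map fun i => f i * g i).prod = (L.map f).prod * (L.map g).prod := by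
  induction L with
  | nil => simp
  | cons a L ih =>
    rw [List.pairwise_cons] at h
    simp only [List.map_cons, List.prod_cons]
    rw [ih h.2]
    have : Commute (g a) (L.map f).prod := Commute.list_prod_right _ _ (by
      intro x hx
      obtain ⟨j, hj, rfl⟩ := List.mem_map.mp hx
      exact h.1 j hj)
    calc f a * g a * ((L.map f).prod * (L.map g).prod) = f a * (g a * (L.map f).prod) * (L.map g).prod := by
          simp only [mul_assoc]
      _ = f a * ((L.map f).prod * g a) * (L.map g).prod := by rw [this.eq]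
      _ = _ := by simp only [mul_assoc]

theorem prod_map_single {M : Type*} [Monoid M] {H : List ℕ} (hH : H.Nodup) (f : ℕ → M) (c : ℕ)
    (h : ∀ c' ∈ H, c' ≠ c → f c' = 1) (hc : c ∈ H) : (H.map f).prod = f c := by
  induction H with
  | nil => simp at hc
  | cons a H ih =>
    rw [List.nodup_cons] at hH
    rw [List.map_cons, List.prod_cons]
    by_cases hac : a = c
    · subst hac
      have : (H.map f).prod = 1 := by
        apply List.prod_eq_one
        intro x hx
        obtain ⟨j, hj, rfl⟩ := List.mem_map.mp hx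
        exact h j (List.mem_cons_of_mem _ hj) (fun e => hH.1 (e ▸ hj))
      rw [this, mul_one]
    · rw [h a List.mem_cons_self hac, one_mul]
      apply ih hH.2 (fun c' hc' => h c' (List.mem_cons_of_mem _ hc'))
      rcases List.mem_cons.mp hc with e | e
      · exact absurd e.symm hac
      · exact e

variable {D : ChevalleyDatum} {G : Good D} {K : Type*} [Field K]

namespace TwOK
variable {C : TwC} (O : TwOK D C)
include O

theorem simple_iter {i : ℕ} (hi : i < D.rank) (k : ℕ) :
    C.π^[k] i < D.rank ∧ C.ρ^[k] (D.simple i) = D.simple (C.π^[k] i) := by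
  induction k with
  | zero => exact ⟨hi, rfl⟩
  | succ k ih =>
    rw [Function.iterate_succ_apply', Function.iterate_succ_apply', ih.2]
    exact ⟨(O.simple _ ih.1).1, (O.simple _ ih.1).2.1⟩

theorem neg_iter {r : ℕ} (hr : r < D.nroots) (k : ℕ) : C.ρ^[k] (D.neg r) = D.neg (C.ρ^[k] r) := by
  induction k with
  | zero => rfl
  | succ k ih =>
    rw [Function.iterate_succ_apply', Function.iterate_succ_apply', ih, O.rho_neg _ (O.iter_lt hr k)]

theorem e_neg (G : Good D) {r : ℕ} (hr : r < D.nroots) : C.e (D.neg r) = C.e r := by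
  unfold TwC.e
  rw [O.rho_neg r hr]
  by_cases h : C.ρ r = r
  · rw [if_pos h, if_pos (by rw [h])]
  · rw [if_neg h, if_neg]
    intro e
    apply h
    have := congrArg D.neg e
    rwa [G.neg_neg (O.rho_lt r hr), G.neg_neg hr] at this

theorem sg_simple {i : ℕ} (hi : i < D.rank) (k : ℕ) : C.sg (D.simple i) k = 1 := by
  induction k with
  | zero => rfl
  | succ k ih =>
    simp only [TwC.sg]
    rw [ih, (O.simple_iter hi k).2, (O.simple _ (O.simple_iter hi k).1).2.2.1, mul_one]

theorem iter_mod {s : ℕ} (hs : s < D.nroots) (m : ℕ) : C.ρ^[m] s = C.ρ^[m % C.d] s := by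
  conv_lhs => rw [← Nat.div_add_mod m C.d, Nat.add_comm, Function.iterate_add_apply]
  congr 1
  generalize m / C.d = a
  induction a with
  | zero => rfl
  | succ a ih =>
    rw [Nat.mul_succ, Function.iterate_add_apply, O.rho_pow s hs, ih]

theorem iter_ne {c : ℕ} (hc : c < D.nroots) {j k : ℕ} (hj : j < C.e c) (hk : k < C.e c) (hjk : j ≠ k) :
    C.ρ^[j] c ≠ C.ρ^[k] c := by
  intro e
  have := O.blk_nodup c hc
  unfold TwC.blk at this
  exact hjk (List.inj_on_of_nodup_map this (List.mem_range.mpr hj) (List.mem_range.mpr hk) e)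

theorem Js_lt {i : ℕ} (hi : i < D.rank) : ∀ j ∈ C.Js D i, j < D.rank := by
  intro j hj
  unfold TwC.Js at hj
  rw [List.mem_map] at hj
  obtain ⟨k, _, rfl⟩ := hj
  exact (O.simple_iter hi k).1

end TwOK

namespace TwS
variable {C : TwC} {O : TwOK D C} {R : Rels D G K} (S : TwS C O R)
include S

theorem eps_cases {r : ℕ} (hr : r < D.nroots) : (C.ε r : K) = 1 ∨ (C.ε r : K) = -1 := by
  rcases O.eps r hr with h | h <;> rw [h] <;> simp

theorem sig_ng {r : ℕ} (hr : r < D.nroots) (t : K) :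
    S.sig (R.ng r t) = R.ng (C.ρ r) ((C.ε r : K) * S.φ t) := by
  rw [R.ng_eq, R.ng_eq, map_mul, map_mul, S.sig_xg r hr, S.sig_xg _ (G.neg_lt hr), O.rho_neg r hr, O.eps_neg r hr]
  congr 3
  rcases S.eps_cases hr with h | h <;> rw [h] <;> simp [map_neg, map_inv₀, inv_neg]

theorem sig_UU {p q : ℕ → Prop} (h : ∀ s, p s → s < D.nroots ∧ q (C.ρ s)) : ∀ u ∈ UU D K p, S.sig u ∈ UU D K q := by
  have : UU D K p ≤ (UU D K q).comap S.sig := by
    apply R.UU_le
    intro s hs u
    rw [Subgroup.mem_comap, S.sig_xg s (h s hs).1]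
    exact R.xg_mem_UU (h s hs).2 _
  exact fun u hu => this hu

theorem sig_U : ∀ u ∈ D.posUnipotent K, S.sig u ∈ D.posUnipotent K := by
  apply S.sig_UU
  intro s hs
  rw [G.isPosRoot_iff] at hs ⊢
  exact ⟨hs.2, O.rho_pos s hs.2 hs.1, O.rho_lt s hs.2⟩

theorem sig_H : ∀ h ∈ D.diagonalSubgroup K, S.sig h ∈ D.diagonalSubgroup K := by
  have : D.diagonalSubgroup K ≤ (D.diagonalSubgroup K).comap S.sig := by
    unfold ChevalleyDatum.diagonalSubgroup
    rw [Subgroup.closure_le]
    rintro g ⟨r, t, hr, ht, hg⟩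
    have hg' : g = R.hg r t := (R.eq_wg_iff _ _).mp hg
    show S.sig g ∈ D.diagonalSubgroup K
    have hρ := O.rho_lt r hr
    have hφ : S.φ t ≠ 0 := (map_ne_zero S.φ).mpr ht
    rw [hg', R.hg_eq, map_mul, S.sig_ng hr, S.sig_ng hr, map_neg, map_one]
    rcases S.eps_cases hr with h | h
    · rw [h, one_mul, one_mul, ← R.hg_eq]
      exact R.hg_mem_H hρ hφ
    · rw [h]
      have e : R.ng (C.ρ r) (-1 * S.φ t) * R.ng (C.ρ r) (-1 * -1) =
          R.hg (C.ρ r) (-S.φ t) * (R.ng (C.ρ r) 1 * R.ng (C.ρ r) 1) := by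
        rw [R.hg_eq]
        have := R.ng_mul_neg (C.ρ r) (-1)
        rw [neg_neg] at this
        rw [show (-1 : K) * -1 = 1 by ring, show (-1 : K) * S.φ t = - S.φ t by ring]
        calc R.ng (C.ρ r) (-S.φ t) * R.ng (C.ρ r) 1
            = R.ng (C.ρ r) (-S.φ t) * (R.ng (C.ρ r) (-1) * R.ng (C.ρ r) 1) * R.ng (C.ρ r) 1 := by
              rw [this, mul_one]
          _ = _ := by simp only [mul_assoc]
      rw [e]
      exact Subgroup.mul_mem _ (R.hg_mem_H hρ (neg_ne_zero.mpr hφ)) (R.ng_sq_mem_H hρ)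
  exact fun u hu => this hu

theorem sig_N : ∀ n ∈ D.monomialSubgroup K, S.sig n ∈ D.monomialSubgroup K := by
  have : D.monomialSubgroup K ≤ (D.monomialSubgroup K).comap S.sig := by
    unfold ChevalleyDatum.monomialSubgroup
    apply sup_le
    · intro h hh
      exact R.H_le_N (S.sig_H h hh)
    · rw [Subgroup.closure_le]
      rintro g ⟨r, hr, hg⟩
      have hg' : g = R.ng r 1 := (R.eq_wg_iff _ _).mp hg
      show S.sig g ∈ D.monomialSubgroup K
      have hρ := O.rho_lt r hr
      rw [hg', S.sig_ng hr, map_one, mul_one]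
      rcases S.eps_cases hr with h | h
      · rw [h]; exact R.ng_mem_N hρ
      · rw [h, ← R.ng_inv]; exact Subgroup.inv_mem _ (R.ng_mem_N hρ)
  exact fun u hu => this hu

theorem sig_B : ∀ b ∈ D.borelSubgroup K, S.sig b ∈ D.borelSubgroup K := by
  have : D.borelSubgroup K ≤ (D.borelSubgroup K).comap S.sig := by
    unfold ChevalleyDatum.borelSubgroup
    apply sup_le
    · intro h hh
      exact R.U_le_B (S.sig_U h hh)
    · intro h hh
      exact R.H_le_B (S.sig_H h hh)
  exact fun u hu => this hu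

theorem orbit_comm2 {r : ℕ} (hr : r < D.nroots) (j k : ℕ) (h : C.ρ^[j] r ≠ C.ρ^[k] r) (t u : K) :
    Commute (R.xg (C.ρ^[j] r) t) (R.xg (D.neg (C.ρ^[k] r)) u) := by
  have key : ∀ (s : ℕ), s < D.nroots → ∀ (m : ℕ), C.ρ^[m] s ≠ s → ∀ (t u : K),
      Commute (R.xg s t) (R.xg (D.neg (C.ρ^[m] s)) u) := by
    intro s hs m hm t u
    rw [O.iter_mod hs m] at hm ⊢
    have hlt := O.iter_lt hs (m % C.d)
    obtain ⟨h1, h2⟩ := O.comm s hs _ (Nat.mod_lt _ O.d_pos) hm
    have h3 := O.comm2 s hs _ (Nat.mod_lt _ O.d_pos) hm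
    apply R.xg_comm_of_terms hs (G.neg_lt hlt) _ _ h3
    · intro e
      apply h2
      have := congrArg D.neg e
      rwa [G.neg_neg hlt] at this
    · intro e
      apply hm
      have := congrArg D.neg e
      rwa [G.neg_neg hlt, G.neg_neg hs] at this
  rcases Nat.le_total j k with h' | h'
  · obtain ⟨m, rfl⟩ := Nat.exists_eq_add_of_le h'
    rw [Nat.add_comm, Function.iterate_add_apply] at h ⊢
    exact key _ (O.iter_lt hr j) m (fun e => h e.symm) t u
  · obtain ⟨m, rfl⟩ := Nat.exists_eq_add_of_le h'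
    rw [Nat.add_comm k m, Function.iterate_add_apply] at h ⊢
    have hs := O.iter_lt hr k
    have h1 := key _ (G.neg_lt hs) m (by
      rw [O.neg_iter hs]
      intro e
      apply h
      have := congrArg D.neg e
      rwa [G.neg_neg (O.iter_lt hs m), G.neg_neg hs] at this) u t
    rw [O.neg_iter hs, G.neg_neg (O.iter_lt hs m)] at h1
    exact h1.symm

/-- the fixed elements attached to an orbit of roots on which all signs are `1` -/
def xs (c : ℕ) (t : K) : GL D.Idx K := ((List.range (C.e c)).map fun k => R.xg (C.ρ^[k] c) (S.φ^[k] t)).prod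

theorem xs_mem_UU (c : ℕ) (t : K) : S.xs c t ∈ UU D K (fun s => s ∈ C.blk c) := by
  apply Subgroup.list_prod_mem
  intro x hx
  rw [List.mem_map] at hx
  obtain ⟨k, hk, rfl⟩ := hx
  apply R.xg_mem_UU
  unfold TwC.blk
  exact List.mem_map.mpr ⟨k, hk, rfl⟩

theorem xs_mem_Γ {c : ℕ} (hc : c < D.nroots) (hε : ∀ k, C.ε (C.ρ^[k] c) = 1) {t : K} (ht : S.φ^[C.e c] t = t) :
    S.xs c t ∈ S.Γ := by
  rw [S.mem_Γ]
  let f : ℕ → GL D.Idx K := fun k => R.xg (C.ρ^[k] c) (S.φ^[k] t)
  have h1 : S.sig (S.xs c t) = ((List.range (C.e c)).map fun k => f k.succ).prod := by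
    unfold xs
    rw [map_list_prod, List.map_map]
    congr 1
    apply List.map_congr_left
    intro k _
    simp only [Function.comp, f]
    rw [S.sig_xg _ (O.iter_lt hc k), hε k, Int.cast_one, one_mul, Function.iterate_succ_apply',
      Function.iterate_succ_apply']
  have h2 := List.prod_range_succ f (C.e c)
  have h3 := List.prod_range_succ' f (C.e c)
  have h4 : f (C.e c) = f 0 := by
    simp only [f]
    rw [O.e_pow hc, ht]; rfl
  have h5 : Commute (f 0) ((List.range (C.e c)).map f).prod := by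
    apply Commute.list_prod_right
    intro x hx
    obtain ⟨k, _, rfl⟩ := List.mem_map.mp hx
    exact S.orbit_comm hc 0 k _ _
  rw [h3, h4, ← h5.eq] at h2
  rw [h1]
  exact mul_left_cancel h2

theorem eps_simple_iter {i : ℕ} (hi : i < D.rank) (k : ℕ) : C.ε (C.ρ^[k] (D.simple i)) = 1 := by
  rw [(O.simple_iter hi k).2]
  exact (O.simple _ (O.simple_iter hi k).1).2.2.1

theorem eps_neg_simple_iter {i : ℕ} (hi : i < D.rank) (k : ℕ) : C.ε (C.ρ^[k] (D.neg (D.simple i))) = 1 := by
  rw [O.neg_iter (G.simple_lt i hi), (O.simple_iter hi k).2]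
  exact (O.simple _ (O.simple_iter hi k).1).2.2.2

/-- the generators of the twisted group -/
def gens : Set (GL D.Idx K) := {g | ∃ i < D.rank, D.simple i ∈ C.heads ∧ ∃ t, S.φ^[C.e (D.simple i)] t = t ∧
  (g = S.xs (D.simple i) t ∨ g = S.xs (D.neg (D.simple i)) t)}

/-- the twisted group -/
def G1 : Subgroup (GL D.Idx K) := Subgroup.closure S.gens

theorem G1_le_Γ : S.G1 ≤ S.Γ := by
  unfold G1
  rw [Subgroup.closure_le]
  rintro g ⟨i, hi, _, t, ht, rfl | rfl⟩
  · exact S.xs_mem_Γ (G.simple_lt i hi) (S.eps_simple_iter hi) ht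
  · exact S.xs_mem_Γ (G.neg_lt (G.simple_lt i hi)) (S.eps_neg_simple_iter hi)
      (by rw [O.e_neg G (G.simple_lt i hi)]; exact ht)

theorem xs_n {c : ℕ} (hc : c < D.nroots) (t : K) :
    S.xs c t * S.xs (D.neg c) (-t⁻¹) * S.xs c t =
      ((List.range (C.e c)).map fun k => R.ng (C.ρ^[k] c) (S.φ^[k] t)).prod := by
  let a : ℕ → GL D.Idx K := fun k => R.xg (C.ρ^[k] c) (S.φ^[k] t)
  let b : ℕ → GL D.Idx K := fun k => R.xg (D.neg (C.ρ^[k] c)) (-(S.φ^[k] t)⁻¹)
  have hb : S.xs (D.neg c) (-t⁻¹) = ((List.range (C.e c)).map b).prod := by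
    unfold xs
    rw [O.e_neg G hc]
    congr 1
    apply List.map_congr_left
    intro k _
    simp only [b]
    rw [O.neg_iter hc, ← RingHom.coe_pow, map_neg, map_inv₀]
  have hpw : (List.range (C.e c)).Pairwise fun j k => j < C.e c ∧ k < C.e c ∧ j ≠ k := by
    apply List.Pairwise.imp_of_mem _ List.pairwise_lt_range
    intro j k hj hk hjk
    exact ⟨List.mem_range.mp hj, List.mem_range.mp hk, Nat.ne_of_lt hjk⟩
  have h1 : ((List.range (C.e c)).map fun k => a k * b k * a k).prod =
      ((List.range (C.e c)).map fun k => a k * b k).prod * ((List.range (C.e c)).map a).prod := by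
    apply prod_map_mul_of_comm
    apply hpw.imp
    rintro j k ⟨hj, hk, hjk⟩
    exact (S.orbit_comm hc j k _ _).mul_right (S.orbit_comm2 hc j k (O.iter_ne hc hj hk hjk) _ _)
  have h2 : ((List.range (C.e c)).map fun k => a k * b k).prod =
      ((List.range (C.e c)).map a).prod * ((List.range (C.e c)).map b).prod := by
    apply prod_map_mul_of_comm
    apply hpw.imp
    rintro j k ⟨hj, hk, hjk⟩
    exact (S.orbit_comm2 hc k j (O.iter_ne hc hk hj hjk.symm) _ _).symm
  rw [hb]
  show ((List.range (C.e c)).map a).prod * _ * ((List.range (C.e c)).map a).prod = _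
  rw [← h2, ← h1]
  congr 1
  apply List.map_congr_left
  intro k _
  rw [R.ng_eq]

omit S in
/-- words in the `n_i` -/
def nw (_S : TwS C O R) (L : List ℕ) : GL D.Idx K := (L.map fun j => R.ng (D.simple j) 1).prod

omit S in
/-- the corresponding elements of the Weyl group -/
def wl (_S : TwS C O R) (L : List ℕ) : Equiv.Perm (Fin D.nroots) :=
  (L.map fun j => if h : j < D.rank then G.wP j h else 1).prod

theorem nw_mono (L : List ℕ) (hL : ∀ j ∈ L, j < D.rank) : R.IsMono (S.nw L) (S.wl L) := by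
  induction L with
  | nil => exact Rels.IsMono.of_tor R (Rels.IsTor.one R)
  | cons j L ih =>
    unfold nw wl
    rw [List.map_cons, List.prod_cons, List.map_cons, List.prod_cons, dif_pos (hL j List.mem_cons_self)]
    exact Rels.IsMono.mul R (Rels.IsMono.ni R _) (ih (fun k hk => hL k (List.mem_cons_of_mem _ hk)))

theorem wl_mem (L : List ℕ) : S.wl L ∈ G.W := by
  apply Subgroup.list_prod_mem
  intro x hx
  obtain ⟨j, _, rfl⟩ := List.mem_map.mp hx
  split_ifs with h
  · exact G.wP_mem j h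
  · exact Subgroup.one_mem _

theorem nw_mem_N (L : List ℕ) (hL : ∀ j ∈ L, j < D.rank) : S.nw L ∈ D.monomialSubgroup K := by
  apply Subgroup.list_prod_mem
  intro x hx
  obtain ⟨j, hj, rfl⟩ := List.mem_map.mp hx
  exact R.ng_mem_N (G.simple_lt j (hL j hj))

theorem wl_cons (j : ℕ) (hj : j < D.rank) (L : List ℕ) : S.wl (j :: L) = G.wP j hj * S.wl L := by
  unfold wl
  rw [List.map_cons, List.prod_cons, dif_pos hj]

theorem wl_apply (L : List ℕ) (hL : ∀ j ∈ L, j < D.rank) (s : Fin D.nroots) :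
    ((S.wl L s : Fin D.nroots) : ℕ) = L.foldr D.reflectRoot s := by
  induction L with
  | nil => rfl
  | cons j L ih =>
    rw [S.wl_cons j (hL j List.mem_cons_self), Equiv.Perm.mul_apply, G.wP_apply, List.foldr_cons,
      ih (fun k hk => hL k (List.mem_cons_of_mem _ hk))]

/-- the representative of the reflection attached to an orbit of fundamental roots -/
def nJ (i : ℕ) : GL D.Idx K := S.nw (C.Js D i)

theorem nJ_eq {i : ℕ} (hi : i < D.rank) :
    S.nJ i = S.xs (D.simple i) 1 * S.xs (D.neg (D.simple i)) (-1) * S.xs (D.simple i) 1 := by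
  have := S.xs_n (G.simple_lt i hi) 1
  rw [inv_one] at this
  rw [this]
  unfold nJ nw TwC.Js
  rw [List.map_map]
  congr 1
  apply List.map_congr_left
  intro k _
  simp only [Function.comp]
  rw [(O.simple_iter hi k).2, iterate_map_one]

theorem nJ_mem_G1 {i : ℕ} (hi : i < D.rank) (hh : D.simple i ∈ C.heads) : S.nJ i ∈ S.G1 := by
  rw [S.nJ_eq hi]
  have h1 : S.xs (D.simple i) 1 ∈ S.G1 :=
    Subgroup.subset_closure ⟨i, hi, hh, 1, iterate_map_one _ _, Or.inl rfl⟩
  have h2 : S.xs (D.neg (D.simple i)) (-1) ∈ S.G1 :=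
    Subgroup.subset_closure ⟨i, hi, hh, -1, by rw [iterate_map_neg, iterate_map_one], Or.inr rfl⟩
  exact Subgroup.mul_mem _ (Subgroup.mul_mem _ h1 h2) h1

theorem nJ_mono {i : ℕ} (hi : i < D.rank) : R.IsMono (S.nJ i) (S.wl (C.Js D i)) := S.nw_mono _ (O.Js_lt hi)

theorem wJ_apply {i : ℕ} (hi : i < D.rank) (s : Fin D.nroots) :
    ((S.wl (C.Js D i) s : Fin D.nroots) : ℕ) = C.wJ D i s := S.wl_apply _ (O.Js_lt hi) s

/-- the fixed points of the group generated by the root subgroups of an orbit -/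
def E (r : ℕ) : Subgroup (GL D.Idx K) := UU D K (fun s => s ∈ C.blk r) ⊓ S.Γ

theorem E_le_of {r r' i : ℕ} (hi : i < D.rank) (hh : D.simple i ∈ C.heads) (hr : r < D.nroots)
    (hw : ∀ s ∈ C.blk r, C.wJ D i s ∈ C.blk r') (h : S.E r' ≤ S.G1) : S.E r ≤ S.G1 := by
  rintro u ⟨hu1, hu2⟩
  have hn := S.nJ_mem_G1 hi hh
  have h1 : S.nJ i * u * (S.nJ i)⁻¹ ∈ S.E r' := by
    constructor
    · apply Rels.IsMono.conj_UU R (S.nJ_mono hi) (p := fun s => s ∈ C.blk r) (S.blk_lt hr) _ u hu1
      intro s hs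
      rw [S.wJ_apply hi]
      exact hw s hs
    · exact Subgroup.mul_mem _ (Subgroup.mul_mem _ (S.G1_le_Γ hn) hu2) (Subgroup.inv_mem _ (S.G1_le_Γ hn))
  have h2 := Subgroup.mul_mem _ (Subgroup.mul_mem _ (Subgroup.inv_mem _ hn) (h h1)) hn
  have e : (S.nJ i)⁻¹ * (S.nJ i * u * (S.nJ i)⁻¹) * S.nJ i = u := by group
  rwa [e] at h2

theorem negHt_addFn : AddFn D (fun r => - G.ht r) where
  neg := fun r hr => by rw [G.ht_addFn.neg r hr]
  ent := fun r hr s hs k e he => by
    have := G.ht_addFn.ent r hr s hs k e he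
    rw [this]; ring

end TwS

end Cfsg.Agent.Chev
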