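import Cfsg.Agent.Chev.Tw4

/-!
# Twisted groups: the fixed points of `U` lie in the twisted group
-/

set_option autoImplicit false
set_option linter.unusedSectionVars false
set_option linter.unusedVariables false

namespace Cfsg.Agent.Chev
open Cfsg.Lie
open scoped MatrixGroups

variable {D : ChevalleyDatum} {G : Good D} {K : Type*} [Field K]

namespace TwOK
variable {C : TwC} (O : TwOK D C)
include O

theorem mem_blk {c r : ℕ} : r ∈ C.blk c ↔ ∃ k < C.e c, r = C.ρ^[k] c := by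
  unfold TwC.blk
  simp only [List.mem_map, List.mem_range]
  constructor
  · rintro ⟨k, hk, rfl⟩; exact ⟨k, hk, rfl⟩
  · rintro ⟨k, hk, rfl⟩; exact ⟨k, hk, rfl⟩

theorem exists_iter {c r s : ℕ} (hc : c < D.nroots) (hr : r ∈ C.blk c) (hs : s ∈ C.blk c) :
    ∃ m < C.d, s = C.ρ^[m] r := by
  obtain ⟨j, hj, rfl⟩ := O.mem_blk.mp hr
  obtain ⟨k, hk, rfl⟩ := O.mem_blk.mp hs
  refine ⟨(k + (C.d - j)) % C.d, Nat.mod_lt _ O.d_pos, ?_⟩
  rw [← O.iter_mod (O.iter_lt hc j), ← Function.iterate_add_apply]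
  have := O.e_le c
  rw [show k + (C.d - j) + j = k + C.d by omega, Function.iterate_add_apply, O.rho_pow c hc]

theorem comm_blk {c r s : ℕ} (hc : c < D.nroots) (hr : r ∈ C.blk c) (hs : s ∈ C.blk c) (hne : s ≠ r) :
    D.commTerms r s = [] := by
  obtain ⟨m, hm, rfl⟩ := O.exists_iter hc hr hs
  obtain ⟨j, hj, rfl⟩ := O.mem_blk.mp hr
  exact (O.comm _ (O.iter_lt hc j) m hm hne).1

theorem blk_sub_L {c : ℕ} (hc : c ∈ C.heads) : ∀ r ∈ C.blk c, r ∈ C.L := by
  intro r hr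
  obtain ⟨k, hk, rfl⟩ := O.mem_blk.mp hr
  exact (O.mem_L_iff _).mpr ⟨c, hc, k, hk, rfl⟩

theorem blk_disj {c c' r : ℕ} (hc : c ∈ C.heads) (hc' : c' ∈ C.heads) (hr : r ∈ C.blk c) (hr' : r ∈ C.blk c') :
    c' = c := by
  obtain ⟨k, hk, rfl⟩ := O.mem_blk.mp hr
  obtain ⟨k', hk', e⟩ := O.mem_blk.mp hr'
  have h1 := (O.rep_kk c hc k hk).1
  have h2 := (O.rep_kk c' hc' k' hk').1
  rw [← e, h1] at h2
  exact h2.symm

end TwOK

namespace Rels
variable (R : Rels D G K)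
include R
theorem prodL_eq_one {t : ℕ → K} {L : List ℕ} (h : ∀ r ∈ L, t r = 0) : R.prodL t L = 1 := by
  apply List.prod_eq_one
  intro x hx
  obtain ⟨r, hr, rfl⟩ := List.mem_map.mp hx
  rw [h r hr, R.xg_zero]
end Rels

namespace TwS
variable {C : TwC} {O : TwOK D C} {R : Rels D G K} (S : TwS C O R)
include S

theorem negHt_lt {r : ℕ} (hr : r ∈ C.L) : - G.ht r < 0 := by
  have h := (O.mem_L G r).mp hr
  have := (G.ht_pos_iff h.2).mpr h.1
  omega

theorem negHt_rho : ∀ r ∈ C.L, (- G.ht (C.ρ r) < 0 ↔ - G.ht r < 0) := by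
  intro r hr
  exact ⟨fun _ => S.negHt_lt hr, fun _ => S.negHt_lt (S.rho_mem_L hr)⟩

theorem fixed_iff' (G2 : Good2 D) [Fintype K] (t : ℕ → K) : R.prodL t C.L ∈ S.Γ ↔ S.TC t :=
  S.fixed_iff G2 S.negHt_addFn S.negHt_rho (fun r hr h => absurd (S.negHt_lt hr) h)

theorem E_simple (G2 : Good2 D) [Fintype K] {i : ℕ} (hi : i < D.rank) (hh : D.simple i ∈ C.heads) :
    S.E (D.simple i) ≤ S.G1 := by
  rintro u ⟨hu1, hu2⟩
  set c := D.simple i with hc
  have hcl : c < D.nroots := G.simple_lt i hi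
  have hUU : UU D K (fun s => s ∈ C.blk c) = UU D K (fun s => s ∈ C.L ∧ s ∈ C.blk c) := by
    apply UU_congr
    intro s
    exact ⟨fun h => ⟨O.blk_sub_L hh s h, h⟩, fun h => h.2⟩
  rw [hUU] at hu1
  obtain ⟨t, ht0, rfl⟩ := R.exists_prodP (fun s => s ∈ C.blk c) (by
    intro r s _ _ hr hs hne x hx
    rw [O.comm_blk hcl hr hs hne] at hx
    simp at hx) C.L O.sc (fun r hr => (O.mem_L G r).mp hr) u hu1
  have hTC := (S.fixed_iff' G2 t).mp hu2
  have e1 : R.prodL t C.L = R.prodL t (C.blk c) := by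
    unfold TwC.L
    rw [S.prodL_flatMap]
    apply prod_map_single O.heads_nodup _ c _ hh
    intro c' hc' hne
    apply R.prodL_eq_one
    intro r hr
    apply ht0
    intro hr'
    exact hne (O.blk_disj hh hc' hr' hr)
  have e2 : R.prodL t (C.blk c) = S.xs c (t c) := by
    unfold Rels.prodL TwC.blk xs
    rw [List.map_map]
    congr 1
    apply List.map_congr_left
    intro k _
    simp only [Function.comp]
    rw [S.TC_iter hTC (O.head_mem G hh), hc, O.sg_simple hi, Int.cast_one, one_mul]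
  rw [e1, e2]
  exact Subgroup.subset_closure ⟨i, hi, hh, t c, S.TC_head hTC (O.head_mem G hh), Or.inl rfl⟩

theorem E_le_aux (G2 : Good2 D) [Fintype K] : ∀ (N r : ℕ), C.dep r < N → r < D.nroots → S.E r ≤ S.G1 := by
  intro N
  induction N with
  | zero => intro r h; omega
  | succ N ih =>
    intro r hN hr
    rcases O.reach r hr with ⟨hh, i, hi, rfl⟩ | ⟨h1, h2, h3, h4, h5⟩
    · exact S.E_simple G2 hi hh
    · exact S.E_le_of h2 h3 hr h5 (ih _ (by omega) h4)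

theorem E_le (G2 : Good2 D) [Fintype K] {r : ℕ} (hr : r < D.nroots) : S.E r ≤ S.G1 :=
  S.E_le_aux G2 _ r (Nat.lt_succ_self _) hr

theorem U_eq_UU : D.posUnipotent K = UU D K (fun s => s ∈ C.L ∧ - G.ht s < 0) := by
  rw [← UU_pos]
  apply UU_congr
  intro s
  rw [G.isPosRoot_iff, ← O.mem_L G]
  exact ⟨fun h => ⟨h, S.negHt_lt h⟩, fun h => h.1⟩

theorem U_fixed_le (G2 : Good2 D) [Fintype K] : D.posUnipotent K ⊓ S.Γ ≤ S.G1 := by
  rintro u ⟨hu1, hu2⟩
  rw [S.U_eq_UU] at hu1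
  obtain ⟨t, _, rfl⟩ := R.exists_prodL S.negHt_addFn C.L O.sc (fun r hr => (O.mem_L G r).mp hr) u hu1
  have hTC := (S.TC_iff t).mp ((S.fixed_iff' G2 t).mp hu2)
  unfold TwC.L
  rw [S.prodL_flatMap]
  apply Subgroup.list_prod_mem
  intro x hx
  obtain ⟨c, hc, rfl⟩ := List.mem_map.mp hx
  have hcl := ((O.mem_L G c).mp (O.head_mem G hc)).2
  apply S.E_le G2 hcl
  constructor
  · exact R.prodL_mem t _ (fun r hr => Or.inl hr)
  · show R.prodL t (C.blk c) ∈ S.Γ
    rw [S.mem_Γ, S.sig_prodL_blk t hcl]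
    apply R.prodL_congr
    intro r hr
    exact hTC r (O.blk_sub_L hc r hr)

theorem U_inf_G1 (G2 : Good2 D) [Fintype K] : D.posUnipotent K ⊓ S.G1 = D.posUnipotent K ⊓ S.Γ :=
  le_antisymm (inf_le_inf_left _ S.G1_le_Γ) (le_inf inf_le_left (S.U_fixed_le G2))

theorem card_U1 (G2 : Good2 D) [Fintype K] : Nat.card ↥(D.posUnipotent K ⊓ S.G1) = S.q ^ (D.nroots / 2) := by
  have hU : UU D K (geN D (fun r => - G.ht r) (D.nroots / 2)) = D.posUnipotent K := by
    rw [S.U_eq_UU]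
    apply UU_congr
    intro s
    rw [O.mem_L G]
    unfold geN
    tauto
  have h1 := R.card_UU_f G2 S.negHt_addFn
  rw [hU, R.card_U G2] at h1
  have h2 : D.nroots / 2 = G.cnt (fun r => - G.ht r) :=
    Nat.pow_right_injective Fintype.one_lt_card h1
  have h3 := S.card_fixed G2 S.negHt_addFn S.negHt_rho
  rw [hU, ← h2] at h3
  rw [S.U_inf_G1 G2, h3]

end TwS

end Cfsg.Agent.Chev
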