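import Cfsg.Agent.Chev.Tw5
import Cfsg.Agent.Chev.Graph2

/-!
# Twisted groups: construction of the twisting endomorphism
-/

set_option autoImplicit false
set_option linter.unusedSectionVars false
set_option linter.unusedVariables false

namespace Cfsg.Agent.Chev
open Cfsg.Lie
open scoped MatrixGroups

section field
variable {K : Type*} [Field K]

theorem xMat_map (D : ChevalleyDatum) (φ : K →+* K) (r : Fin D.nroots) (t : K) :
    (D.xMat K r t).map φ = D.xMat K r (φ t) := by
  ext row col
  simp only [Matrix.map_apply, ChevalleyDatum.xMat, Matrix.of_apply]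
  rcases col with i | s
  · rcases row with i' | u
    · simp only; split_ifs <;> simp
    · simp only; split_ifs <;> simp
  · simp only
    split_ifs with h1 h2
    · rcases row with i' | u
      · simp
      · simp only; split_ifs <;> simp
    · rcases row with i' | u
      · simp
      · simp only; split_ifs <;> simp
    · rcases row with i' | u
      · simp
      · simp only [map_add, map_list_sum, List.map_map]
        congr 1
        · split_ifs <;> simp
        · congr 1
          apply List.map_congr_left
          intro km _
          simp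

theorem exists_frob [Fintype K] {q d : ℕ} (hq : IsPrimePow q) (hd : 0 < d) (hK : Fintype.card K = q ^ d) :
    ∃ φ : K →+* K, ∀ a, φ a = a ^ q := by
  obtain ⟨p, k, hp, hk, rfl⟩ := hq
  have hp' := hp.nat_prime
  obtain ⟨p', hchar⟩ := CharP.exists K
  obtain ⟨n, hp'', hc⟩ := FiniteField.card K p'
  have : p' = p := by
    have h1 : p' ∣ (p ^ k) ^ d := by rw [← hK, hc]; exact dvd_pow_self _ n.ne_zero
    exact (Nat.prime_dvd_prime_iff_eq hp'' hp').mp (hp''.dvd_of_dvd_pow (hp''.dvd_of_dvd_pow h1))
  subst this
  have : Fact p'.Prime := ⟨hp''⟩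
  exact ⟨iterateFrobenius K p' k, fun a => iterateFrobenius_def p' k a⟩

theorem card_units_pow_eq_one [Fintype K] (m : ℕ) :
    Nat.card {u : Kˣ // u ^ m = 1} = (Fintype.card K - 1).gcd m := by
  have h := IsCyclic.card_powMonoidHom_ker Kˣ m
  rw [Nat.card_units, Nat.card_eq_fintype_card (α := K)] at h
  rw [← h]
  exact Nat.card_congr (Equiv.subtypeEquivRight (fun u => by rw [MonoidHom.mem_ker]; rfl))

theorem card_pow_fix [Fintype K] {q d : ℕ} (hq : 0 < q) (hK : Fintype.card K = q ^ d) :
    Nat.card {x : K // x ^ q = x} = q := by
  classical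
  have h1 := card_units_pow_eq_one (K := K) (q - 1)
  have hdvd : q - 1 ∣ q ^ d - 1 := by
    have := Nat.sub_dvd_pow_sub_pow q 1 d
    rwa [one_pow] at this
  rw [hK, Nat.gcd_eq_right hdvd] at h1
  let e : {x : K // x ^ q = x} ≃ Option {u : Kˣ // u ^ (q - 1) = 1} :=
    { toFun := fun x => if h : x.1 = 0 then none else some ⟨Units.mk0 x.1 h, by
        apply Units.ext
        rw [Units.val_pow_eq_pow_val, Units.val_mk0, Units.val_one]
        have h2 := x.2
        have h3 : x.1 ^ (q - 1) * x.1 = 1 * x.1 := by
          rw [← pow_succ, Nat.sub_add_cancel hq, h2, one_mul]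
        exact mul_right_cancel₀ h h3⟩
      invFun := fun o => match o with
        | none => ⟨0, zero_pow (by omega)⟩
        | some u => ⟨u.1.1, by
          have h2 := congrArg Units.val u.2
          rw [Units.val_pow_eq_pow_val, Units.val_one] at h2
          have h3 : (u.1.1 : K) ^ q = u.1.1 ^ (q - 1) * u.1.1 := by
            rw [← pow_succ, Nat.sub_add_cancel hq]
          rw [h3, h2, one_mul]⟩
      left_inv := fun x => by
        by_cases h : x.1 = 0
        · simp only [dif_pos h]
          exact Subtype.ext h.symm
        · simp only [dif_neg h]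
          rfl
      right_inv := fun o => by
        rcases o with _ | u
        · simp
        · have : (u.1 : K) ≠ 0 := u.1.ne_zero
          simp only [dif_neg this]
          congr 1
          apply Subtype.ext
          apply Units.ext
          rfl }
  rw [Nat.card_congr e, Finite.card_option, h1]
  omega

end field

variable {D : ChevalleyDatum} {G : Good D} {K : Type*} [Field K]

namespace Rels
variable (R : Rels D G K)
include R

theorem frob_xg (φ : K →+* K) (r : ℕ) (t : K) :
    Matrix.GeneralLinearGroup.map φ (R.xg r t) = R.xg r (φ t) := by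
  apply Units.ext
  show (D.x K r t).map φ = D.x K r (φ t)
  unfold ChevalleyDatum.x
  split_ifs with h
  · exact xMat_map D φ ⟨r, h⟩ t
  · ext i j
    rw [Matrix.map_apply, Matrix.one_apply]
    split_ifs <;> simp

theorem frob_mono (φ : K →+* K) (hφ : Function.Surjective φ) {n : GL D.Idx K} {w : Equiv.Perm (Fin D.nroots)}
    (h : R.IsMono n w) : R.IsMono (Matrix.GeneralLinearGroup.map φ n) w where
  m1 := by
    constructor
    · intro s row hrow
      rw [Matrix.GeneralLinearGroup.map_apply, h.m1.1 s row hrow, map_zero]
    · intro s j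
      rw [Matrix.GeneralLinearGroup.map_apply, h.m1.2 s j, map_zero]
  m2 := by
    rw [← map_inv]
    constructor
    · intro s row hrow
      rw [Matrix.GeneralLinearGroup.map_apply, h.m2.1 s row hrow, map_zero]
    · intro s j
      rw [Matrix.GeneralLinearGroup.map_apply, h.m2.2 s j, map_zero]
  conj := fun s => by
    obtain ⟨c, hc, e⟩ := h.conj s
    refine ⟨φ c, (map_ne_zero φ).mpr hc, fun t => ?_⟩
    obtain ⟨t', rfl⟩ := hφ t
    rw [← R.frob_xg, ← map_inv, ← map_mul, ← map_mul, e, R.frob_xg, map_mul]
  neg := h.neg

end Rels

/-- the twisting endomorphism attached to checked tables -/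
noncomputable def mkTwS {P : Packed} (hD : Fast D P) {X Y : GAux} (hX : chkG P X = true) (hY : chkG P Y = true)
    (hXY : chkGInv P X Y = true) (hYX : chkGInv P Y X = true) {C : TwC} (O : TwOK D C) (hρ : C.ρ = X.ρ)
    (hε : C.ε = X.ε) (hYρ : ∀ s < D.nroots, Y.ρ s = C.ρ^[C.d - 1] s) (R : Rels D G K) [Fintype K] {q : ℕ}
    (hq : IsPrimePow q) (hK : Fintype.card K = q ^ C.d) : TwS C O R :=
  let φ := (exists_frob hq O.d_pos hK).choose
  have hφ : ∀ a, φ a = a ^ q := (exists_frob hq O.d_pos hK).choose_spec
  have h1 : X.mat D K * Y.mat D K = 1 := graph_inv_of_chk hD hX hY hXY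
  have h2 : Y.mat D K * X.mat D K = 1 := graph_inv_of_chk hD hY hX hYX
  let Pm := X.gl Y D K h1 h2
  have hconj : ∀ r < D.nroots, ∀ t, Pm * R.xg r t * Pm⁻¹ = R.xg (C.ρ r) ((C.ε r : K) * t) := by
    intro r hr t
    apply Units.ext
    show X.mat D K * D.x K r t * Y.mat D K = D.x K (C.ρ r) ((C.ε r : K) * t)
    rw [(graph_of_chk (F := K) hD hX r hr t).2, Matrix.mul_assoc, h1, Matrix.mul_one, hρ, hε]
  have hpow : ∀ a, φ^[C.d] a = a := by
    intro a
    have : (φ : K → K) = fun x => x ^ q := funext hφ
    rw [this, pow_iterate, ← hK]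
    exact FiniteField.pow_card a
  have hsurj : Function.Surjective φ := by
    intro a
    refine ⟨φ^[C.d - 1] a, ?_⟩
    rw [← Function.iterate_succ_apply' φ, show (C.d - 1).succ = C.d from Nat.succ_pred_eq_of_pos O.d_pos]
    exact hpow a
  have hPm : R.IsMono Pm O.rhoP :=
    { m1 := by
        constructor
        · intro s row hrow
          show gMat D.rank D.nroots K X.π X.ρ X.ε row (Sum.inr s) = 0
          rcases row with j | s'
          · simp [gMat]
          · simp only [gMat, Matrix.of_apply]
            rw [if_neg]
            intro h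
            apply hrow
            congr 1
            apply Fin.ext
            rw [h, O.rhoP_apply, hρ]
        · intro s j
          show gMat D.rank D.nroots K X.π X.ρ X.ε (Sum.inr s) (Sum.inl j) = 0
          simp [gMat]
      m2 := by
        constructor
        · intro s row hrow
          show gMat D.rank D.nroots K Y.π Y.ρ Y.ε row (Sum.inr s) = 0
          rcases row with j | s'
          · simp [gMat]
          · simp only [gMat, Matrix.of_apply]
            rw [if_neg]
            intro h
            apply hrow
            congr 1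
            apply Fin.ext
            rw [h, hYρ s s.2]
            rfl
        · intro s j
          show gMat D.rank D.nroots K Y.π Y.ρ Y.ε (Sum.inr s) (Sum.inl j) = 0
          simp [gMat]
      conj := fun s => by
        refine ⟨(C.ε s : K), ?_, fun t => hconj s s.2 t⟩
        rcases O.eps s s.2 with h | h <;> rw [h] <;> simp
      neg := fun s => Fin.ext (O.rho_neg s s.2) }
  { φ := φ
    sig := (MulAut.conj Pm).toMonoidHom.comp (Matrix.GeneralLinearGroup.map φ)
    sig_xg := fun r hr t => by
      show Pm * Matrix.GeneralLinearGroup.map φ (R.xg r t) * Pm⁻¹ = _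
      rw [R.frob_xg, hconj r hr]
    sig_mono := fun n w h => by
      show R.IsMono (Pm * Matrix.GeneralLinearGroup.map φ n * Pm⁻¹) _
      exact Rels.IsMono.mul R (Rels.IsMono.mul R hPm (R.frob_mono φ hsurj h)) (Rels.IsMono.inv R hPm)
    phi_pow := hpow
    q := q
    phi_eq := hφ
    card_fix := by
      have := card_pow_fix (K := K) hq.pos hK
      rw [← this]
      exact Nat.card_congr (Equiv.subtypeEquivRight (fun x => by rw [hφ]))
    card_K := by rw [Nat.card_eq_fintype_card, hK] }

end Cfsg.Agent.Chev
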