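import Cfsg.Agent.Chev.Tw5
import Cfsg.Agent.Chev.Card

/-!
# Twisted groups: towards the (B, N)-pair
-/

set_option autoImplicit false
set_option linter.unusedSectionVars false
set_option linter.unusedVariables false

namespace Cfsg.Agent.Chev
open Cfsg.Lie
open scoped MatrixGroups

variable {D : ChevalleyDatum} {G : Good D} {K : Type*} [Field K]

namespace TwOK
variable {C : TwC} (O : TwOK D C)
include O

theorem rho_negative (G : Good D) {r : ℕ} (hr : r < D.nroots / 2) : C.ρ r < D.nroots / 2 := by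
  have hev := G.even
  have hr' : r < D.nroots := by omega
  have h1 := G.half_le_neg hr
  have h2 := O.rho_pos _ (G.neg_lt hr') h1
  rw [O.rho_neg r hr'] at h2
  have h3 := G.neg_lt_half (G.neg_lt (O.rho_lt r hr')) h2
  rwa [G.neg_neg (O.rho_lt r hr')] at h3

theorem rhoP_pow_apply (m : ℕ) (s : Fin D.nroots) : (((O.rhoP ^ m) s : Fin D.nroots) : ℕ) = C.ρ^[m] s := by
  induction m with
  | zero => rfl
  | succ m ih =>
    rw [pow_succ', Equiv.Perm.mul_apply, O.rhoP_apply, ih, Function.iterate_succ_apply']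

theorem Js_nodup (G : Good D) {i : ℕ} (hi : i < D.rank) : (C.Js D i).Nodup := by
  apply List.Nodup.of_map D.simple
  have : (C.Js D i).map D.simple = C.blk (D.simple i) := by
    unfold TwC.Js TwC.blk
    rw [List.map_map]
    apply List.map_congr_left
    intro k _
    exact (O.simple_iter hi k).2.symm
  rw [this]
  exact O.blk_nodup _ (G.simple_lt i hi)

theorem Js_ne_nil (i : ℕ) : C.Js D i ≠ [] := by
  intro h
  have := congrArg List.length h
  unfold TwC.Js at this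
  rw [List.length_map, List.length_range, List.length_nil] at this
  have := O.e_pos (D.simple i)
  omega

theorem self_mem_Js (i : ℕ) : i ∈ C.Js D i := by
  unfold TwC.Js
  exact List.mem_map.mpr ⟨0, List.mem_range.mpr (O.e_pos _), rfl⟩

end TwOK

namespace TwS
variable {C : TwC} {O : TwOK D C} {R : Rels D G K} (S : TwS C O R)
include S

theorem mono_comm {n : GL D.Idx K} {w : Equiv.Perm (Fin D.nroots)} (hn : n ∈ S.Γ) (hm : R.IsMono n w) :
    Commute O.rhoP w := by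
  have h := S.sig_mono n w hm
  rw [(S.mem_Γ n).mp hn] at h
  have h2 := Rels.IsMono.unique R h hm
  show O.rhoP * w = w * O.rhoP
  calc O.rhoP * w = (O.rhoP * w * O.rhoP⁻¹) * O.rhoP := by group
    _ = _ := by rw [h2]

theorem comm_apply {w : Equiv.Perm (Fin D.nroots)} (h : Commute O.rhoP w) (m : ℕ) (s : Fin D.nroots) :
    w ((O.rhoP ^ m) s) = (O.rhoP ^ m) (w s) := by
  have := (h.pow_left m).eq
  have h2 := congrArg (fun σ : Equiv.Perm (Fin D.nroots) => σ s) this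
  simp only [Equiv.Perm.mul_apply] at h2
  exact h2.symm

theorem negP_rho {w : Equiv.Perm (Fin D.nroots)} (h : Commute O.rhoP w) (s : ℕ) (hs : negP D w s) :
    s < D.nroots ∧ negP D w (C.ρ s) := by
  obtain ⟨h1, h2, h3⟩ := hs
  refine ⟨h1, O.rho_lt s h1, O.rho_pos s h1 h2, ?_⟩
  have h4 := S.comm_apply h 1 ⟨s, h1⟩
  rw [pow_one] at h4
  have h5 : (⟨C.ρ s, O.rho_lt s h1⟩ : Fin D.nroots) = O.rhoP ⟨s, h1⟩ := rfl
  rw [h5, h4, O.rhoP_apply]
  exact O.rho_negative G h3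

/-- the intersection of the twisted group with a double coset -/
theorem dc_inter (G2 : Good2 D) [Fintype K] {g n b1 b2 : GL D.Idx K} (hg : g ∈ S.G1)
    (hn : n ∈ D.monomialSubgroup K) (hn1 : n ∈ S.G1) (hb1 : b1 ∈ D.borelSubgroup K) (hb2 : b2 ∈ D.borelSubgroup K)
    (e : g = b1 * n * b2) {w : Equiv.Perm (Fin D.nroots)} (hw : w ∈ G.W) (hm : R.IsMono n w) :
    ∃ b ∈ D.borelSubgroup K ⊓ S.G1, ∃ u ∈ UU D K (negP D w) ⊓ S.G1, g = b * n * u := by
  obtain ⟨u2, hu2, h2, hh2, rfl⟩ := exists_mul_of_mem_sup R.H_le_normalizer_U hb2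
  obtain ⟨b', hb', u', hu', e'⟩ := R.nU_subset _ w hw rfl n hm u2 hu2
  have hT := Rels.IsMono.of_tor R (R.H_le_Tor hh2)
  have hu : h2⁻¹ * u' * h2 ∈ UU D K (negP D w) := by
    have := Rels.IsMono.conj_UU R (Rels.IsMono.inv R hT) (p := negP D w) (q := negP D w) (fun s hs => hs.1)
      (fun s hs => by simpa using hs) u' hu'
    rwa [inv_inv] at this
  have hh' : n * h2 * n⁻¹ ∈ D.borelSubgroup K :=
    R.H_le_B ((Subgroup.mem_normalizer_iff.mp (R.N_le_normalizer_H G2 hn) _).mp hh2)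
  set b := b1 * b' * (n * h2 * n⁻¹) with hb
  set u := h2⁻¹ * u' * h2 with hu0
  have hbB : b ∈ D.borelSubgroup K := Subgroup.mul_mem _ (Subgroup.mul_mem _ hb1 (R.U_le_B hb')) hh'
  have e1 : g = b * n * u := by
    rw [e]
    calc b1 * n * (u2 * h2) = b1 * (n * u2) * h2 := by group
      _ = _ := by rw [e', hb, hu0]; group
  have hc := S.mono_comm (S.G1_le_Γ hn1) hm
  have e2 : S.sig b * n * S.sig u = b * n * u := by
    have h3 := (S.mem_Γ g).mp (S.G1_le_Γ hg)
    rw [e1, map_mul, map_mul, (S.mem_Γ n).mp (S.G1_le_Γ hn1)] at h3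
    exact h3
  obtain ⟨h4, h5⟩ := R.normal_form_unique (S.sig_B b hbB) hbB hm (S.sig_UU (S.negP_rho hc) u hu) hu e2
  have hU : u ∈ D.posUnipotent K := by
    rw [← UU_pos]
    exact UU_mono (fun s hs => (G.isPosRoot_iff s).mpr ⟨hs.2.1, hs.1⟩) hu
  have hu1 : u ∈ S.G1 := S.U_fixed_le G2 ⟨hU, h5⟩
  refine ⟨b, ⟨hbB, ?_⟩, u, ⟨hu, hu1⟩, e1⟩
  have e3 : b = g * u⁻¹ * n⁻¹ := by rw [e1]; group
  rw [e3]
  exact Subgroup.mul_mem _ (Subgroup.mul_mem _ hg (Subgroup.inv_mem _ hu1)) (Subgroup.inv_mem _ hn1)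

theorem nw_cons (j : ℕ) (L : List ℕ) : S.nw (j :: L) = R.ng (D.simple j) 1 * S.nw L := by
  unfold nw
  rw [List.map_cons, List.prod_cons]

/-- the iterated double coset axiom -/
theorem bn_iter (G2 : Good2 D) (L : List ℕ) (hL : ∀ j ∈ L, j < D.rank) {n b : GL D.Idx K}
    (hn : n ∈ D.monomialSubgroup K) (hb : b ∈ D.borelSubgroup K) :
    ∃ L', L'.Sublist L ∧ ∃ b1 ∈ D.borelSubgroup K, ∃ b2 ∈ D.borelSubgroup K,
      S.nw L * b * n = b1 * (S.nw L' * n) * b2 := by
  induction L with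
  | nil =>
    refine ⟨[], List.Sublist.refl _, b, hb, 1, Subgroup.one_mem _, ?_⟩
    simp [nw]
  | cons j L ih =>
    obtain ⟨L', hs, b1, hb1, b2, hb2, e⟩ := ih (fun k hk => hL k (List.mem_cons_of_mem _ hk))
    have hL' : ∀ k ∈ L', k < D.rank := fun k hk => hL k (List.mem_cons_of_mem _ (hs.subset hk))
    have hm : S.nw L' * n ∈ D.monomialSubgroup K := Subgroup.mul_mem _ (S.nw_mem_N L' hL') hn
    obtain ⟨c1, hc1, c2, hc2, h⟩ := R.bn_axiom G2 (hL j List.mem_cons_self) hm hb1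
    have e0 : S.nw (j :: L) * b * n = R.ng (D.simple j) 1 * b1 * (S.nw L' * n) * b2 := by
      rw [S.nw_cons]
      calc R.ng (D.simple j) 1 * S.nw L * b * n = R.ng (D.simple j) 1 * (S.nw L * b * n) := by group
        _ = _ := by rw [e]; group
    rcases h with h | h
    · refine ⟨j :: L', hs.cons_cons j, c1, hc1, c2 * b2, Subgroup.mul_mem _ hc2 hb2, ?_⟩
      rw [e0, h, S.nw_cons]; group
    · refine ⟨L', hs.cons j, c1, hc1, c2 * b2, Subgroup.mul_mem _ hc2 hb2, ?_⟩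
      rw [e0, h]; group

theorem wl_fix {j : ℕ} (hj : j < D.rank) (L : List ℕ)
    (hL : ∀ a ∈ L, a < D.rank ∧ D.reflectRoot a (D.simple j) = D.simple j) : S.wl L (G.sF j hj) = G.sF j hj := by
  induction L with
  | nil => rfl
  | cons a L ih =>
    rw [S.wl_cons a (hL a List.mem_cons_self).1, Equiv.Perm.mul_apply,
      ih (fun k hk => hL k (List.mem_cons_of_mem _ hk))]
    apply Fin.ext
    rw [G.wP_apply]
    exact (hL a List.mem_cons_self).2

theorem wl_neg {i : ℕ} (hi : i < D.rank) {j : ℕ} (hj : j < D.rank) (L : List ℕ) (hnd : L.Nodup)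
    (hL : ∀ a ∈ L, a ∈ C.Js D i) (hjL : j ∈ L) : S.wl L (G.sF j hj) = G.negF (G.sF j hj) := by
  induction L with
  | nil => simp at hjL
  | cons a L ih =>
    rw [List.nodup_cons] at hnd
    have ha := O.Js_lt hi a (hL a List.mem_cons_self)
    rw [S.wl_cons a ha, Equiv.Perm.mul_apply]
    by_cases haj : a = j
    · subst haj
      rw [S.wl_fix hj L (fun k hk => ⟨O.Js_lt hi k (hL k (List.mem_cons_of_mem _ hk)),
        O.orth i hi k (hL k (List.mem_cons_of_mem _ hk)) a (hL a List.mem_cons_self)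
          (fun e => hnd.1 (e ▸ hk))⟩)]
      apply Fin.ext
      rw [G.wP_apply]
      exact G.refl_simple a
    · have hjL' : j ∈ L := by
        rcases List.mem_cons.mp hjL with e | e
        · exact absurd e.symm haj
        · exact e
      rw [ih hnd.2 (fun k hk => hL k (List.mem_cons_of_mem _ hk)) hjL', G.W_neg (G.wP_mem a ha)]
      congr 1
      apply Fin.ext
      rw [G.wP_apply]
      exact O.orth i hi a (hL a List.mem_cons_self) j (hL j hjL) haj

theorem sF_iter {j : ℕ} (hj : j < D.rank) (m : ℕ) :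
    (O.rhoP ^ m) (G.sF j hj) = G.sF (C.π^[m] j) (O.simple_iter hj m).1 := by
  apply Fin.ext
  rw [O.rhoP_pow_apply]
  exact (O.simple_iter hj m).2

/-- negativity spreads along an orbit of fundamental roots -/
theorem neg_spread {w : Equiv.Perm (Fin D.nroots)} (h : Commute O.rhoP w) {i : ℕ} (hi : i < D.rank) {j k : ℕ}
    (hj : j ∈ C.Js D i) (hk : k ∈ C.Js D i) (hneg : (w (G.sF j (O.Js_lt hi j hj)) : ℕ) < D.nroots / 2) :
    (w (G.sF k (O.Js_lt hi k hk)) : ℕ) < D.nroots / 2 := by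
  obtain ⟨m, _, e⟩ := O.trans i hi j hj k hk
  have h1 : G.sF k (O.Js_lt hi k hk) = (O.rhoP ^ m) (G.sF j (O.Js_lt hi j hj)) := by
    rw [S.sF_iter]
    apply Fin.ext
    simp only [Good.sF, e]
  rw [h1, S.comm_apply h, O.rhoP_pow_apply]
  generalize (w (G.sF j (O.Js_lt hi j hj)) : ℕ) = r at hneg
  clear h1 e
  rename_i hmd
  clear hmd
  induction m with
  | zero => exact hneg
  | succ m ih => rw [Function.iterate_succ_apply']; exact O.rho_negative G ih

theorem sublist_cases {i : ℕ} (hi : i < D.rank) {L : List ℕ} (hs : L.Sublist (C.Js D i))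
    (h : Commute O.rhoP (S.wl L)) : L = [] ∨ L = C.Js D i := by
  rcases L with _ | ⟨j, L⟩
  · exact Or.inl rfl
  · right
    have hnd : (j :: L).Nodup := hs.nodup (O.Js_nodup G hi)
    have hsub : ∀ a ∈ j :: L, a ∈ C.Js D i := fun a ha => hs.subset ha
    have hjJ := hsub j List.mem_cons_self
    have hj := O.Js_lt hi j hjJ
    have h1 := S.wl_neg hi hj (j :: L) hnd hsub List.mem_cons_self
    have h2 : ((S.wl (j :: L)) (G.sF j hj) : ℕ) < D.nroots / 2 := by
      rw [h1]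
      exact G.neg_lt_half (G.simple_lt j hj) (G.simple_pos hj)
    have h3 : C.Js D i ⊆ j :: L := by
      intro k hk
      by_contra hkL
      have h4 := S.neg_spread h hi hjJ hk h2
      rw [S.wl_fix (O.Js_lt hi k hk) (j :: L) (fun a ha => ⟨O.Js_lt hi a (hsub a ha),
        O.orth i hi a (hsub a ha) k hk (fun e => hkL (e ▸ ha))⟩)] at h4
      have := G.simple_pos (O.Js_lt hi k hk)
      simp only [Good.sF] at h4
      omega
    exact hs.eq_of_length_le ((O.Js_nodup G hi).subperm h3).length_le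

/-- the double coset axiom in the twisted group -/
theorem bn_axiom1 (G2 : Good2 D) [Fintype K] {i : ℕ} (hi : i < D.rank) (hh : D.simple i ∈ C.heads)
    {n b : GL D.Idx K} (hn : n ∈ D.monomialSubgroup K ⊓ S.G1) (hb : b ∈ D.borelSubgroup K ⊓ S.G1) :
    ∃ b1 ∈ D.borelSubgroup K ⊓ S.G1, ∃ b2 ∈ D.borelSubgroup K ⊓ S.G1,
      S.nJ i * b * n = b1 * (S.nJ i * n) * b2 ∨ S.nJ i * b * n = b1 * n * b2 := by
  have hnJ := S.nJ_mem_G1 hi hh
  have hg : S.nJ i * b * n ∈ S.G1 := Subgroup.mul_mem _ (Subgroup.mul_mem _ hnJ hb.2) hn.2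
  obtain ⟨L', hs, b1, hb1, b2, hb2, e⟩ := S.bn_iter G2 (C.Js D i) (O.Js_lt hi) hn.1 hb.1
  have hL' : ∀ k ∈ L', k < D.rank := fun k hk => O.Js_lt hi k (hs.subset hk)
  obtain ⟨w, hw, hm⟩ := R.N_mono G2 hn.1
  have hN' := S.nw_mem_N L' hL'
  have e2 : b1 * (S.nw L' * n) * b2 = S.sig b1 * (S.sig (S.nw L') * n) * S.sig b2 := by
    have h3 := (S.mem_Γ _).mp (S.G1_le_Γ hg)
    change S.sig (S.nw (C.Js D i) * b * n) = S.nw (C.Js D i) * b * n at h3
    rw [e, map_mul, map_mul, map_mul, (S.mem_Γ n).mp (S.G1_le_Γ hn.2)] at h3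
    exact h3.symm
  have h4 := R.bruhat_unique_GL G2 (Subgroup.mul_mem _ hN' hn.1)
    (Subgroup.mul_mem _ (S.sig_N _ hN') hn.1) hb1 hb2 (S.sig_B _ hb1) (S.sig_B _ hb2) e2
  have hm' := S.nw_mono L' hL'
  have h5 := Rels.IsMono.unique R (Rels.IsMono.of_tor R (R.H_le_Tor h4))
    (Rels.IsMono.mul R (Rels.IsMono.inv R (Rels.IsMono.mul R hm' hm)) (Rels.IsMono.mul R (S.sig_mono _ _ hm') hm))
  have h6 : Commute O.rhoP (S.wl L') := by
    show O.rhoP * S.wl L' = S.wl L' * O.rhoP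
    have h7 : S.wl L' = O.rhoP * S.wl L' * O.rhoP⁻¹ := by
      calc S.wl L' = (S.wl L' * w) * 1 * w⁻¹ := by group
        _ = _ := by rw [h5]; group
    calc O.rhoP * S.wl L' = (O.rhoP * S.wl L' * O.rhoP⁻¹) * O.rhoP := by group
      _ = _ := by rw [← h7]
  have hsub : UU D K (negP D w) ⊓ S.G1 ≤ D.borelSubgroup K ⊓ S.G1 := inf_le_inf_right _ (R.Um_le_B w)
  rcases S.sublist_cases hi hs h6 with rfl | rfl
  · have e3 : S.nJ i * b * n = b1 * n * b2 := by
      show S.nw (C.Js D i) * b * n = _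
      rw [e]; simp [nw]
    obtain ⟨c, hc, u, hu, e4⟩ := S.dc_inter G2 hg hn.1 hn.2 hb1 hb2 e3 hw hm
    exact ⟨c, hc, u, hsub hu, Or.inr e4⟩
  · have hm2 := Rels.IsMono.mul R hm' hm
    obtain ⟨c, hc, u, hu, e4⟩ := S.dc_inter G2 hg (Subgroup.mul_mem _ hN' hn.1) (Subgroup.mul_mem _ hnJ hn.2) hb1 hb2 e
      (Subgroup.mul_mem _ (S.wl_mem _) hw) hm2
    exact ⟨c, hc, u, inf_le_inf_right _ (R.Um_le_B _) hu, Or.inl e4⟩

end TwS

end Cfsg.Agent.Chev
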