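import Cfsg.Agent.Chev.All2
import Cfsg.Agent.Chev.Tw6

/-!
# The special graph automorphism of `G₂` in characteristic 3, I: the entries of the root elements
-/

set_option autoImplicit false
set_option linter.unusedSectionVars false
set_option linter.unusedVariables false

namespace Cfsg.Agent.Chev
open Cfsg.Lie
open scoped MatrixGroups

/-- the entries of `x_r(t)` as polynomials in `t`: lists of (exponent, coefficient) -/
def xPoly (D : ChevalleyDatum) (r : Fin D.nroots) (row col : D.Idx) : List (ℕ × ℤ) :=
  match col with
  | Sum.inl i =>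
    (match row with
     | Sum.inl i' => if i' = i then [(0, 1)] else []
     | Sum.inr u => if u = r then [(1, - ((D.cartanSR.getD i.val #[]).getD r.val 0))] else [])
  | Sum.inr s =>
    if s = r then (match row with | Sum.inr u => if u = r then [(0, 1)] else [] | Sum.inl _ => [])
    else if s.val = D.negIdx.getD r.val 0 then
      (match row with
       | Sum.inl i => [(1, (D.coroot.getD r.val #[]).getD i.val 0)]
       | Sum.inr u => if u = s then [(0, 1)] else if u = r then [(2, -1)] else [])
    else
      (match row with
       | Sum.inl _ => []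
       | Sum.inr u => (if u = s then [(0, 1)] else []) ++ D.chainCoeff r.val s.val u.val)

/-- evaluation -/
def pe {F : Type*} [Field F] (P : List (ℕ × ℤ)) (t : F) : F := (P.map fun km => ((km.2 : ℤ) : F) * t ^ km.1).sum

theorem xMat_eq_pe (D : ChevalleyDatum) {F : Type*} [Field F] (r : Fin D.nroots) (t : F) (row col : D.Idx) :
    D.xMat F r t row col = pe (xPoly D r row col) t := by
  unfold ChevalleyDatum.xMat xPoly pe
  rw [Matrix.of_apply]
  rcases col with i | s
  · rcases row with i' | u
    · simp only
      split_ifs <;> simp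
    · simp only
      split_ifs <;> simp
  · simp only
    split_ifs with h1 h2
    · rcases row with i' | u
      · simp
      · simp only
        split_ifs <;> simp
    · rcases row with i' | u
      · simp
      · simp only
        split_ifs <;> simp
    · rcases row with i' | u
      · simp
      · simp only
        split_ifs <;> simp

/-- the coefficient of `t ^ e` -/
def pcoef (P : List (ℕ × ℤ)) (e : ℕ) : ℤ := (P.map fun km => if km.1 = e then km.2 else 0).sum

theorem pe_eq_sum {F : Type*} [Field F] (P : List (ℕ × ℤ)) (B : ℕ) (h : ∀ km ∈ P, km.1 < B) (t : F) :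
    pe P t = ∑ e ∈ Finset.range B, ((pcoef P e : ℤ) : F) * t ^ e := by
  induction P with
  | nil => simp [pe, pcoef]
  | cons km P ih =>
    have h1 : pe (km :: P) t = ((km.2 : ℤ) : F) * t ^ km.1 + pe P t := by simp [pe]
    have h2 : ∀ e, pcoef (km :: P) e = (if km.1 = e then km.2 else 0) + pcoef P e := by intro e; simp [pcoef]
    rw [h1, ih (fun x hx => h x (List.mem_cons_of_mem _ hx))]
    simp only [h2, Int.cast_add, add_mul, Finset.sum_add_distrib]
    congr 1
    rw [Finset.sum_eq_single km.1]
    · simp
    · intro b _ hb
      rw [if_neg (fun e => hb e.symm)]; simp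
    · intro hb
      exact absurd (Finset.mem_range.mpr (h km List.mem_cons_self)) hb

theorem pe_pow {F : Type*} [Field F] (P : List (ℕ × ℤ)) (k : ℕ) (t : F) :
    pe P (t ^ k) = pe (P.map fun km => (k * km.1, km.2)) t := by
  unfold pe
  rw [List.map_map]
  congr 1
  apply List.map_congr_left
  intro km _
  simp [pow_mul]

/-- equality of polynomials modulo `p` -/
def peqMod (p : ℕ) (B : ℕ) (P Q : List (ℕ × ℤ)) : Bool :=
  P.all (fun km => decide (km.1 < B)) && Q.all (fun km => decide (km.1 < B)) &&
    (List.range B).all fun e => decide ((pcoef P e - pcoef Q e) % (p : ℤ) = 0)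

theorem pe_eq_of_peqMod {F : Type*} [Field F] (p : ℕ) [CharP F p] {B : ℕ} {P Q : List (ℕ × ℤ)}
    (h : peqMod p B P Q = true) (t : F) : pe P t = pe Q t := by
  unfold peqMod at h
  simp only [Bool.and_eq_true, List.all_eq_true, decide_eq_true_eq, List.mem_range] at h
  obtain ⟨⟨h1, h2⟩, h3⟩ := h
  rw [pe_eq_sum P B h1, pe_eq_sum Q B h2]
  apply Finset.sum_congr rfl
  intro e he
  congr 1
  have := h3 e (Finset.mem_range.mp he)
  have h4 : (((pcoef P e - pcoef Q e : ℤ)) : F) = 0 :=
    (CharP.intCast_eq_zero_iff F p _).mpr (Int.dvd_of_emod_eq_zero this)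
  rw [Int.cast_sub, sub_eq_zero] at h4
  exact h4

end Cfsg.Agent.Chev
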