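import Cfsg.Agent.Chev.TwG9

/-!
# The Ree groups `²G₂`: the Weyl group and the core of the Borel subgroup
-/

set_option autoImplicit false
set_option linter.unusedSectionVars false
set_option linter.unusedVariables false
set_option maxRecDepth 100000

namespace Cfsg.Agent.Chev
open Cfsg.Lie
open scoped MatrixGroups

theorem w0G2_ne_one : w0G2 ≠ 1 := by
  intro h
  have := congrArg (fun σ : Equiv.Perm (Fin chevG2.nroots) => ((σ ⟨0, by decide⟩ : Fin chevG2.nroots) : ℕ)) h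
  simp only [w0G2_apply, Equiv.Perm.one_apply, Good.negF] at this
  revert this
  decide +kernel

namespace Ree
variable {K : Type*} [Field K] [Fintype K] [CharP K 3] (S : Ree K)

open Classical in
theorem weyl : ∃ φ : ↥(chevG2.monomialSubgroup K ⊓ S.G1) →* Multiplicative (ZMod 2), Function.Surjective φ ∧
    φ.ker = (chevG2.diagonalSubgroup K ⊓ S.G1).subgroupOf (chevG2.monomialSubgroup K ⊓ S.G1) := by
  have hex : ∀ {n : GL chevG2.Idx K}, (relsG2 K).IsMono n 1 → ¬ (relsG2 K).IsMono n w0G2 := by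
    intro n h1 h2
    exact w0G2_ne_one (Rels.IsMono.unique (relsG2 K) h2 h1)
  let f : ↥(chevG2.monomialSubgroup K ⊓ S.G1) → Multiplicative (ZMod 2) := fun n =>
    if (relsG2 K).IsMono (n : GL chevG2.Idx K) 1 then 1 else Multiplicative.ofAdd 1
  have hf1 : ∀ n : ↥(chevG2.monomialSubgroup K ⊓ S.G1), (relsG2 K).IsMono (n : GL chevG2.Idx K) 1 → f n = 1 :=
    fun n h => if_pos h
  have hf2 : ∀ n : ↥(chevG2.monomialSubgroup K ⊓ S.G1), (relsG2 K).IsMono (n : GL chevG2.Idx K) w0G2 →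
      f n = Multiplicative.ofAdd 1 := fun n h => if_neg (fun h1 => hex h1 h)
  have hmul : ∀ a b, f (a * b) = f a * f b := by
    intro a b
    rcases S.N1_cases a.2 with ha | ha <;> rcases S.N1_cases b.2 with hb | hb
    · have := Rels.IsMono.mul (relsG2 K) ha hb
      rw [mul_one] at this
      rw [hf1 a ha, hf1 b hb, hf1 (a * b) this, mul_one]
    · have := Rels.IsMono.mul (relsG2 K) ha hb
      rw [one_mul] at this
      rw [hf1 a ha, hf2 b hb, hf2 (a * b) this, one_mul]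
    · have := Rels.IsMono.mul (relsG2 K) ha hb
      rw [mul_one] at this
      rw [hf2 a ha, hf1 b hb, hf2 (a * b) this, mul_one]
    · have := Rels.IsMono.mul (relsG2 K) ha hb
      rw [w0G2_mul_self] at this
      rw [hf2 a ha, hf2 b hb, hf1 (a * b) this]
      decide
  refine ⟨MonoidHom.mk' f hmul, ?_, ?_⟩
  · obtain ⟨n0, hn0, hm0⟩ := S.exists_n0
    have hall : ∀ y : Multiplicative (ZMod 2), y = 1 ∨ y = Multiplicative.ofAdd 1 := by decide
    intro y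
    rcases hall y with rfl | rfl
    · exact ⟨1, map_one _⟩
    · exact ⟨⟨n0, hn0⟩, hf2 _ hm0⟩
  · ext n
    rw [MonoidHom.mem_ker, Subgroup.mem_subgroupOf, MonoidHom.mk'_apply]
    constructor
    · intro h
      rcases S.N1_cases n.2 with hn | hn
      · exact S.H1_of_mono_one n.2 hn
      · rw [hf2 n hn] at h
        exact absurd h (by decide)
    · intro h
      exact hf1 n (Rels.IsMono.of_tor (relsG2 K) ((relsG2 K).H_le_Tor h.1))

/-- elements all of whose conjugates lie in `B` -/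
def Core (g : GL chevG2.Idx K) : Prop := ∀ x ∈ S.G1, x * g * x⁻¹ ∈ chevG2.borelSubgroup K

theorem Core.conj {g y : GL chevG2.Idx K} (hg : S.Core g) (hy : y ∈ S.G1) : S.Core (y * g * y⁻¹) := by
  intro x hx
  have := hg (x * y) (Subgroup.mul_mem _ hx hy)
  have e : x * (y * g * y⁻¹) * x⁻¹ = x * y * g * (x * y)⁻¹ := by group
  rwa [e]

theorem Core.mem_H {g : GL chevG2.Idx K} (hg : S.Core g) : g ∈ chevG2.diagonalSubgroup K := by
  obtain ⟨n0, hn0, hm⟩ := S.exists_n0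
  have h1 : g ∈ chevG2.borelSubgroup K := by simpa using hg 1 (Subgroup.one_mem _)
  have h2 := hg n0⁻¹ (Subgroup.inv_mem _ hn0.2)
  rw [inv_inv] at h2
  obtain ⟨u, hu, h, hh, e'⟩ := exists_mul_of_mem_sup (relsG2 K).H_le_normalizer_U h2
  have h3 : n0 * u * n0⁻¹ ∈ chevG2.negUnipotent K := mono_w0_conj_U hm u hu
  have h4 : n0 * h * n0⁻¹ ∈ chevG2.diagonalSubgroup K :=
    (Subgroup.mem_normalizer_iff.mp ((relsG2 K).N_le_normalizer_H good2G2 hn0.1) _).mp hh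
  have h5 : g = (n0 * u * n0⁻¹) * (n0 * h * n0⁻¹) := by
    have : g = n0 * (n0⁻¹ * g * n0) * n0⁻¹ := by group
    rw [this, e']; group
  have h6 : g ∈ chevG2.borelSubgroup K ⊓ (chevG2.negUnipotent K ⊔ chevG2.diagonalSubgroup K) :=
    ⟨h1, h5 ▸ Subgroup.mul_mem _ (Subgroup.mem_sup_left h3) (Subgroup.mem_sup_right h4)⟩
  rwa [(relsG2 K).B_inf_VH] at h6

theorem Core.comm_U {g u : GL chevG2.Idx K} (hg : S.Core g)
    (hu : u ∈ chevG2.posUnipotent K) (hu1 : u ∈ S.G1) : g * u * g⁻¹ = u := by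
  have hH := Core.mem_H S hg
  have h1 := Core.mem_H S (Core.conj S hg (Subgroup.inv_mem _ hu1))
  rw [inv_inv] at h1
  have h2 : u⁻¹ * (g * u * g⁻¹) ∈ chevG2.diagonalSubgroup K := by
    have := Subgroup.mul_mem _ h1 (Subgroup.inv_mem _ hH)
    have e : u⁻¹ * g * u * g⁻¹ = u⁻¹ * (g * u * g⁻¹) := by group
    rwa [e] at this
  have h3 : g * u * g⁻¹ ∈ chevG2.posUnipotent K :=
    (Subgroup.mem_normalizer_iff.mp ((relsG2 K).H_le_normalizer_U hH) _).mp hu
  have h4 : u⁻¹ * (g * u * g⁻¹) ∈ chevG2.posUnipotent K ⊓ chevG2.diagonalSubgroup K :=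
    ⟨Subgroup.mul_mem _ (Subgroup.inv_mem _ hu) h3, h2⟩
  rw [(relsG2 K).U_inf_H, Subgroup.mem_bot] at h4
  exact (inv_mul_eq_one.mp h4).symm

omit [Fintype K] [CharP K 3] in
theorem conj_PU {g : GL chevG2.Idx K} {χ : ℕ → K} (h : ∀ r t, g * (relsG2 K).xg r t * g⁻¹ = (relsG2 K).xg r (χ r * t))
    (c7 c6 c8 c9 c10 c11 : K) : g * PU c7 c6 c8 c9 c10 c11 * g⁻¹ =
      PU (χ 7 * c7) (χ 6 * c6) (χ 8 * c8) (χ 9 * c9) (χ 10 * c10) (χ 11 * c11) := by
  unfold PU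
  rw [← h, ← h, ← h, ← h, ← h, ← h]
  group

omit [Fintype K] [CharP K 3] in
theorem exists_chiG2 {g : GL chevG2.Idx K} (hg : (relsG2 K).IsTor g) :
    ∃ χ : ℕ → K, ∀ r t, g * (relsG2 K).xg r t * g⁻¹ = (relsG2 K).xg r (χ r * t) := by
  classical
  obtain ⟨χ, c1, c2, c3⟩ := hg
  refine ⟨fun r => if h : r < chevG2.nroots then (χ (Sum.inr ⟨r, h⟩) : K) else 1, fun r t => ?_⟩
  by_cases h : r < chevG2.nroots
  · simp only [dif_pos h]
    rw [c3 ⟨r, h⟩ t]; group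
  · rw [(relsG2 K).xg_oor r h, (relsG2 K).xg_oor r h]; group

theorem Core.pos {g : GL chevG2.Idx K} (hg : S.Core g) (s : ℕ) (h1 : 6 ≤ s) (h2 : s < 12) (t : K) :
    g * (relsG2 K).xg s t * g⁻¹ = (relsG2 K).xg s t := by
  obtain ⟨χ, hχ⟩ := exists_chiG2 ((relsG2 K).H_le_Tor (Core.mem_H S hg))
  have e1 := Core.comm_U S hg (PU_mem_U _ _ _ _ _ _) (S.uR_mem_G1 1 0 0)
  have e2 := Core.comm_U S hg (PU_mem_U _ _ _ _ _ _) (S.uR_mem_G1 0 1 0)
  have e3 := Core.comm_U S hg (PU_mem_U _ _ _ _ _ _) (S.uR_mem_G1 0 0 1)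
  unfold uR at e1 e2 e3
  rw [conj_PU hχ] at e1 e2 e3
  obtain ⟨a7, a6, _, _, _, _⟩ := PU_inj e1
  obtain ⟨_, _, a8, _, a10, _⟩ := PU_inj e2
  obtain ⟨_, _, _, a9, _, a11⟩ := PU_inj e3
  simp only [map_one, map_zero, mul_one, zero_mul, mul_zero, zero_add, ne_eq, OfNat.ofNat_ne_zero, not_false_eq_true,
    zero_pow] at a7 a6 a8 a9 a10 a11
  rw [hχ]
  have : s = 6 ∨ s = 7 ∨ s = 8 ∨ s = 9 ∨ s = 10 ∨ s = 11 := by omega
  rcases this with rfl | rfl | rfl | rfl | rfl | rfl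
  · rw [a6, one_mul]
  · rw [a7, one_mul]
  · rw [a8, one_mul]
  · rw [a9, one_mul]
  · rw [a10, one_mul]
  · rw [a11, one_mul]

theorem Core.all {g : GL chevG2.Idx K} (hg : S.Core g) (s : Fin chevG2.nroots) (t : K) :
    g * (relsG2 K).xg s t * g⁻¹ = (relsG2 K).xg s t := by
  have hs : (s : ℕ) < 12 := s.2
  by_cases h : 6 ≤ (s : ℕ)
  · exact Core.pos S hg s h hs t
  · obtain ⟨n, hn, hm⟩ := S.exists_n0
    obtain ⟨c, hc, e⟩ := hm.conj s
    have hp : 6 ≤ ((w0G2 s : Fin chevG2.nroots) : ℕ) := by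
      rw [w0G2_apply]
      exact goodG2.half_le_neg (show (s : ℕ) < chevG2.nroots / 2 by show (s : ℕ) < 6; omega)
    have e1 := Core.pos S (Core.conj S hg hn.2) _ hp (w0G2 s).2 (c * t)
    rw [← e t] at e1
    have e2 : g * (relsG2 K).xg s t * g⁻¹ =
      n⁻¹ * (n * g * n⁻¹ * (n * (relsG2 K).xg s t * n⁻¹) * (n * g * n⁻¹)⁻¹) * n := by group
    rw [e2, e1]; group

theorem Core.eq_one {g : GL chevG2.Idx K} (hg : S.Core g) : g = 1 := by
  obtain ⟨χ, c1, c2, c3⟩ := (relsG2 K).H_le_Tor (Core.mem_H S hg)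
  have hχ : ∀ s : Fin chevG2.nroots, χ (Sum.inr s) = 1 := by
    intro s
    have h1 := Core.all S hg s 1
    rw [c3 s 1, mul_inv_cancel_right, mul_one] at h1
    have h2 : (relsG2 K).xg s ((χ (Sum.inr s) : K) - 1) = 1 := by
      rw [sub_eq_add_neg, ← (relsG2 K).xg_add, ← (relsG2 K).xg_inv, h1, mul_inv_cancel]
    rw [(relsG2 K).xg_eq_one_iff s.2] at h2
    exact Units.ext (sub_eq_zero.mp h2)
  apply Units.ext
  rw [c2]
  have : (fun a => ((χ a : Kˣ) : K)) = fun _ => 1 := by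
    funext a
    rcases a with i | s
    · rw [c1]; rfl
    · rw [hχ]; rfl
  rw [this]
  simp

theorem core_trivial : ((chevG2.borelSubgroup K ⊓ S.G1).subgroupOf S.G1).normalCore = ⊥ := by
  rw [eq_bot_iff]
  intro g hg
  rw [Subgroup.mem_bot]
  apply Subtype.ext
  apply Core.eq_one S
  intro x hx
  have : (⟨x, hx⟩ : ↥S.G1) * g * (⟨x, hx⟩ : ↥S.G1)⁻¹ ∈ (chevG2.borelSubgroup K ⊓ S.G1).subgroupOf S.G1 := hg ⟨x, hx⟩
  rw [Subgroup.mem_subgroupOf] at this
  exact this.1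

end Ree

end Cfsg.Agent.Chev
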