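import Cfsg.Agent.Chev.TwG10

/-!
# The Ree groups `²G₂`: an identity over the prime field
-/

set_option autoImplicit false
set_option linter.unusedSectionVars false
set_option linter.unusedVariables false
set_option maxRecDepth 1000000

namespace Cfsg.Agent.Chev
open Cfsg.Lie
open scoped MatrixGroups

/-- all coefficients vanish modulo 3 -/
noncomputable def isZero3 (v : Vec) : Bool :=
  List.rec (motive := fun _ => Bool) true
    (fun σ _ ih => Bool.rec false ih (Nat.beq (Nat.mod (Nat.add σ.p (Nat.mul 2 σ.n)) 3) 0)) v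

theorem isZero3_cons (σ : Tm) (v : Vec) :
    isZero3 (σ :: v) = Bool.rec false (isZero3 v) (Nat.beq (Nat.mod (Nat.add σ.p (Nat.mul 2 σ.n)) 3) 0) := rfl

theorem ev_of_isZero3 {F : Type*} [CommRing F] [CharP F 3] (a b : F) (v : Vec) (h : isZero3 v = true) (x : ℕ) :
    ev a b v x = 0 := by
  induction v with
  | nil => rfl
  | cons σ v ih =>
    rw [isZero3_cons] at h
    cases h1 : Nat.beq (Nat.mod (Nat.add σ.p (Nat.mul 2 σ.n)) 3) 0 with
    | false => rw [h1] at h; exact absurd h (by simp)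
    | true =>
      rw [h1] at h
      have h2 : (σ.p + 2 * σ.n) % 3 = 0 := (nbeq_iff _ _).mp h1
      have h3 : ((σ.p + 2 * σ.n : ℕ) : F) = 0 := (CharP.cast_eq_zero_iff F 3 _).mpr (Nat.dvd_of_mod_eq_zero h2)
      have h4 : (3 : F) = 0 := by exact_mod_cast (CharP.cast_eq_zero F 3)
      have h5 : (σ.p : F) - (σ.n : F) = 0 := by
        push_cast at h3
        linear_combination h3 - (σ.n : F) * h4
      simp [ev_cons, Tm.val, h5, ih h]

noncomputable def vecEq3 (v w : Vec) : Bool := isZero3 (insAllNeg w (insAll v []))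

theorem ev_eq_of_vecEq3 {F : Type*} [CommRing F] [CharP F 3] (a b : F) (v w : Vec) (h : vecEq3 v w = true) (x : ℕ) :
    ev a b v x = ev a b w x := by
  have := ev_of_isZero3 a b _ h x
  rw [ev_insAllNeg, ev_insAll] at this
  simp only [ev_nil, add_zero] at this
  linear_combination this

noncomputable def apsEq3 (aps₁ aps₂ : List (Vec → Vec)) (m : ℕ) : Bool :=
  allBelow (fun k => vecEq3 (applyAll aps₁ (unitV k)) (applyAll aps₂ (unitV k))) m

theorem prod_eq_of_apsEq3 {l n : ℕ} {F : Type*} [CommRing F] [CharP F 3] (a b : F) (aps₁ aps₂ : List (Vec → Vec))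
    (Ms₁ Ms₂ : List (Matrix (Fin l ⊕ Fin n) (Fin l ⊕ Fin n) F))
    (h₁ : RepAL a b aps₁ Ms₁) (h₂ : RepAL a b aps₂ Ms₂) (h : apsEq3 aps₁ aps₂ (l + n) = true) :
    Ms₁.prod = Ms₂.prod := by
  ext row col
  rw [prodA_apply_eq a b aps₁ Ms₁ h₁, prodA_apply_eq a b aps₂ Ms₂ h₂]
  exact ev_eq_of_vecEq3 a b _ _ ((allBelow_iff _ _).mp h _ (code_lt col)) _

/-- the constants `0, 1, -1` -/
noncomputable def pc3 (c : ℕ) : Vec :=
  Nat.rec (motive := fun _ => Vec) [] (fun k _ => Nat.rec (motive := fun _ => Vec) [⟨0, 0, 0, 1, 0⟩] (fun _ _ => [⟨0, 0, 0, 0, 1⟩]) k) c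

def cv3 (F : Type*) [Field F] (c : ℕ) : F := if c = 0 then 0 else if c = 1 then 1 else -1

theorem pv_pc3 {F : Type*} [Field F] (c : ℕ) : pv (0 : F) 0 (pc3 c) = cv3 F c := by
  rcases c with _ | _ | c
  · rfl
  · simp [pc3, cv3, Tm.val]
  · simp [pc3, cv3, Tm.val]

noncomputable def apsW (w : List (ℕ × ℕ)) : List (Vec → Vec) :=
  List.rec (motive := fun _ => List (Vec → Vec)) [] (fun p _ ih => pkG2.X p.1 (pc3 p.2) :: ih) w

theorem apsW_cons (p : ℕ × ℕ) (w : List (ℕ × ℕ)) : apsW (p :: w) = pkG2.X p.1 (pc3 p.2) :: apsW w := rfl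

theorem repAL_apsW {F : Type*} [Field F] (w : List (ℕ × ℕ)) (hw : ∀ p ∈ w, p.1 < 12) :
    RepAL (l := chevG2.rank) (n := chevG2.nroots) (0 : F) 0 (apsW w) (w.map fun p => chevG2.x F p.1 (cv3 F p.2)) := by
  induction w with
  | nil => trivial
  | cons p w ih =>
    rw [apsW_cons, List.map_cons]
    refine ⟨?_, ih (fun x hx => hw x (List.mem_cons_of_mem _ hx))⟩
    rw [← pv_pc3]
    exact fastG2.repA 0 0 p.1 (hw p List.mem_cons_self) _

theorem wg_eq_of_chk3 {F : Type*} [Field F] [CharP F 3] (w₁ w₂ : List (ℕ × ℕ)) (h₁ : ∀ p ∈ w₁, p.1 < 12)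
    (h₂ : ∀ p ∈ w₂, p.1 < 12) (h : apsEq3 (apsW w₁) (apsW w₂) 14 = true) :
    (relsG2 F).wg (w₁.map fun p => (p.1, cv3 F p.2)) = (relsG2 F).wg (w₂.map fun p => (p.1, cv3 F p.2)) := by
  apply Units.ext
  rw [(relsG2 F).coe_wg, (relsG2 F).coe_wg]
  unfold ChevalleyDatum.wordMat
  rw [List.map_map, List.map_map]
  exact prod_eq_of_apsEq3 (l := chevG2.rank) (n := chevG2.nroots) (0 : F) 0 _ _ _ _ (repAL_apsW w₁ h₁) (repAL_apsW w₂ h₂) h

def wordL3 : List (ℕ × ℕ) :=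
  [(7,0),(6,0),(8,1),(9,0),(10,1),(11,0), (4,0),(5,0),(3,2),(2,0),(1,2),(0,0), (7,0),(6,0),(8,1),(9,0),(10,1),(11,0),
   (7,2),(6,2),(8,0),(9,2),(10,2),(11,0), (4,2),(5,2),(3,0),(2,2),(1,1),(0,0), (7,2),(6,2),(8,0),(9,2),(10,2),(11,0)]

def wordR3 : List (ℕ × ℕ) :=
  [(6,2),(5,1),(6,2),(6,2),(5,1),(6,2), (7,2),(4,1),(7,2),(7,2),(4,1),(7,2)]

theorem chk_word3 : apsEq3 (apsW wordL3) (apsW wordR3) 14 = true := by decide +kernel

end Cfsg.Agent.Chev
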