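import Cfsg.Agent.Chev.TwG11
import Cfsg.Agent.Chev.NH
import Cfsg.Agent.Chev.Fusion

/-!
# The Ree groups `²G₂`: the diagonal subgroup
-/

set_option autoImplicit false
set_option linter.unusedSectionVars false
set_option linter.unusedVariables false
set_option maxRecDepth 100000

namespace Cfsg.Agent.Chev
open Cfsg.Lie
open scoped MatrixGroups

section
variable {K : Type*} [Field K]

/-- the elements of the diagonal subgroup of `G₂` -/
def TG2 (x y : K) : GL chevG2.Idx K := (relsG2 K).hg 7 x * (relsG2 K).hg 6 y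

theorem TG2_mem_H {x y : K} (hx : x ≠ 0) (hy : y ≠ 0) : TG2 x y ∈ chevG2.diagonalSubgroup K :=
  Subgroup.mul_mem _ ((relsG2 K).hg_mem_H (by decide) hx) ((relsG2 K).hg_mem_H (by decide) hy)

theorem hg_commG2 {r s : ℕ} (hr : r < 12) (hs : s < 12) {x y : K} (hx : x ≠ 0) (hy : y ≠ 0) :
    (relsG2 K).hg r x * (relsG2 K).hg s y = (relsG2 K).hg s y * (relsG2 K).hg r x :=
  (relsG2 K).H_comm ((relsG2 K).hg_mem_H hr hx) ((relsG2 K).hg_mem_H hs hy)

theorem TG2_mul {x y x' y' : K} (hx : x ≠ 0) (hy : y ≠ 0) (hx' : x' ≠ 0) (hy' : y' ≠ 0) :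
    TG2 x y * TG2 x' y' = TG2 (x * x') (y * y') := by
  unfold TG2
  rw [← (relsG2 K).hg_mul (by decide) hx hx', ← (relsG2 K).hg_mul (by decide) hy hy']
  calc (relsG2 K).hg 7 x * (relsG2 K).hg 6 y * ((relsG2 K).hg 7 x' * (relsG2 K).hg 6 y')
      = (relsG2 K).hg 7 x * ((relsG2 K).hg 6 y * (relsG2 K).hg 7 x') * (relsG2 K).hg 6 y' := by group
    _ = (relsG2 K).hg 7 x * ((relsG2 K).hg 7 x' * (relsG2 K).hg 6 y) * (relsG2 K).hg 6 y' := by
        rw [hg_commG2 (by decide) (by decide) hy hx']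
    _ = _ := by group

theorem TG2_conj {x y : K} (hx : x ≠ 0) (hy : y ≠ 0) {s : ℕ} (hs : s < 12) (t : K) :
    TG2 x y * (relsG2 K).xg s t * (TG2 x y)⁻¹ =
      (relsG2 K).xg s (x ^ pairing chevG2 7 s * (y ^ pairing chevG2 6 s * t)) := by
  unfold TG2
  rw [← (relsG2 K).hg_conj (r := 7) (by decide) hs hx, ← (relsG2 K).hg_conj (r := 6) (by decide) hs hy]
  group

theorem xg_injG2 {r : ℕ} (hr : r < 12) {a b : K} (h : (relsG2 K).xg r a = (relsG2 K).xg r b) : a = b := by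
  have h1 : (relsG2 K).xg r (a - b) = 1 := by
    rw [sub_eq_add_neg, ← (relsG2 K).xg_add, ← (relsG2 K).xg_inv, h, mul_inv_cancel]
  rw [(relsG2 K).xg_eq_one_iff hr] at h1
  exact sub_eq_zero.mp h1

theorem TG2_inj {x y x' y' : K} (hx : x ≠ 0) (hy : y ≠ 0) (hx' : x' ≠ 0) (hy' : y' ≠ 0)
    (h : TG2 x y = TG2 x' y') : x = x' ∧ y = y' := by
  have p1 : pairing chevG2 6 11 = 1 := by decide +kernel
  have p2 : pairing chevG2 7 11 = 0 := by decide +kernel
  have p3 : pairing chevG2 6 9 = 0 := by decide +kernel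
  have p4 : pairing chevG2 7 9 = 1 := by decide +kernel
  have e1 := TG2_conj hx hy (s := 11) (by decide) 1
  have e2 := TG2_conj hx hy (s := 9) (by decide) 1
  rw [h, TG2_conj hx' hy' (by decide)] at e1 e2
  have a1 := xg_injG2 (by decide) e1
  have a2 := xg_injG2 (by decide) e2
  rw [p1, p2] at a1
  rw [p3, p4] at a2
  simp only [zpow_zero, zpow_one, one_mul, mul_one] at a1 a2
  exact ⟨a2.symm, a1.symm⟩

theorem H_formG2 {h : GL chevG2.Idx K} (hh : h ∈ chevG2.diagonalSubgroup K) :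
    ∃ x y : K, x ≠ 0 ∧ y ≠ 0 ∧ h = TG2 x y := by
  obtain ⟨c, hc, e⟩ := (relsG2 K).H_eq_tor hh
  refine ⟨c 0, c 1, hc 0, hc 1, ?_⟩
  rw [← (relsG2 K).wordMat_tor c (fun i _ => hc i), (relsG2 K).eq_wg_iff] at e
  rw [e]
  have : (List.range chevG2.rank).flatMap (fun i => chevG2.hWord (chevG2.simple i) (c i)) =
      chevG2.hWord 7 (c 0) ++ chevG2.hWord 6 (c 1) := by
    show (List.range 2).flatMap (fun i => chevG2.hWord (chevG2.simple i) (c i)) = _
    simp only [List.range_succ, List.range_zero, List.nil_append, List.flatMap_append, List.flatMap_cons,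
      List.flatMap_nil, List.append_nil]
    rfl
  rw [this, (relsG2 K).wg_append]
  rfl

theorem hg_eq_TG2 {r : ℕ} (hr : r < 12) (a b : ℕ)
    (hp : ∀ s < 12, pairing chevG2 r s = (a : ℤ) * pairing chevG2 7 s + (b : ℤ) * pairing chevG2 6 s)
    {z : K} (hz : z ≠ 0) : (relsG2 K).hg r z = TG2 (z ^ a) (z ^ b) := by
  apply Units.ext
  unfold TG2
  rw [Units.val_mul, (relsG2 K).coe_hg, (relsG2 K).coe_hg, (relsG2 K).coe_hg, (relsG2 K).hmat r hr z hz,
    (relsG2 K).hmat 7 (by decide) _ (pow_ne_zero _ hz), (relsG2 K).hmat 6 (by decide) _ (pow_ne_zero _ hz),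
    Matrix.diagonal_mul_diagonal]
  congr 1
  funext i
  rcases i with i | s
  · simp [wtI]
  · simp only [wtI, Sum.elim_inr]
    rw [hp s s.2, zpow_add₀ hz, zpow_mul, zpow_mul, zpow_natCast, zpow_natCast]

theorem hg8_eq {z : K} (hz : z ≠ 0) : (relsG2 K).hg 8 z = TG2 z (z ^ 3) := by
  have := hg_eq_TG2 (r := 8) (by decide) 1 3 (by decide +kernel) hz
  rwa [pow_one] at this

theorem hg10_eq {z : K} (hz : z ≠ 0) : (relsG2 K).hg 10 z = TG2 z z := by
  have := hg_eq_TG2 (r := 10) (by decide) 1 1 (by decide +kernel) hz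
  rwa [pow_one] at this

end

namespace Ree
variable {K : Type*} [Field K] [Fintype K] [CharP K 3] (S : Ree K)

omit [Fintype K] [CharP K 3] in
theorem phi_ne_zero {y : K} (hy : y ≠ 0) : S.φ y ≠ 0 := (map_ne_zero S.φ).mpr hy

/-- the fixed points in the diagonal subgroup -/
def hR (y : K) : GL chevG2.Idx K := TG2 (S.φ y) y

omit [Fintype K] [CharP K 3] in
theorem hR_mul {y z : K} (hy : y ≠ 0) (hz : z ≠ 0) : S.hR y * S.hR z = S.hR (y * z) := by
  unfold hR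
  rw [TG2_mul (S.phi_ne_zero hy) hy (S.phi_ne_zero hz) hz, map_mul]

omit [Fintype K] [CharP K 3] in
theorem hR_inj {y z : K} (hy : y ≠ 0) (hz : z ≠ 0) (h : S.hR y = S.hR z) : y = z :=
  (TG2_inj (S.phi_ne_zero hy) hy (S.phi_ne_zero hz) hz h).2

omit [Fintype K] [CharP K 3] in
theorem hR_mem_H {y : K} (hy : y ≠ 0) : S.hR y ∈ chevG2.diagonalSubgroup K := TG2_mem_H (S.phi_ne_zero hy) hy

theorem sg_TG2 {x y : K} (hx : x ≠ 0) (hy : y ≠ 0) : S.sg (TG2 x y) = TG2 (S.φ y) (S.φ x ^ 3) := by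
  unfold TG2
  rw [S.sg_mul ((relsG2 K).H_le_group ((relsG2 K).hg_mem_H (by decide) hx))
    ((relsG2 K).H_le_group ((relsG2 K).hg_mem_H (by decide) hy)), S.sg_hg (by decide), S.sg_hg (by decide)]
  show (relsG2 K).hg 6 (S.φ x ^ 3) * (relsG2 K).hg 7 (S.φ y ^ 1) = _
  rw [pow_one]
  exact hg_commG2 (by decide) (by decide) (pow_ne_zero _ (S.phi_ne_zero hx)) (S.phi_ne_zero hy)

theorem H_fixed {h : GL chevG2.Idx K} (hh : h ∈ chevG2.diagonalSubgroup K ⊓ S.Γ) : ∃ y : K, y ≠ 0 ∧ h = S.hR y := by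
  obtain ⟨x, y, hx, hy, rfl⟩ := H_formG2 hh.1
  have h1 := hh.2.2
  rw [S.sg_TG2 hx hy] at h1
  obtain ⟨e1, e2⟩ := TG2_inj (S.phi_ne_zero hy) (pow_ne_zero _ (S.phi_ne_zero hx)) hx hy h1
  exact ⟨y, hy, by rw [hR, e1]⟩

end Ree

end Cfsg.Agent.Chev
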