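import Cfsg.Agent.Chev.TwG12

/-!
# The Ree groups `²G₂`: the order of the diagonal subgroup
-/

set_option autoImplicit false
set_option linter.unusedSectionVars false
set_option linter.unusedVariables false
set_option maxRecDepth 100000

namespace Cfsg.Agent.Chev
open Cfsg.Lie
open scoped MatrixGroups

namespace Ree
variable {K : Type*} [Field K] [Fintype K] [CharP K 3] (S : Ree K)

omit [Fintype K] in
theorem comm_8_10 : ∀ r ∈ [8, 3], ∀ s ∈ [10, 1], ∀ t u : K,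
    Commute ((relsG2 K).xg r t) ((relsG2 K).xg s u) := by
  intro r hr s hs t u
  have key : ∀ r ∈ [8, 3], ∀ s ∈ [10, 1], r < 12 ∧ s < 12 ∧ s ≠ r ∧ s ≠ chevG2.neg r ∧
      ∀ c ∈ chevG2.commTerms r s, (3 : ℤ) ∣ c.2.1 := by decide +kernel
  obtain ⟨a, b, h, c, d⟩ := key r hr s hs
  exact xg_comm_char3 a b h c d t u

omit [Fintype K] in
theorem ng_comm_8_10 (t u : K) : Commute ((relsG2 K).ng 8 t) ((relsG2 K).ng 10 u) := by
  rw [(relsG2 K).ng_eq, (relsG2 K).ng_eq]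
  show Commute ((relsG2 K).xg 8 t * (relsG2 K).xg 3 (-t⁻¹) * (relsG2 K).xg 8 t)
    ((relsG2 K).xg 10 u * (relsG2 K).xg 1 (-u⁻¹) * (relsG2 K).xg 10 u)
  have h := comm_8_10 (K := K)
  apply Commute.mul_left (Commute.mul_left _ _) <;>
  apply Commute.mul_right (Commute.mul_right _ _) <;> apply h <;> simp

omit [Fintype K] in
/-- the monomial elements attached to `x_{a+b}(u^θ) x_{3a+b}(u)` -/
theorem nbeta_eq (u : K) : S.uR 0 u 0 * S.vR 0 u⁻¹ 0 * S.uR 0 u 0 = (relsG2 K).ng 8 (S.φ u) * (relsG2 K).ng 10 u := by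
  have e1 : S.uR 0 u 0 = (relsG2 K).xg 8 (S.φ u) * (relsG2 K).xg 10 u := by
    simp [uR, PU, Rels.xg_zero]
  have e2 : S.vR 0 u⁻¹ 0 = (relsG2 K).xg 3 (-(S.φ u)⁻¹) * (relsG2 K).xg 1 (-u⁻¹) := by
    simp [vR, PV, Rels.xg_zero]
  rw [e1, e2, (relsG2 K).ng_eq, (relsG2 K).ng_eq]
  show _ = (relsG2 K).xg 8 (S.φ u) * (relsG2 K).xg 3 (-(S.φ u)⁻¹) * (relsG2 K).xg 8 (S.φ u) *
    ((relsG2 K).xg 10 u * (relsG2 K).xg 1 (-u⁻¹) * (relsG2 K).xg 10 u)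
  have h := comm_8_10 (K := K)
  have c1 : Commute ((relsG2 K).xg 3 (-(S.φ u)⁻¹)) ((relsG2 K).xg 10 u) := h 3 (by simp) 10 (by simp) _ _
  have c2 : Commute ((relsG2 K).xg 8 (S.φ u)) ((relsG2 K).xg 10 u) := h 8 (by simp) 10 (by simp) _ _
  have c3 : Commute ((relsG2 K).xg 8 (S.φ u)) ((relsG2 K).xg 1 (-u⁻¹)) := h 8 (by simp) 1 (by simp) _ _
  generalize (relsG2 K).xg 8 (S.φ u) = A at *
  generalize (relsG2 K).xg 3 (-(S.φ u)⁻¹) = B at *
  generalize (relsG2 K).xg 10 u = C at *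
  generalize (relsG2 K).xg 1 (-u⁻¹) = E at *
  calc A * C * (B * E) * (A * C) = A * (C * B) * (E * A) * C := by group
    _ = A * (B * C) * (A * E) * C := by rw [c1.eq, c3.eq]
    _ = A * B * (C * A) * E * C := by group
    _ = A * B * (A * C) * E * C := by rw [c2.eq]
    _ = _ := by group

theorem hbeta_mem {u : K} (hu : u ≠ 0) : (relsG2 K).hg 8 (S.φ u) * (relsG2 K).hg 10 u ∈ S.G1 := by
  have e : (relsG2 K).hg 8 (S.φ u) * (relsG2 K).hg 10 u =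
      ((relsG2 K).ng 8 (S.φ u) * (relsG2 K).ng 10 u) * ((relsG2 K).ng 8 (S.φ (-1)) * (relsG2 K).ng 10 (-1)) := by
    rw [(relsG2 K).hg_eq, (relsG2 K).hg_eq, map_neg, map_one]
    have c := ng_comm_8_10 (K := K) (-1) u
    generalize (relsG2 K).ng 8 (S.φ u) = A at *
    generalize (relsG2 K).ng 8 (-1) = B at *
    generalize (relsG2 K).ng 10 u = C at *
    generalize (relsG2 K).ng 10 (-1) = E at *
    calc A * B * (C * E) = A * (B * C) * E := by group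
      _ = A * (C * B) * E := by rw [c.eq]
      _ = _ := by group
  rw [e, ← S.nbeta_eq, ← S.nbeta_eq]
  exact Subgroup.mul_mem _
    (Subgroup.mul_mem _ (Subgroup.mul_mem _ (S.uR_mem_G1 _ _ _) (S.vR_mem_G1 _ _ _)) (S.uR_mem_G1 _ _ _))
    (Subgroup.mul_mem _ (Subgroup.mul_mem _ (S.uR_mem_G1 _ _ _) (S.vR_mem_G1 _ _ _)) (S.uR_mem_G1 _ _ _))

theorem hR_beta {u : K} (hu : u ≠ 0) : S.hR (S.φ u ^ 3 * u) ∈ S.G1 := by
  have h1 := S.hbeta_mem hu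
  have hp := S.phi_ne_zero hu
  rw [hg8_eq hp, hg10_eq hu, TG2_mul hp (pow_ne_zero _ hp) hu hu] at h1
  have : S.hR (S.φ u ^ 3 * u) = TG2 (S.φ u * u) (S.φ u ^ 3 * u) := by
    unfold hR
    rw [map_mul, map_pow, S.phi_phi, mul_comm]
  rwa [this]

theorem hR_sq {w : K} (hw : w ≠ 0) : S.hR (w ^ 2) ∈ S.G1 := by
  have hp := S.phi_ne_zero hw
  have h1 := S.hR_beta (u := S.φ w ^ 3 * w⁻¹) (mul_ne_zero (pow_ne_zero _ hp) (inv_ne_zero hw))
  have : S.φ (S.φ w ^ 3 * w⁻¹) ^ 3 * (S.φ w ^ 3 * w⁻¹) = w ^ 2 := by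
    rw [map_mul, map_pow, S.phi_phi, map_inv₀]
    field_simp
  rwa [this] at h1

theorem hR_neg_one : S.hR (-1) ∈ S.G1 := by
  have e := wg_eq_of_chk3 (F := K) wordL3 wordR3 (by decide) (by decide) chk_word3
  have a1 : S.uR 0 1 0 = (relsG2 K).wg
      (([(7,0),(6,0),(8,1),(9,0),(10,1),(11,0)] : List (ℕ × ℕ)).map fun p => (p.1, cv3 K p.2)) := by
    simp [uR, PU, cv3, Rels.wg_cons, Rels.wg_nil, mul_assoc]
  have a2 : S.vR 0 1 0 = (relsG2 K).wg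
      (([(4,0),(5,0),(3,2),(2,0),(1,2),(0,0)] : List (ℕ × ℕ)).map fun p => (p.1, cv3 K p.2)) := by
    simp [vR, PV, cv3, Rels.wg_cons, Rels.wg_nil, mul_assoc]
  have a3 : S.uR (-1) (-1) 0 = (relsG2 K).wg
      (([(7,2),(6,2),(8,0),(9,2),(10,2),(11,0)] : List (ℕ × ℕ)).map fun p => (p.1, cv3 K p.2)) := by
    simp [uR, PU, cv3, Rels.wg_cons, Rels.wg_nil, mul_assoc]
  have a4 : S.vR 1 (-1) 0 = (relsG2 K).wg
      (([(4,2),(5,2),(3,0),(2,2),(1,1),(0,0)] : List (ℕ × ℕ)).map fun p => (p.1, cv3 K p.2)) := by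
    simp [vR, PV, cv3, Rels.wg_cons, Rels.wg_nil, mul_assoc]
  have eL : (relsG2 K).wg (wordL3.map fun p => (p.1, cv3 K p.2)) =
      S.uR 0 1 0 * S.vR 0 1 0 * S.uR 0 1 0 * (S.uR (-1) (-1) 0 * S.vR 1 (-1) 0 * S.uR (-1) (-1) 0) := by
    rw [a1, a2, a3, a4, ← (relsG2 K).wg_append, ← (relsG2 K).wg_append, ← (relsG2 K).wg_append,
      ← (relsG2 K).wg_append, ← (relsG2 K).wg_append]
    rfl
  have eR : (relsG2 K).wg (wordR3.map fun p => (p.1, cv3 K p.2)) = (relsG2 K).hg 6 (-1) * (relsG2 K).hg 7 (-1) := by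
    rw [(relsG2 K).hg_eq, (relsG2 K).hg_eq, (relsG2 K).ng_eq, (relsG2 K).ng_eq]
    have n6 : chevG2.neg 6 = 5 := by decide +kernel
    have n7 : chevG2.neg 7 = 4 := by decide +kernel
    rw [n6, n7]
    simp [wordR3, cv3, Rels.wg_cons, Rels.wg_nil, mul_assoc, inv_neg]
  have h1 : S.hR (-1) = (relsG2 K).hg 6 (-1) * (relsG2 K).hg 7 (-1) := by
    unfold hR TG2
    rw [map_neg, map_one]
    exact hg_commG2 (by decide) (by decide) (by simp) (by simp)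
  rw [h1, ← eR, ← e, eL]
  exact Subgroup.mul_mem _
    (Subgroup.mul_mem _ (Subgroup.mul_mem _ (S.uR_mem_G1 _ _ _) (S.vR_mem_G1 _ _ _)) (S.uR_mem_G1 _ _ _))
    (Subgroup.mul_mem _ (Subgroup.mul_mem _ (S.uR_mem_G1 _ _ _) (S.vR_mem_G1 _ _ _)) (S.uR_mem_G1 _ _ _))

omit [CharP K 3] in
theorem sq_or_neg_sq (hq : Fintype.card K % 4 = 3) {y : K} (hy : y ≠ 0) : ∃ w : K, w ≠ 0 ∧ (y = w ^ 2 ∨ y = -1 * w ^ 2) := by
  have hc : ringChar K ≠ 2 := by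
    intro h
    have := FiniteField.even_card_of_char_two h
    omega
  obtain ⟨j, hj⟩ : ∃ j, Fintype.card K / 2 = 2 * j + 1 := ⟨Fintype.card K / 4, by omega⟩
  have key : ∀ z : K, z ≠ 0 → z ^ (2 * j + 1) = 1 → z = (z ^ (j + 1)) ^ 2 := by
    intro z hz h
    rw [← pow_mul, show (j + 1) * 2 = (2 * j + 1) + 1 by ring, pow_succ, h, one_mul]
  rcases FiniteField.pow_dichotomy hc hy with h | h
  · rw [hj] at h
    exact ⟨y ^ (j + 1), pow_ne_zero _ hy, Or.inl (key y hy h)⟩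
  · rw [hj] at h
    have h2 : (-y) ^ (2 * j + 1) = 1 := by
      rw [Odd.neg_pow ⟨j, rfl⟩, h, neg_neg]
    refine ⟨(-y) ^ (j + 1), pow_ne_zero _ (neg_ne_zero.mpr hy), Or.inr ?_⟩
    rw [← key (-y) (neg_ne_zero.mpr hy) h2]
    ring

theorem hR_mem_G1 (hq : Fintype.card K % 4 = 3) {y : K} (hy : y ≠ 0) : S.hR y ∈ S.G1 := by
  obtain ⟨w, hw, rfl | rfl⟩ := sq_or_neg_sq hq hy
  · exact S.hR_sq hw
  · rw [← S.hR_mul (by simp) (pow_ne_zero _ hw)]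
    exact Subgroup.mul_mem _ S.hR_neg_one (S.hR_sq hw)

theorem mem_H1_iff (hq : Fintype.card K % 4 = 3) (g : GL chevG2.Idx K) :
    g ∈ chevG2.diagonalSubgroup K ⊓ S.G1 ↔ ∃ y : K, y ≠ 0 ∧ g = S.hR y := by
  constructor
  · intro h
    exact S.H_fixed ⟨h.1, S.G1_le_Γ h.2⟩
  · rintro ⟨y, hy, rfl⟩
    exact ⟨S.hR_mem_H hy, S.hR_mem_G1 hq hy⟩

theorem card_H1 (hq : Fintype.card K % 4 = 3) :
    Nat.card ↥(chevG2.diagonalSubgroup K ⊓ S.G1) = Fintype.card K - 1 := by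
  let ψ : Kˣ → ↥(chevG2.diagonalSubgroup K ⊓ S.G1) := fun y =>
    ⟨S.hR (y : K), (S.mem_H1_iff hq _).mpr ⟨_, y.ne_zero, rfl⟩⟩
  have hψ : Function.Bijective ψ := by
    constructor
    · intro y z h
      exact Units.ext (S.hR_inj y.ne_zero z.ne_zero (congrArg Subtype.val h))
    · rintro ⟨g, hg⟩
      obtain ⟨y, hy, rfl⟩ := (S.mem_H1_iff hq g).mp hg
      exact ⟨Units.mk0 y hy, rfl⟩
  rw [← Nat.card_congr (Equiv.ofBijective ψ hψ), Nat.card_units, Nat.card_eq_fintype_card]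

end Ree

theorem card_mod4 (m : ℕ) : 3 ^ (2 * m + 1) % 4 = 3 := by
  induction m with
  | zero => rfl
  | succ m ih =>
    rw [show 2 * (m + 1) + 1 = (2 * m + 1) + 2 by ring, pow_add]
    omega

end Cfsg.Agent.Chev
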