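import Cfsg.Agent.Chev.TwG13

/-!
# The Ree groups `²G₂`: the order
-/

set_option autoImplicit false
set_option linter.unusedSectionVars false
set_option linter.unusedVariables false
set_option maxRecDepth 100000

namespace Cfsg.Agent.Chev
open Cfsg.Lie
open scoped MatrixGroups

namespace Ree
variable {K : Type*} [Field K] [Fintype K] [CharP K 3] (S : Ree K)

/-- the factorization of `B¹` -/
theorem B1_decomp {g : GL chevG2.Idx K} (hg : g ∈ chevG2.borelSubgroup K ⊓ S.G1) :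
    ∃ u ∈ chevG2.posUnipotent K ⊓ S.G1, ∃ h ∈ chevG2.diagonalSubgroup K ⊓ S.G1, g = u * h := by
  obtain ⟨hg, hg1⟩ := hg
  obtain ⟨u, hu, h, hh, rfl⟩ := exists_mul_of_mem_sup (relsG2 K).H_le_normalizer_U hg
  have hfix := (S.G1_le_Γ hg1).2
  rw [S.sg_mul ((relsG2 K).U_le_group hu) ((relsG2 K).H_le_group hh)] at hfix
  have e2 : u⁻¹ * S.sg u = h * (S.sg h)⁻¹ := by
    calc u⁻¹ * S.sg u = u⁻¹ * (S.sg u * S.sg h) * (S.sg h)⁻¹ := by group
      _ = _ := by rw [hfix]; group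
  have h1 : u⁻¹ * S.sg u ∈ chevG2.posUnipotent K ⊓ chevG2.diagonalSubgroup K :=
    ⟨Subgroup.mul_mem _ (Subgroup.inv_mem _ hu) (S.sg_U u hu),
      e2 ▸ Subgroup.mul_mem _ hh (Subgroup.inv_mem _ (S.sg_H h hh))⟩
  rw [(relsG2 K).U_inf_H, Subgroup.mem_bot] at h1
  have hu1 : u ∈ S.G1 := S.U_fixed_le ⟨hu, (relsG2 K).U_le_group hu, (inv_mul_eq_one.mp h1).symm⟩
  have hh1 : h ∈ S.G1 := by
    have := Subgroup.mul_mem _ (Subgroup.inv_mem _ hu1) hg1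
    rwa [inv_mul_cancel_left] at this
  exact ⟨u, ⟨hu, hu1⟩, h, ⟨hh, hh1⟩, rfl⟩

theorem card_B1 : Nat.card ↥(chevG2.borelSubgroup K ⊓ S.G1) =
    Nat.card ↥(chevG2.posUnipotent K ⊓ S.G1) * Nat.card ↥(chevG2.diagonalSubgroup K ⊓ S.G1) := by
  let ψ : ↥(chevG2.posUnipotent K ⊓ S.G1) × ↥(chevG2.diagonalSubgroup K ⊓ S.G1) → ↥(chevG2.borelSubgroup K ⊓ S.G1) :=
    fun x => ⟨x.1.1 * x.2.1, Subgroup.mul_mem _ ((relsG2 K).U_le_B x.1.2.1) ((relsG2 K).H_le_B x.2.2.1),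
      Subgroup.mul_mem _ x.1.2.2 x.2.2.2⟩
  have hψ : Function.Bijective ψ := by
    constructor
    · rintro ⟨u, h⟩ ⟨u', h'⟩ e
      have e1 : u.1 * h.1 = u'.1 * h'.1 := congrArg Subtype.val e
      have e2 : u'.1⁻¹ * u.1 = h'.1 * h.1⁻¹ := by
        calc u'.1⁻¹ * u.1 = u'.1⁻¹ * (u.1 * h.1) * h.1⁻¹ := by group
          _ = _ := by rw [e1]; group
      have h1 : u'.1⁻¹ * u.1 ∈ chevG2.posUnipotent K ⊓ chevG2.diagonalSubgroup K :=
        ⟨Subgroup.mul_mem _ (Subgroup.inv_mem _ u'.2.1) u.2.1,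
          e2 ▸ Subgroup.mul_mem _ h'.2.1 (Subgroup.inv_mem _ h.2.1)⟩
      rw [(relsG2 K).U_inf_H, Subgroup.mem_bot] at h1
      have h2 : u = u' := Subtype.ext (inv_mul_eq_one.mp h1).symm
      have h3 : h = h' := by
        apply Subtype.ext
        rw [h1] at e2
        exact (mul_inv_eq_one.mp e2.symm).symm
      rw [h2, h3]
    · rintro ⟨g, hg⟩
      obtain ⟨u, hu, h, hh, rfl⟩ := S.B1_decomp hg
      exact ⟨⟨⟨u, hu⟩, ⟨h, hh⟩⟩, rfl⟩
  rw [← Nat.card_congr (Equiv.ofBijective ψ hψ), Nat.card_prod]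

theorem card_G1 : Nat.card ↥S.G1 = Nat.card ↥(chevG2.borelSubgroup K ⊓ S.G1) *
    (1 + Nat.card ↥(chevG2.posUnipotent K ⊓ S.G1)) := by
  obtain ⟨n0, hn0, hm0⟩ := S.exists_n0
  let ψ : ↥(chevG2.borelSubgroup K ⊓ S.G1) ⊕ (↥(chevG2.borelSubgroup K ⊓ S.G1) × ↥(chevG2.posUnipotent K ⊓ S.G1)) →
      ↥S.G1 := fun x => match x with
    | Sum.inl b => ⟨b.1, b.2.2⟩
    | Sum.inr (b, u) => ⟨b.1 * n0 * u.1, Subgroup.mul_mem _ (Subgroup.mul_mem _ b.2.2 hn0.2) u.2.2⟩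
  have hne : ∀ (b b' : ↥(chevG2.borelSubgroup K ⊓ S.G1)) (u : ↥(chevG2.posUnipotent K ⊓ S.G1)),
      b.1 ≠ b'.1 * n0 * u.1 := by
    intro b b' u e
    have h1 : n0 ∈ chevG2.borelSubgroup K ⊓ chevG2.monomialSubgroup K := by
      refine ⟨?_, hn0.1⟩
      have : n0 = b'.1⁻¹ * b.1 * u.1⁻¹ := by rw [e]; group
      rw [this]
      exact Subgroup.mul_mem _ (Subgroup.mul_mem _ (Subgroup.inv_mem _ b'.2.1) b.2.1)
        (Subgroup.inv_mem _ ((relsG2 K).U_le_B u.2.1))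
    rw [(relsG2 K).B_inf_N good2G2] at h1
    exact w0G2_ne_one (Rels.IsMono.unique (relsG2 K) hm0 (Rels.IsMono.of_tor (relsG2 K) ((relsG2 K).H_le_Tor h1)))
  have hψ : Function.Bijective ψ := by
    constructor
    · rintro (b | ⟨b, u⟩) (b' | ⟨b', u'⟩) e
      · have : b.1 = b'.1 := congrArg (fun x : ↥S.G1 => (x : GL chevG2.Idx K)) e
        rw [Subtype.ext this]
      · exact absurd (congrArg (fun x : ↥S.G1 => (x : GL chevG2.Idx K)) e) (hne b b' u')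
      · exact absurd (congrArg (fun x : ↥S.G1 => (x : GL chevG2.Idx K)) e).symm (hne b' b u)
      · have e1 : b.1 * n0 * u.1 = b'.1 * n0 * u'.1 := congrArg (fun x : ↥S.G1 => (x : GL chevG2.Idx K)) e
        obtain ⟨e2, e3⟩ := (relsG2 K).normal_form_unique b.2.1 b'.2.1 hm0
          (by rw [UU_negP_w0G2]; exact u.2.1) (by rw [UU_negP_w0G2]; exact u'.2.1) e1
        rw [Subtype.ext e2, Subtype.ext e3]
    · rintro ⟨g, hg⟩
      rcases S.G1_decomp hg with h | ⟨u1, hu1, n, hn, hmn, u, hu, e⟩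
      · exact ⟨Sum.inl ⟨g, h⟩, rfl⟩
      · refine ⟨Sum.inr (⟨u1 * (n * n0⁻¹), Subgroup.mul_mem _ (S.U1_le_B1 hu1)
          (S.H1_le_B1 (S.H1_of_two hn hn0 hmn hm0).1)⟩, ⟨u, hu⟩), ?_⟩
        apply Subtype.ext
        show u1 * (n * n0⁻¹) * n0 * u = g
        rw [e]; group
  rw [← Nat.card_congr (Equiv.ofBijective ψ hψ), Nat.card_sum, Nat.card_prod]
  ring

theorem card_G1' (hq : Fintype.card K % 4 = 3) : Nat.card ↥S.G1 =
    Fintype.card K ^ 3 * (Fintype.card K - 1) * (Fintype.card K ^ 3 + 1) := by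
  rw [S.card_G1, S.card_B1, S.card_U1, S.card_H1 hq]
  ring

end Ree

end Cfsg.Agent.Chev
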