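import Cfsg.Agent.Chev.TwG14

/-!
# The Ree groups `²G₂`: perfectness
-/

set_option autoImplicit false
set_option linter.unusedSectionVars false
set_option linter.unusedVariables false
set_option maxRecDepth 100000

namespace Cfsg.Agent.Chev
open Cfsg.Lie
open scoped MatrixGroups

namespace Ree
variable {K : Type*} [Field K] [Fintype K] [CharP K 3] (S : Ree K)

omit [Fintype K] in
theorem uR_mul_hi (t u v u' v' : K) : S.uR t u v * S.uR 0 u' v' = S.uR t (u + u') (v + v') := by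
  have e : S.uR 0 u' v' = (relsG2 K).xg 8 (S.φ u') * (relsG2 K).xg 9 (S.φ v') * (relsG2 K).xg 10 u' *
      (relsG2 K).xg 11 v' := by
    simp [uR, PU, Rels.xg_zero]
  rw [e]
  unfold uR PU
  rw [map_add, map_add, ← add_assoc, ← add_assoc]
  generalize S.φ t * t + S.φ u = A
  generalize S.φ t ^ 2 * t + S.φ v = B
  simp only [← (relsG2 K).xg_add]
  let g : Fin 8 → GL chevG2.Idx K := ![(relsG2 K).xg 8 A, (relsG2 K).xg 9 B,
    (relsG2 K).xg 10 u, (relsG2 K).xg 11 v, (relsG2 K).xg 8 (S.φ u'), (relsG2 K).xg 9 (S.φ v'),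
    (relsG2 K).xg 10 u', (relsG2 K).xg 11 v']
  have hg : ∀ i j, Commute (g i) (g j) := by
    intro i j
    fin_cases i <;> fin_cases j <;> exact comm_hiU _ (by simp) _ (by simp) _ _
  have hp : (([0, 1, 2, 3, 4, 5, 6, 7] : List (Fin 8)).map g).prod = (([0, 4, 1, 5, 2, 6, 3, 7] : List (Fin 8)).map g).prod := by
    apply List.Perm.prod_eq' (List.Perm.map _ (by decide))
    rw [List.pairwise_map]
    exact List.pairwise_of_forall_mem_list (fun i _ j _ => hg i j)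
  simp only [List.map_cons, List.map_nil, List.prod_cons, List.prod_nil, mul_one, g, Matrix.cons_val] at hp
  simp only [mul_assoc] at hp ⊢
  rw [hp]

theorem hR_conj_uR (hq : Fintype.card K % 4 = 3) {y : K} (hy : y ≠ 0) (t u v : K) :
    S.hR y * S.uR t u v * (S.hR y)⁻¹ = S.uR (y ^ 2 / S.φ y ^ 3 * t) (S.φ y ^ 3 / y * u) (y * v) := by
  have hp := S.phi_ne_zero hy
  have hH := S.hR_mem_H hy
  obtain ⟨χ, hχ⟩ := exists_chiG2 ((relsG2 K).H_le_Tor hH)
  have hval : ∀ s < 12, χ s = S.φ y ^ pairing chevG2 7 s * y ^ pairing chevG2 6 s := by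
    intro s hs
    have e1 := hχ s 1
    unfold hR at e1
    rw [TG2_conj hp hy hs] at e1
    have := xg_injG2 hs e1
    rw [mul_one, mul_one] at this
    exact this.symm
  have p1 : pairing chevG2 7 6 = -3 := by decide +kernel
  have p2 : pairing chevG2 6 6 = 2 := by decide +kernel
  have p3 : pairing chevG2 7 10 = 3 := by decide +kernel
  have p4 : pairing chevG2 6 10 = -1 := by decide +kernel
  have p5 : pairing chevG2 7 11 = 0 := by decide +kernel
  have p6 : pairing chevG2 6 11 = 1 := by decide +kernel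
  have c6 : χ 6 = y ^ 2 / S.φ y ^ 3 := by
    rw [hval 6 (by decide), p1, p2, zpow_neg, div_eq_mul_inv, mul_comm]
    norm_cast
  have c10 : χ 10 = S.φ y ^ 3 / y := by
    rw [hval 10 (by decide), p3, p4, zpow_neg, zpow_one, div_eq_mul_inv]
    norm_cast
  have c11 : χ 11 = y := by
    rw [hval 11 (by decide), p5, p6, zpow_zero, zpow_one, one_mul]
  have hmem : S.hR y * S.uR t u v * (S.hR y)⁻¹ ∈ chevG2.posUnipotent K ⊓ S.G1 :=
    ⟨(Subgroup.mem_normalizer_iff.mp ((relsG2 K).H_le_normalizer_U hH) _).mp (PU_mem_U _ _ _ _ _ _),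
      Subgroup.mul_mem _ (Subgroup.mul_mem _ (S.hR_mem_G1 hq hy) (S.uR_mem_G1 _ _ _))
        (Subgroup.inv_mem _ (S.hR_mem_G1 hq hy))⟩
  obtain ⟨t', u', v', e⟩ := (S.mem_U1_iff _).mp hmem
  rw [e]
  have e2 := e
  unfold uR at e2
  rw [conj_PU hχ] at e2
  obtain ⟨_, a6, _, _, a10, a11⟩ := PU_inj e2
  rw [← a6, ← a10, ← a11, c6, c10, c11]

theorem Q_le : ⁅S.G1, S.G1⁆ ≤ S.G1 := by
  rw [Subgroup.commutator_le]
  intro a ha b hb
  rw [commutatorElement_def]
  exact Subgroup.mul_mem _ (Subgroup.mul_mem _ (Subgroup.mul_mem _ ha hb) (Subgroup.inv_mem _ ha)) (Subgroup.inv_mem _ hb)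

theorem Q_conj {g x : GL chevG2.Idx K} (hg : g ∈ S.G1) (hx : x ∈ ⁅S.G1, S.G1⁆) : g * x * g⁻¹ ∈ ⁅S.G1, S.G1⁆ := by
  have h1 := Subgroup.commutator_mem_commutator hg (S.Q_le hx)
  rw [commutatorElement_def] at h1
  have := Subgroup.mul_mem _ h1 hx
  rwa [inv_mul_cancel_right] at this

omit [Fintype K] in
theorem uR_hi_inv (u v : K) : (S.uR 0 u v)⁻¹ = S.uR 0 (-u) (-v) := by
  rw [inv_eq_iff_mul_eq_one, S.uR_mul_hi, add_neg_cancel, add_neg_cancel]
  simp [uR, PU, Rels.xg_zero]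

omit [CharP K 3] in
theorem exists_cube_ne (hc : 3 < Fintype.card K) : ∃ y : K, y ^ 3 ≠ y := by
  classical
  by_contra hcon
  push Not at hcon
  have : (Finset.univ : Finset K) ⊆ {0, 1, -1} := by
    intro y _
    have h1 : y * (y - 1) * (y + 1) = 0 := by linear_combination hcon y
    simp only [Finset.mem_insert, Finset.mem_singleton]
    rcases mul_eq_zero.mp h1 with h2 | h2
    · rcases mul_eq_zero.mp h2 with h3 | h3
      · exact Or.inl h3
      · exact Or.inr (Or.inl (sub_eq_zero.mp h3))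
    · exact Or.inr (Or.inr (eq_neg_of_add_eq_zero_left h2))
  have h2 := Finset.card_le_card this
  rw [Finset.card_univ] at h2
  have h3 : ({0, 1, -1} : Finset K).card ≤ 3 := Finset.card_le_three
  omega

/-- the upper layers lie in the derived group -/
theorem uR_hi_mem (hq : Fintype.card K % 4 = 3) (hc : 3 < Fintype.card K) (u v : K) :
    S.uR 0 u v ∈ ⁅S.G1, S.G1⁆ := by
  obtain ⟨y, hy3⟩ := exists_cube_ne hc
  have hy : y ≠ 0 := by rintro rfl; simp at hy3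
  have hy1 : y - 1 ≠ 0 := by
    intro h
    rw [sub_eq_zero.mp h] at hy3
    simp at hy3
  have hχ : S.φ y ^ 3 / y - 1 ≠ 0 := by
    intro h
    have h1 : S.φ y ^ 3 = y := by
      have := sub_eq_zero.mp h
      rwa [div_eq_one_iff_eq hy] at this
    have h2 : S.φ y = y := by
      have := congrArg S.φ h1
      rw [map_pow, S.phi_phi] at this
      exact this.symm
    rw [h2] at h1
    exact hy3 h1
  have h3 := Subgroup.commutator_mem_commutator (S.hR_mem_G1 hq hy)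
    (S.uR_mem_G1 0 (u / (S.φ y ^ 3 / y - 1)) (v / (y - 1)))
  rw [commutatorElement_def, S.hR_conj_uR hq hy, S.uR_hi_inv, mul_zero, S.uR_mul_hi] at h3
  have e1 : S.φ y ^ 3 / y * (u / (S.φ y ^ 3 / y - 1)) + -(u / (S.φ y ^ 3 / y - 1)) = u := by
    generalize S.φ y ^ 3 / y = c at *
    field_simp
    ring
  have e2 : y * (v / (y - 1)) + -(v / (y - 1)) = v := by
    field_simp
    ring
  rwa [e1, e2] at h3

omit [Fintype K] [CharP K 3] in
theorem chi6_surj {z : K} (hz : z ≠ 0) : ∃ y : K, y ≠ 0 ∧ y ^ 2 / S.φ y ^ 3 = z := by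
  have hp := S.phi_ne_zero hz
  refine ⟨S.φ z ^ 3 * z ^ 2, mul_ne_zero (pow_ne_zero _ hp) (pow_ne_zero _ hz), ?_⟩
  rw [map_mul, map_pow, map_pow, S.phi_phi]
  field_simp

theorem uR_mem_Q (hq : Fintype.card K % 4 = 3) (hc : 3 < Fintype.card K) (t u v : K) :
    S.uR t u v ∈ ⁅S.G1, S.G1⁆ := by
  by_cases ht : t = 0
  · rw [ht]; exact S.uR_hi_mem hq hc u v
  -- an element of the derived group with non-zero first coordinate
  obtain ⟨y, hy, hy6⟩ := S.chi6_surj (z := -1) (by simp)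
  have h3 := Subgroup.commutator_mem_commutator (Subgroup.inv_mem _ (S.uR_mem_G1 1 0 0)) (S.hR_mem_G1 hq hy)
  rw [commutatorElement_def, inv_inv] at h3
  have e1 : (S.uR 1 0 0)⁻¹ * S.hR y * S.uR 1 0 0 * (S.hR y)⁻¹ = (S.uR 1 0 0)⁻¹ * S.uR (-1) 0 0 := by
    have := S.hR_conj_uR hq hy 1 0 0
    rw [hy6, mul_one, mul_zero, mul_zero] at this
    rw [← this]; group
  rw [e1] at h3
  have hmem : (S.uR 1 0 0)⁻¹ * S.uR (-1) 0 0 ∈ chevG2.posUnipotent K ⊓ S.G1 :=
    ⟨Subgroup.mul_mem _ (Subgroup.inv_mem _ (PU_mem_U _ _ _ _ _ _)) (PU_mem_U _ _ _ _ _ _), S.Q_le h3⟩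
  obtain ⟨t0, u0, v0, e⟩ := (S.mem_U1_iff _).mp hmem
  have ht0 : t0 ≠ 0 := by
    rintro rfl
    have e2 : S.uR (-1) 0 0 = S.uR 1 0 0 * S.uR 0 u0 v0 := by rw [← e]; group
    rw [S.uR_mul_hi] at e2
    have h4 := (S.uR_inj e2).1
    have h5 : (2 : K) = 0 := by linear_combination -h4
    have h6 : (3 : K) = 0 := by exact_mod_cast (CharP.cast_eq_zero K 3)
    exact one_ne_zero (show (1 : K) = 0 by linear_combination h6 - h5)
  rw [e] at h3
  obtain ⟨y', hy', hy6'⟩ := S.chi6_surj (z := t / t0) (div_ne_zero ht ht0)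
  have h4 := S.Q_conj (S.hR_mem_G1 hq hy') h3
  rw [S.hR_conj_uR hq hy', hy6', div_mul_cancel₀ _ ht0] at h4
  have h5 := Subgroup.mul_mem _ h4 (S.uR_hi_mem hq hc (u - S.φ y' ^ 3 / y' * u0) (v - y' * v0))
  rw [S.uR_mul_hi, add_sub_cancel, add_sub_cancel] at h5
  exact h5

theorem vR_mem_Q (hq : Fintype.card K % 4 = 3) (hc : 3 < Fintype.card K) (t u v : K) :
    S.vR t u v ∈ ⁅S.G1, S.G1⁆ := by
  obtain ⟨n0, hn0, hm0⟩ := S.exists_n0
  have hmem : n0 * S.vR t u v * n0⁻¹ ∈ chevG2.posUnipotent K ⊓ S.G1 :=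
    ⟨mono_w0_conj_V hm0 _ (PV_mem_V _ _ _ _ _ _),
      Subgroup.mul_mem _ (Subgroup.mul_mem _ hn0.2 (S.vR_mem_G1 _ _ _)) (Subgroup.inv_mem _ hn0.2)⟩
  obtain ⟨t', u', v', e⟩ := (S.mem_U1_iff _).mp hmem
  have h1 := S.Q_conj (Subgroup.inv_mem _ hn0.2) (S.uR_mem_Q hq hc t' u' v')
  rw [← e] at h1
  have e2 : n0⁻¹ * (n0 * S.vR t u v * n0⁻¹) * n0⁻¹⁻¹ = S.vR t u v := by group
  rwa [e2] at h1

theorem perfect (hq : Fintype.card K % 4 = 3) (hc : 3 < Fintype.card K) : commutator ↥S.G1 = ⊤ := by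
  have h1 : S.G1 ≤ ⁅S.G1, S.G1⁆ := by
    conv_lhs => unfold G1
    rw [Subgroup.closure_le]
    rintro g ⟨t, u, v, rfl | rfl⟩
    · exact S.uR_mem_Q hq hc t u v
    · exact S.vR_mem_Q hq hc t u v
  apply Subgroup.map_injective S.G1.subtype_injective
  rw [commutator_def, Subgroup.map_commutator, ← MonoidHom.range_eq_map, Subgroup.range_subtype]
  exact le_antisymm S.Q_le h1

end Ree

theorem three_lt_card {m : ℕ} (hm : 1 ≤ m) : 3 < 3 ^ (2 * m + 1) := by
  calc 3 = 3 ^ 1 := by norm_num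
    _ < 3 ^ (2 * m + 1) := Nat.pow_lt_pow_right (by norm_num) (by omega)

end Cfsg.Agent.Chev
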