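import Cfsg.Agent.Chev.TwG15

/-!
# The Ree groups `²G₂`: the action of the diagonal subgroup on `U¹`
-/

set_option autoImplicit false
set_option linter.unusedSectionVars false
set_option linter.unusedVariables false
set_option maxRecDepth 100000

namespace Cfsg.Agent.Chev
open Cfsg.Lie
open scoped MatrixGroups

namespace Ree
variable {K : Type*} [Field K] [Fintype K] [CharP K 3] (S : Ree K)

omit [Fintype K] [CharP K 3] in
theorem hR_one : S.hR 1 = 1 := by
  have := S.hR_mul (y := 1) (z := 1) one_ne_zero one_ne_zero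
  rw [mul_one] at this
  exact mul_eq_left.mp this

/-- the parametrization of `H¹` -/
noncomputable def hRHom (hq : Fintype.card K % 4 = 3) : Kˣ →* ↥(chevG2.diagonalSubgroup K ⊓ S.G1) where
  toFun y := ⟨S.hR (y : K), (S.mem_H1_iff hq _).mpr ⟨_, y.ne_zero, rfl⟩⟩
  map_one' := Subtype.ext S.hR_one
  map_mul' y z := Subtype.ext (by
    show S.hR ((y * z : Kˣ) : K) = S.hR y * S.hR z
    rw [S.hR_mul y.ne_zero z.ne_zero]; rfl)

theorem hRHom_bijective (hq : Fintype.card K % 4 = 3) : Function.Bijective (S.hRHom hq) := by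
  constructor
  · intro y z h
    exact Units.ext (S.hR_inj y.ne_zero z.ne_zero (congrArg Subtype.val h))
  · rintro ⟨g, hg⟩
    obtain ⟨y, hy, rfl⟩ := (S.mem_H1_iff hq g).mp hg
    exact ⟨Units.mk0 y hy, rfl⟩

theorem H1_cyclic (hq : Fintype.card K % 4 = 3) : IsCyclic ↥(chevG2.diagonalSubgroup K ⊓ S.G1) :=
  isCyclic_of_surjective (S.hRHom hq) (S.hRHom_bijective hq).2

/-- the elements of `H¹` commuting with a non-identity element of `U¹` -/
theorem cent_cases (hq : Fintype.card K % 4 = 3) {y t u v : K} (hy : y ≠ 0)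
    (hc : S.hR y * S.uR t u v * (S.hR y)⁻¹ = S.uR t u v) :
    (t ≠ 0 → y = 1) ∧ (v ≠ 0 → y = 1) ∧ (u ≠ 0 → y = 1 ∨ y = -1) := by
  rw [S.hR_conj_uR hq hy] at hc
  obtain ⟨h1, h2, h3⟩ := S.uR_inj hc
  have hp := S.phi_ne_zero hy
  refine ⟨fun ht => ?_, fun hv => ?_, fun hu => ?_⟩
  · have e1 : y ^ 2 = S.φ y ^ 3 := by
      have : y ^ 2 / S.φ y ^ 3 = 1 := mul_right_cancel₀ ht (by rw [h1, one_mul])
      rwa [div_eq_one_iff_eq (pow_ne_zero _ hp)] at this
    have e2 : S.φ y ^ 2 = y := by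
      have := congrArg S.φ e1
      rwa [map_pow, map_pow, S.phi_phi] at this
    have e3 : y ^ 3 * (y - 1) = 0 := by
      have : y ^ 3 = y ^ 4 := by
        calc y ^ 3 = (S.φ y ^ 2) ^ 3 := by rw [e2]
          _ = (S.φ y ^ 3) ^ 2 := by ring
          _ = y ^ 4 := by rw [← e1]; ring
      linear_combination -this
    rcases mul_eq_zero.mp e3 with h | h
    · exact absurd h (pow_ne_zero _ hy)
    · exact sub_eq_zero.mp h
  · exact mul_right_cancel₀ hv (by rw [h3, one_mul])
  · have e1 : S.φ y ^ 3 = y := by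
      have : S.φ y ^ 3 / y = 1 := mul_right_cancel₀ hu (by rw [h2, one_mul])
      rwa [div_eq_one_iff_eq hy] at this
    have e2 : S.φ y = y := by
      have := congrArg S.φ e1
      rw [map_pow, S.phi_phi] at this
      exact this.symm
    rw [e2] at e1
    have e3 : y * ((y - 1) * (y + 1)) = 0 := by linear_combination e1
    rcases mul_eq_zero.mp e3 with h | h
    · exact absurd h hy
    · rcases mul_eq_zero.mp h with h | h
      · exact Or.inl (sub_eq_zero.mp h)
      · exact Or.inr (eq_neg_of_add_eq_zero_left h)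

theorem cent_cases' (hq : Fintype.card K % 4 = 3) {y t u v : K} (hy : y ≠ 0)
    (hc : S.hR y * S.uR t u v * (S.hR y)⁻¹ = S.uR t u v) (hne : S.uR t u v ≠ 1) : y = 1 ∨ y = -1 := by
  obtain ⟨h1, h2, h3⟩ := S.cent_cases hq hy hc
  by_cases ht : t = 0
  · by_cases hv : v = 0
    · by_cases hu : u = 0
      · exact absurd (by rw [ht, hu, hv, S.uR_zero]) hne
      · exact h3 hu
    · exact Or.inl (h2 hv)
  · exact Or.inl (h1 ht)

theorem odd_cent (hq : Fintype.card K % 4 = 3) : ∀ h ∈ chevG2.diagonalSubgroup K ⊓ S.G1, h ≠ 1 → Odd (orderOf h) →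
    (chevG2.posUnipotent K ⊓ S.G1) ⊓ Subgroup.centralizer {h} = ⊥ := by
  intro h hh hne hodd
  obtain ⟨y, hy, rfl⟩ := (S.mem_H1_iff hq h).mp hh
  rw [eq_bot_iff]
  rintro x ⟨hx, hxc⟩
  rw [Subgroup.mem_bot]
  by_contra hx1
  obtain ⟨t, u, v, rfl⟩ := (S.mem_U1_iff x).mp hx
  have hc : S.hR y * S.uR t u v * (S.hR y)⁻¹ = S.uR t u v := by
    rw [Subgroup.mem_centralizer_iff.mp hxc _ (Set.mem_singleton _)]; group
  rcases S.cent_cases' hq hy hc hx1 with rfl | rfl
  · exact hne S.hR_one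
  · have h2 : S.hR (-1) ^ 2 = 1 := by
      rw [pow_two, S.hR_mul hy hy]
      simp [S.hR_one]
    have h3 := orderOf_dvd_of_pow_eq_one h2
    have h4 : orderOf (S.hR (-1)) = 1 := by
      rcases (Nat.dvd_prime Nat.prime_two).mp h3 with h | h
      · exact h
      · rw [h] at hodd; exact absurd hodd (by decide)
    exact hne (orderOf_eq_one_iff.mp h4)

omit [CharP K 3] in
theorem card_odd_units (hq : Fintype.card K % 4 = 3) :
    2 * Nat.card {y : Kˣ // Odd (orderOf y)} = Fintype.card K - 1 := by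
  classical
  have hc : ringChar K ≠ 2 := by
    intro h
    have := FiniteField.even_card_of_char_two h
    omega
  obtain ⟨j, hj⟩ : ∃ j, Fintype.card K / 2 = 2 * j + 1 := ⟨Fintype.card K / 4, by omega⟩
  have hcard : Fintype.card Kˣ = 2 * (2 * j + 1) := by rw [Fintype.card_units]; omega
  have key : ∀ y : Kˣ, Odd (orderOf y) ↔ y ^ (2 * j + 1) = 1 := by
    intro y
    constructor
    · intro h
      have h1 : orderOf y ∣ 2 * (2 * j + 1) := by rw [← hcard]; exact orderOf_dvd_card
      have h2 : Nat.Coprime (orderOf y) 2 := Nat.Coprime.symm (Nat.coprime_two_left.mpr h)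
      exact orderOf_dvd_iff_pow_eq_one.mp (h2.dvd_of_dvd_mul_left h1)
    · intro h
      exact Odd.of_dvd_nat ⟨j, rfl⟩ (orderOf_dvd_of_pow_eq_one h)
  have hneg : ∀ y : Kˣ, Odd (orderOf y) ↔ ¬ Odd (orderOf (-y)) := by
    intro y
    rw [key, key, Odd.neg_pow ⟨j, rfl⟩]
    have h1 : (-1 : Kˣ) ≠ 1 := by
      intro h
      have h2 : (-1 : K) = 1 := congrArg Units.val h
      exact (Ring.neg_one_ne_one_of_char_ne_two hc) h2
    have hd := FiniteField.pow_dichotomy hc y.ne_zero
    rw [hj] at hd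
    constructor
    · intro h; rw [h]; exact h1
    · intro h
      rcases hd with hd | hd
      · exact Units.ext (by push_cast; exact hd)
      · exfalso; apply h
        apply Units.ext
        push_cast
        rw [hd, neg_neg]
  have e1 : Nat.card {y : Kˣ // Odd (orderOf y)} = Nat.card {y : Kˣ // ¬ Odd (orderOf y)} :=
    Nat.card_congr ((Equiv.neg Kˣ).subtypeEquiv (fun y => hneg y))
  have e2 := Nat.card_congr (Equiv.sumCompl (fun y : Kˣ => Odd (orderOf y)))
  rw [Nat.card_sum, ← e1, Nat.card_units, Nat.card_eq_fintype_card (α := K)] at e2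
  omega

theorem card_odd_H1 (hq : Fintype.card K % 4 = 3) :
    2 * Nat.card {h : ↥(chevG2.diagonalSubgroup K ⊓ S.G1) // Odd (orderOf h)} = Fintype.card K - 1 := by
  rw [← card_odd_units hq]
  congr 1
  let e : Kˣ ≃* ↥(chevG2.diagonalSubgroup K ⊓ S.G1) := MulEquiv.ofBijective (S.hRHom hq) (S.hRHom_bijective hq)
  exact (Nat.card_congr (e.toEquiv.subtypeEquiv (fun y => by
    show Odd (orderOf y) ↔ Odd (orderOf (e y))
    rw [MulEquiv.orderOf_eq]))).symm

end Ree

end Cfsg.Agent.Chev
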