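import Cfsg.Agent.Chev.TwG17

/-!
# The Ree groups `²G₂`: the Sylow 3-subgroups
-/

set_option autoImplicit false
set_option linter.unusedSectionVars false
set_option linter.unusedVariables false
set_option maxRecDepth 100000

namespace Cfsg.Agent.Chev
open Cfsg.Lie
open scoped MatrixGroups Pointwise

namespace Ree
variable {K : Type*} [Field K] [Fintype K] [CharP K 3] (S : Ree K)

/-- `U¹` as a subgroup of the Ree group -/
def U1 : Subgroup ↥S.G1 := (chevG2.posUnipotent K ⊓ S.G1).subgroupOf S.G1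

theorem card_U1' : Nat.card ↥S.U1 = Fintype.card K ^ 3 := by
  rw [← S.card_U1]
  exact Nat.card_congr (Subgroup.subgroupOfEquivOfLe (inf_le_right : chevG2.posUnipotent K ⊓ S.G1 ≤ S.G1)).toEquiv

theorem three_dvd_card : 3 ∣ Fintype.card K := by
  obtain ⟨n, hp, hn⟩ := FiniteField.card K 3
  rw [hn]; exact dvd_pow_self _ n.ne_zero

theorem U1_index (hq : Fintype.card K % 4 = 3) : S.U1.index = (Fintype.card K - 1) * (Fintype.card K ^ 3 + 1) := by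
  have h1 := S.U1.card_mul_index
  rw [S.card_U1', S.card_G1' hq, mul_assoc] at h1
  exact Nat.eq_of_mul_eq_mul_left (pow_pos Fintype.card_pos 3) h1

theorem not_dvd_index (hq : Fintype.card K % 4 = 3) : ¬ 3 ∣ S.U1.index := by
  rw [S.U1_index hq]
  intro h
  obtain ⟨a, ha⟩ := three_dvd_card (K := K)
  have hpos : 0 < Fintype.card K := Fintype.card_pos
  rcases (Nat.Prime.dvd_mul (by norm_num)).mp h with ⟨b, hb⟩ | ⟨b, hb⟩
  · omega
  · obtain ⟨c, hc⟩ : 3 ∣ Fintype.card K ^ 3 := dvd_pow ⟨a, ha⟩ (by norm_num)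
    omega

theorem U1_pgroup : IsPGroup 3 ↥S.U1 := by
  have : Fact (Nat.Prime 3) := ⟨by norm_num⟩
  obtain ⟨n, hp, hn⟩ := FiniteField.card K 3
  apply IsPGroup.of_card (n := n * 3)
  rw [S.card_U1', hn, pow_mul]

/-- conjugates of `U¹` by elements outside `B¹` meet `U¹` trivially -/
theorem U1_conj_inf {c u u' : GL chevG2.Idx K} (hc : c ∈ S.G1) (hcB : c ∉ chevG2.borelSubgroup K)
    (hu : u ∈ chevG2.posUnipotent K) (hu' : u' ∈ chevG2.posUnipotent K) (e : u = c * u' * c⁻¹) : u = 1 := by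
  rcases S.G1_decomp hc with h | ⟨u1, hu1, n, hn, hm, u2, hu2, rfl⟩
  · exact absurd h.1 hcB
  · have h1 : n * (u2 * u' * u2⁻¹) * n⁻¹ ∈ chevG2.negUnipotent K :=
      mono_w0_conj_U hm _ (Subgroup.mul_mem _ (Subgroup.mul_mem _ hu2.1 hu') (Subgroup.inv_mem _ hu2.1))
    have e2 : u1⁻¹ * u * u1 = n * (u2 * u' * u2⁻¹) * n⁻¹ := by rw [e]; group
    have h2 : u1⁻¹ * u * u1 ∈ chevG2.borelSubgroup K ⊓ chevG2.negUnipotent K :=
      ⟨(relsG2 K).U_le_B (Subgroup.mul_mem _ (Subgroup.mul_mem _ (Subgroup.inv_mem _ hu1.1) hu) hu1.1), e2 ▸ h1⟩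
    rw [(relsG2 K).B_inf_V, Subgroup.mem_bot] at h2
    calc u = u1 * (u1⁻¹ * u * u1) * u1⁻¹ := by group
      _ = 1 := by rw [h2]; group

theorem B_normalizes_U {b u : GL chevG2.Idx K} (hb : b ∈ chevG2.borelSubgroup K) (hu : u ∈ chevG2.posUnipotent K) :
    b * u * b⁻¹ ∈ chevG2.posUnipotent K := by
  obtain ⟨u1, hu1, h, hh, rfl⟩ := exists_mul_of_mem_sup (relsG2 K).H_le_normalizer_U hb
  have h1 := (Subgroup.mem_normalizer_iff.mp ((relsG2 K).H_le_normalizer_U hh) _).mp hu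
  have e : u1 * h * u * (u1 * h)⁻¹ = u1 * (h * u * h⁻¹) * u1⁻¹ := by group
  rw [e]
  exact Subgroup.mul_mem _ (Subgroup.mul_mem _ hu1 h1) (Subgroup.inv_mem _ hu1)

theorem sylow_TI (hq : Fintype.card K % 4 = 3) (P Q : Sylow 3 ↥S.G1) (hPQ : P ≠ Q) :
    (P : Subgroup ↥S.G1) ⊓ (Q : Subgroup ↥S.G1) = ⊥ := by
  have : Fact (Nat.Prime 3) := ⟨by norm_num⟩
  let S0 : Sylow 3 ↥S.G1 := S.U1_pgroup.toSylow (S.not_dvd_index hq)
  have hS0 : ∀ x : ↥S.G1, x ∈ S0 ↔ (x : GL chevG2.Idx K) ∈ chevG2.posUnipotent K := by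
    intro x
    show x ∈ S.U1 ↔ _
    unfold U1
    rw [Subgroup.mem_subgroupOf]
    exact ⟨fun h => h.1, fun h => ⟨h, x.2⟩⟩
  obtain ⟨g, rfl⟩ := MulAction.exists_smul_eq ↥S.G1 S0 P
  obtain ⟨g', rfl⟩ := MulAction.exists_smul_eq ↥S.G1 S0 Q
  have hmem : ∀ (a x : ↥S.G1), x ∈ a • S0 ↔ a⁻¹ * x * a ∈ S0 := by
    intro a x
    rw [← SetLike.mem_coe, ← Sylow.coe_coe, Sylow.coe_subgroup_smul, SetLike.mem_coe,
      Subgroup.mem_pointwise_smul_iff_inv_smul_mem]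
    simp [MulAut.smul_def]
    rfl
  rw [eq_bot_iff]
  rintro x ⟨hx1, hx2⟩
  rw [Subgroup.mem_bot]
  have h1 := (hS0 _).mp ((hmem g x).mp hx1)
  have h2 := (hS0 _).mp ((hmem g' x).mp hx2)
  simp only [Subgroup.coe_mul, Subgroup.coe_inv] at h1 h2
  by_cases hcB : ((g⁻¹ * g' : ↥S.G1) : GL chevG2.Idx K) ∈ chevG2.borelSubgroup K
  · exfalso
    apply hPQ
    ext z
    show z ∈ g • S0 ↔ z ∈ g' • S0
    rw [hmem, hmem, hS0, hS0]
    simp only [Subgroup.coe_mul, Subgroup.coe_inv] at hcB ⊢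
    constructor
    · intro h
      have := B_normalizes_U (Subgroup.inv_mem _ hcB) h
      have e : ((g : GL chevG2.Idx K)⁻¹ * g')⁻¹ * ((g : GL chevG2.Idx K)⁻¹ * z * g) * ((g : GL chevG2.Idx K)⁻¹ * g')⁻¹⁻¹ =
          (g' : GL chevG2.Idx K)⁻¹ * z * g' := by group
      rwa [e] at this
    · intro h
      have := B_normalizes_U hcB h
      have e : ((g : GL chevG2.Idx K)⁻¹ * g') * ((g' : GL chevG2.Idx K)⁻¹ * z * g') * ((g : GL chevG2.Idx K)⁻¹ * g')⁻¹ =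
          (g : GL chevG2.Idx K)⁻¹ * z * g := by group
      rwa [e] at this
  · have e : (g : GL chevG2.Idx K)⁻¹ * x * g =
        ((g⁻¹ * g' : ↥S.G1) : GL chevG2.Idx K) * ((g' : GL chevG2.Idx K)⁻¹ * x * g') *
          ((g⁻¹ * g' : ↥S.G1) : GL chevG2.Idx K)⁻¹ := by
      simp only [Subgroup.coe_mul, Subgroup.coe_inv]; group
    have h3 := S.U1_conj_inf (g⁻¹ * g').2 hcB h1 h2 e
    apply Subtype.ext
    show (x : GL chevG2.Idx K) = 1
    calc (x : GL chevG2.Idx K) = g * ((g : GL chevG2.Idx K)⁻¹ * x * g) * (g : GL chevG2.Idx K)⁻¹ := by group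
      _ = 1 := by rw [h3]; group

end Ree

end Cfsg.Agent.Chev
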