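import Cfsg.Agent.Chev.TwG1
import Cfsg.Agent.S1055

/-!
# The special graph automorphism of `G₂` in characteristic 3, II: blocks and the endomorphism
-/

set_option autoImplicit false
set_option linter.unusedSectionVars false
set_option linter.unusedVariables false
set_option maxRecDepth 100000

namespace Cfsg.Agent.Chev
open Cfsg.Lie
open scoped MatrixGroups

section blocks
variable {I : Type*} [Fintype I] [DecidableEq I] {m : ℕ} (e : Fin m ⊕ Fin m ≃ I) {K : Type*} [Field K]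

/-- block triangular matrices -/
def BT (M : Matrix I I K) : Prop := ∀ a b, M (e (Sum.inr a)) (e (Sum.inl b)) = 0

def Am (M : Matrix I I K) : Matrix (Fin m) (Fin m) K := Matrix.of fun a b => M (e (Sum.inl a)) (e (Sum.inl b))

def Qm (M : Matrix I I K) : Matrix (Fin m) (Fin m) K := Matrix.of fun a b => M (e (Sum.inr a)) (e (Sum.inr b))

theorem Am_apply (M : Matrix I I K) (a b : Fin m) : Am e M a b = M (e (Sum.inl a)) (e (Sum.inl b)) := rfl

theorem Qm_apply (M : Matrix I I K) (a b : Fin m) : Qm e M a b = M (e (Sum.inr a)) (e (Sum.inr b)) := rfl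

theorem sum_blocks (f : I → K) : ∑ k, f k = ∑ a, f (e (Sum.inl a)) + ∑ a, f (e (Sum.inr a)) := by
  rw [← Equiv.sum_comp e, Fintype.sum_sum_type]

theorem BT_one : BT e (1 : Matrix I I K) := by
  intro a b
  rw [Matrix.one_apply_ne]
  intro h
  exact absurd (e.injective h) (by simp)

theorem BT_mul {M N : Matrix I I K} (hM : BT e M) (hN : BT e N) : BT e (M * N) := by
  intro a b
  rw [Matrix.mul_apply, sum_blocks e]
  simp [hM a, hN _ b]

theorem Am_one : Am e (1 : Matrix I I K) = 1 := by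
  ext a b
  rw [Am_apply, Matrix.one_apply, Matrix.one_apply]
  simp

theorem Qm_one : Qm e (1 : Matrix I I K) = 1 := by
  ext a b
  rw [Qm_apply, Matrix.one_apply, Matrix.one_apply]
  simp

theorem Am_mul {M N : Matrix I I K} (hN : BT e N) : Am e (M * N) = Am e M * Am e N := by
  ext a b
  rw [Am_apply, Matrix.mul_apply, Matrix.mul_apply, sum_blocks e]
  simp [hN _ b, Am_apply]

theorem Qm_mul {M N : Matrix I I K} (hM : BT e M) : Qm e (M * N) = Qm e M * Qm e N := by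
  ext a b
  rw [Qm_apply, Matrix.mul_apply, Matrix.mul_apply, sum_blocks e]
  simp [hM a, Qm_apply]

variable (φ : K →+* K) (Gr : Subgroup (GL I K))

/-- the endomorphism determined by: the action of `σ g` on the submodule is the twisted action of `g` on the quotient -/
theorem exists_sigma (hBT : ∀ g ∈ Gr, BT e (g : Matrix I I K))
    (hf : ∀ g ∈ Gr, Am e (g : Matrix I I K) = 1 → g = 1)
    (ht : ∀ g ∈ Gr, ∃ g' ∈ Gr, (Qm e (g : Matrix I I K)).map φ = Am e (g' : Matrix I I K)) :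
    ∃ σ : ↥Gr →* ↥Gr, ∀ g g' : ↥Gr,
      σ g = g' ↔ (Qm e ((g : GL I K) : Matrix I I K)).map φ = Am e ((g' : GL I K) : Matrix I I K) := by
  have huniq : ∀ g' ∈ Gr, ∀ g'' ∈ Gr, Am e (g' : Matrix I I K) = Am e (g'' : Matrix I I K) → g' = g'' := by
    intro g' h' g'' h'' h
    have h1 : Am e ((g'⁻¹ * g'' : GL I K) : Matrix I I K) = 1 := by
      rw [Units.val_mul, Am_mul e (hBT _ h''), ← h, ← Am_mul e (hBT _ h'), ← Units.val_mul, inv_mul_cancel,
        Units.val_one, Am_one]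
    exact inv_mul_eq_one.mp (hf _ (Subgroup.mul_mem _ (Subgroup.inv_mem _ h') h'') h1)
  choose f hf1 hf2 using ht
  have hspec : ∀ g g' : ↥Gr, (⟨f g.1 g.2, hf1 g.1 g.2⟩ : ↥Gr) = g' ↔
      (Qm e ((g : GL I K) : Matrix I I K)).map φ = Am e ((g' : GL I K) : Matrix I I K) := by
    intro g g'
    constructor
    · intro h
      rw [← h]; exact hf2 g.1 g.2
    · intro h
      apply Subtype.ext
      exact huniq _ (hf1 g.1 g.2) _ g'.2 ((hf2 g.1 g.2).symm.trans h)
  refine ⟨MonoidHom.mk' (fun g => ⟨f g.1 g.2, hf1 g.1 g.2⟩) ?_, hspec⟩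
  intro a b
  rw [hspec]
  rw [Subgroup.coe_mul, Subgroup.coe_mul, Units.val_mul, Units.val_mul, Qm_mul e (hBT _ a.2),
    Am_mul e (hBT _ (hf1 b.1 b.2)), Matrix.map_mul, hf2 a.1 a.2, hf2 b.1 b.2]

end blocks

/-! ### type `G₂` -/

def eFunG2 : Fin 7 ⊕ Fin 7 → Fin 2 ⊕ Fin 12 :=
  Sum.elim ![Sum.inl 0, Sum.inr 2, Sum.inr 3, Sum.inr 4, Sum.inr 7, Sum.inr 8, Sum.inr 9]
    ![Sum.inl 1, Sum.inr 0, Sum.inr 1, Sum.inr 5, Sum.inr 6, Sum.inr 10, Sum.inr 11]

theorem eFunG2_bij : Function.Bijective eFunG2 := by decide +kernel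

noncomputable def eG2 : Fin 7 ⊕ Fin 7 ≃ chevG2.Idx := Equiv.ofBijective eFunG2 eFunG2_bij

/-- the symmetry of the root system -/
def rhoG2 : ℕ → ℕ := fun r => ([2, 3, 0, 1, 5, 4, 7, 6, 10, 11, 8, 9] : List ℕ).getD r 0

/-- 3 on short roots, 1 on long roots -/
def lamG2 : ℕ → ℕ := fun r => ([1, 1, 3, 3, 3, 1, 1, 3, 3, 3, 1, 1] : List ℕ).getD r 0

theorem rhoG2_lt : ∀ r < 12, rhoG2 r < 12 := by decide

theorem chkBTG2 : ∀ (r : Fin 12) (a b : Fin 7),
    peqMod 3 4 (xPoly chevG2 r (eFunG2 (Sum.inr a)) (eFunG2 (Sum.inl b))) [] = true := by decide +kernel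

theorem chkRelG2 : ∀ (r : Fin 12) (a b : Fin 7),
    peqMod 3 10 (xPoly chevG2 r (eFunG2 (Sum.inr a)) (eFunG2 (Sum.inr b)))
      ((xPoly chevG2 ⟨rhoG2 r, rhoG2_lt r r.2⟩ (eFunG2 (Sum.inl a)) (eFunG2 (Sum.inl b))).map
        fun km => (lamG2 r * km.1, km.2)) = true := by decide +kernel

end Cfsg.Agent.Chev
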