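import Cfsg.Agent.Chev.TwG18

/-!
# The Ree groups `²G₂`: cubes in `U`
-/

set_option autoImplicit false
set_option linter.unusedSectionVars false
set_option linter.unusedVariables false
set_option maxRecDepth 100000

namespace Cfsg.Agent.Chev
open Cfsg.Lie
open scoped MatrixGroups

section
variable {K : Type*} [Field K] [CharP K 3]

local notation "X" => Rels.xg (relsG2 K)

/-- the abelian normal subgroup of `U` -/
def PA (c d e f : K) : GL chevG2.Idx K := X 8 c * X 9 d * X 10 e * X 11 f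

omit [CharP K 3] in
theorem PU_eq_PA (a b c d e f : K) : PU a b c d e f = X 7 a * X 6 b * PA c d e f := by
  unfold PU PA; simp only [mul_assoc]

theorem PA_mul (c d e f c' d' e' f' : K) : PA c d e f * PA c' d' e' f' = PA (c + c') (d + d') (e + e') (f + f') := by
  unfold PA
  simp only [← (relsG2 K).xg_add]
  let g : Fin 8 → GL chevG2.Idx K := ![X 8 c, X 9 d, X 10 e, X 11 f, X 8 c', X 9 d', X 10 e', X 11 f']
  have hg : ∀ i j, Commute (g i) (g j) := by
    intro i j
    fin_cases i <;> fin_cases j <;> exact comm_hiU _ (by simp) _ (by simp) _ _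
  have hp : (([0, 1, 2, 3, 4, 5, 6, 7] : List (Fin 8)).map g).prod = (([0, 4, 1, 5, 2, 6, 3, 7] : List (Fin 8)).map g).prod := by
    apply List.Perm.prod_eq' (List.Perm.map _ (by decide))
    rw [List.pairwise_map]
    exact List.pairwise_of_forall_mem_list (fun i _ j _ => hg i j)
  simp only [List.map_cons, List.map_nil, List.prod_cons, List.prod_nil, mul_one, g, Matrix.cons_val] at hp
  simp only [mul_assoc] at hp ⊢
  rw [hp]

theorem three_zero : (3 : K) = 0 := by
  have := CharP.cast_eq_zero K 3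
  exact_mod_cast this

theorem swap87 (u t : K) : X 8 u * X 7 t = X 7 t * X 8 u * X 9 (2 * t * u) := by
  have h3 := (relsG2 K).comm_g (r := 7) (s := 8) (by decide) (by decide) (by decide) (by decide) t u
  have e : chevG2.commTerms 7 8 = [(9, -2, 1, 1), (10, -3, 2, 1), (11, 3, 1, 2)] := by decide +kernel
  unfold ChevalleyDatum.commWord at h3
  rw [e] at h3
  simp only [List.map_cons, List.map_nil, Rels.wg_cons, Rels.wg_nil, mul_one] at h3
  have e1 : ((-2 : ℤ) : K) * (-t) ^ 1 * u ^ 1 = 2 * t * u := by push_cast; ring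
  have e2 : ((-3 : ℤ) : K) * (-t) ^ 2 * u ^ 1 = 0 := by push_cast; rw [three_zero]; ring
  have e3 : ((3 : ℤ) : K) * (-t) ^ 1 * u ^ 2 = 0 := by push_cast; rw [three_zero]; ring
  rw [e1, e2, e3, (relsG2 K).xg_zero, (relsG2 K).xg_zero, mul_one, mul_one] at h3
  calc X 8 u * X 7 t = X 7 t * ((X 7 t)⁻¹ * X 8 u * X 7 t) := by group
    _ = _ := by rw [h3, ← mul_assoc]

omit [CharP K 3] in
theorem swap106 (u t : K) : X 10 u * X 6 t = X 6 t * X 10 u * X 11 (-(t * u)) := by
  have h3 := (relsG2 K).comm_g (r := 6) (s := 10) (by decide) (by decide) (by decide) (by decide) t u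
  have e : chevG2.commTerms 6 10 = [(11, 1, 1, 1)] := by decide +kernel
  unfold ChevalleyDatum.commWord at h3
  rw [e] at h3
  simp only [List.map_cons, List.map_nil, Rels.wg_cons, Rels.wg_nil, mul_one] at h3
  have e1 : ((1 : ℤ) : K) * (-t) ^ 1 * u ^ 1 = -(t * u) := by push_cast; ring
  rw [e1] at h3
  calc X 10 u * X 6 t = X 6 t * ((X 6 t)⁻¹ * X 10 u * X 6 t) := by group
    _ = _ := by rw [h3, ← mul_assoc]

theorem commC3 {r s : ℕ} (h : r < 12 ∧ s < 12 ∧ s ≠ r ∧ s ≠ chevG2.neg r ∧ ∀ c ∈ chevG2.commTerms r s, (3 : ℤ) ∣ c.2.1)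
    (t u : K) : X r t * X s u = X s u * X r t :=
  (xg_comm_char3 h.1 h.2.1 h.2.2.1 h.2.2.2.1 h.2.2.2.2 t u).eq

theorem PA_X7 (c d e f t : K) : PA c d e f * X 7 t = X 7 t * PA c (d + 2 * t * c) e f := by
  have c11 : X 11 f * X 7 t = X 7 t * X 11 f := commC3 (by decide +kernel) _ _
  have c10 : X 10 e * X 7 t = X 7 t * X 10 e := commC3 (by decide +kernel) _ _
  have c9 : X 9 d * X 7 t = X 7 t * X 9 d := commC3 (by decide +kernel) _ _
  unfold PA
  calc X 8 c * X 9 d * X 10 e * X 11 f * X 7 t = X 8 c * X 9 d * X 10 e * (X 11 f * X 7 t) := by simp only [mul_assoc]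
    _ = X 8 c * X 9 d * (X 10 e * X 7 t) * X 11 f := by rw [c11]; simp only [mul_assoc]
    _ = X 8 c * (X 9 d * X 7 t) * X 10 e * X 11 f := by rw [c10]; simp only [mul_assoc]
    _ = (X 8 c * X 7 t) * X 9 d * X 10 e * X 11 f := by rw [c9]; simp only [mul_assoc]
    _ = X 7 t * X 8 c * (X 9 (2 * t * c) * X 9 d) * X 10 e * X 11 f := by rw [swap87]; simp only [mul_assoc]
    _ = _ := by rw [(relsG2 K).xg_add, add_comm]; simp only [mul_assoc]

theorem PA_X6 (c d e f t : K) : PA c d e f * X 6 t = X 6 t * PA c d e (f - t * e) := by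
  have c11 : X 11 f * X 6 t = X 6 t * X 11 f := commC3 (by decide +kernel) _ _
  have c9 : X 9 d * X 6 t = X 6 t * X 9 d := commC3 (by decide +kernel) _ _
  have c8 : X 8 c * X 6 t = X 6 t * X 8 c := commC3 (by decide +kernel) _ _
  unfold PA
  calc X 8 c * X 9 d * X 10 e * X 11 f * X 6 t = X 8 c * X 9 d * X 10 e * (X 11 f * X 6 t) := by simp only [mul_assoc]
    _ = X 8 c * X 9 d * (X 10 e * X 6 t) * X 11 f := by rw [c11]; simp only [mul_assoc]
    _ = X 8 c * (X 9 d * X 6 t) * X 10 e * (X 11 (-(t * e)) * X 11 f) := by rw [swap106]; simp only [mul_assoc]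
    _ = (X 8 c * X 6 t) * X 9 d * X 10 e * (X 11 (-(t * e)) * X 11 f) := by rw [c9]; simp only [mul_assoc]
    _ = _ := by
      rw [c8, (relsG2 K).xg_add, show -(t * e) + f = f - t * e from by ring]; simp only [mul_assoc]

theorem PU_mulJ (a b c d e f a' b' c' d' e' f' : K) : ∃ e'' f'' : K,
    PU a b c d e f * PU a' b' c' d' e' f' =
      PU (a + a') (b + b') (c + c' + a' * b) (d + d' + a' ^ 2 * b + 2 * a' * c) e'' f'' := by
  have hs := swapU a' b (K := K)
  have hs' : X 6 b * X 7 a' = X 7 a' * X 6 b * PA (1 * a' * b) (1 * a' ^ 2 * b) (-1 * a' ^ 3 * b) (-1 * a' ^ 3 * b ^ 2) := hs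
  refine ⟨-1 * a' ^ 3 * b + e + e', -1 * a' ^ 3 * b ^ 2 + f - b' * (-1 * a' ^ 3 * b + e) + f', ?_⟩
  rw [PU_eq_PA, PU_eq_PA]
  calc X 7 a * X 6 b * PA c d e f * (X 7 a' * X 6 b' * PA c' d' e' f')
      = X 7 a * X 6 b * (PA c d e f * X 7 a') * X 6 b' * PA c' d' e' f' := by simp only [mul_assoc]
    _ = X 7 a * (X 6 b * X 7 a') * PA c (d + 2 * a' * c) e f * X 6 b' * PA c' d' e' f' := by
        rw [PA_X7]; simp only [mul_assoc]
    _ = X 7 a * X 7 a' * X 6 b * (PA (1 * a' * b) (1 * a' ^ 2 * b) (-1 * a' ^ 3 * b) (-1 * a' ^ 3 * b ^ 2) *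
          PA c (d + 2 * a' * c) e f) * X 6 b' * PA c' d' e' f' := by rw [hs']; simp only [mul_assoc]
    _ = X 7 (a + a') * X 6 b * (PA (1 * a' * b + c) (1 * a' ^ 2 * b + (d + 2 * a' * c)) (-1 * a' ^ 3 * b + e)
          (-1 * a' ^ 3 * b ^ 2 + f) * X 6 b') * PA c' d' e' f' := by
        rw [PA_mul, (relsG2 K).xg_add]; simp only [mul_assoc]
    _ = X 7 (a + a') * (X 6 b * X 6 b') * (PA (1 * a' * b + c) (1 * a' ^ 2 * b + (d + 2 * a' * c)) (-1 * a' ^ 3 * b + e)
          (-1 * a' ^ 3 * b ^ 2 + f - b' * (-1 * a' ^ 3 * b + e)) * PA c' d' e' f') := by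
        rw [PA_X6]; simp only [mul_assoc]
    _ = _ := by
        rw [PA_mul, (relsG2 K).xg_add, PU_eq_PA,
          show 1 * a' * b + c + c' = c + c' + a' * b from by ring,
          show 1 * a' ^ 2 * b + (d + 2 * a' * c) + d' = d + d' + a' ^ 2 * b + 2 * a' * c from by ring]

theorem PU_cube_ne [Fintype K] {a b c d e f : K} (ha : a ≠ 0) (hb : b ≠ 0) :
    PU a b c d e f * PU a b c d e f * PU a b c d e f ≠ 1 := by
  intro h
  obtain ⟨e1, f1, h1⟩ := PU_mulJ a b c d e f a b c d e f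
  rw [h1] at h
  obtain ⟨e2, f2, h2⟩ := PU_mulJ (a + a) (b + b) (c + c + a * b) (d + d + a ^ 2 * b + 2 * a * c) e1 f1 a b c d e f
  rw [h2] at h
  have h0 : (1 : GL chevG2.Idx K) = PU 0 0 0 0 0 0 := by simp [PU, Rels.xg_zero]
  rw [h0] at h
  have h9 := (PU_inj h).2.2.2.1
  have e9 : d + d + a ^ 2 * b + 2 * a * c + d + a ^ 2 * (b + b) + 2 * a * (c + c + a * b) =
      3 * (d + a ^ 2 * b + 2 * a * c) + 2 * (a ^ 2 * b) := by ring
  rw [e9, three_zero, zero_mul, zero_add] at h9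
  have h2' : (2 : K) ≠ 0 := by
    intro h2
    have : (1 : K) = 0 := by
      calc (1 : K) = 3 - 2 := by norm_num
        _ = 0 := by rw [three_zero, h2, sub_zero]
    exact one_ne_zero this
  rcases mul_eq_zero.mp h9 with h | h
  · exact h2' h
  · rcases mul_eq_zero.mp h with h | h
    · exact ha (pow_eq_zero_iff (by norm_num) |>.mp h)
    · exact hb h

end

end Cfsg.Agent.Chev
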