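import Cfsg.Agent.Chev.TwG20

/-!
# The Ree groups `²G₂`: the elements of order 3 in `U¹`
-/

set_option autoImplicit false
set_option linter.unusedSectionVars false
set_option linter.unusedVariables false
set_option maxRecDepth 100000

namespace Cfsg.Agent.Chev
open Cfsg.Lie
open scoped MatrixGroups

namespace Ree
variable {K : Type*} [Field K] [Fintype K] [CharP K 3] (S : Ree K)

theorem uR_cube_ne {t u v : K} (ht : t ≠ 0) : S.uR t u v ^ 3 ≠ 1 := by
  rw [pow_succ, pow_two]
  exact PU_cube_ne (S.phi_ne_zero ht) ht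

theorem uR_hi_cube (u v : K) : S.uR 0 u v ^ 3 = 1 := by
  rw [pow_succ, pow_two, S.uR_mul_hi, S.uR_mul_hi]
  have h : ∀ x : K, x + x + x = 0 := by
    intro x
    have : x + x + x = 3 * x := by ring
    rw [this, three_zero, zero_mul]
  rw [h, h]
  exact S.uR_zero

theorem card_order3 : Nat.card {x : ↥(chevG2.posUnipotent K ⊓ S.G1) // orderOf x = 3} = Fintype.card K ^ 2 - 1 := by
  classical
  haveI : Fact (Nat.Prime 3) := ⟨by norm_num⟩
  let ψ : {p : K × K // p ≠ 0} → {x : ↥(chevG2.posUnipotent K ⊓ S.G1) // orderOf x = 3} := fun p =>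
    ⟨⟨S.uR 0 p.1.1 p.1.2, (S.mem_U1_iff _).mpr ⟨_, _, _, rfl⟩⟩, by
      apply orderOf_eq_prime
      · apply Subtype.ext
        rw [Subgroup.coe_pow]
        exact S.uR_hi_cube _ _
      · intro h
        have h1 : S.uR 0 p.1.1 p.1.2 = 1 := congrArg Subtype.val h
        rw [← S.uR_zero] at h1
        obtain ⟨_, e1, e2⟩ := S.uR_inj h1
        exact p.2 (Prod.ext e1 e2)⟩
  have hψ : Function.Bijective ψ := by
    constructor
    · intro p q h
      have h1 : S.uR 0 p.1.1 p.1.2 = S.uR 0 q.1.1 q.1.2 := congrArg (fun x => ((x.1 : ↥(chevG2.posUnipotent K ⊓ S.G1)) : GL chevG2.Idx K)) h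
      obtain ⟨_, e1, e2⟩ := S.uR_inj h1
      exact Subtype.ext (Prod.ext e1 e2)
    · rintro ⟨⟨x, hx⟩, ho⟩
      obtain ⟨t, u, v, rfl⟩ := (S.mem_U1_iff x).mp hx
      have h3 : S.uR t u v ^ 3 = 1 := by
        have := pow_orderOf_eq_one (⟨S.uR t u v, hx⟩ : ↥(chevG2.posUnipotent K ⊓ S.G1))
        rw [ho] at this
        exact congrArg Subtype.val this
      have ht : t = 0 := by
        by_contra ht
        exact S.uR_cube_ne ht h3
      subst ht
      have hne : ((u, v) : K × K) ≠ 0 := by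
        intro h
        have e1 : u = 0 := congrArg Prod.fst h
        have e2 : v = 0 := congrArg Prod.snd h
        subst e1 e2
        have : (⟨S.uR 0 0 0, hx⟩ : ↥(chevG2.posUnipotent K ⊓ S.G1)) = 1 := Subtype.ext S.uR_zero
        rw [this, orderOf_one] at ho
        norm_num at ho
      exact ⟨⟨(u, v), hne⟩, rfl⟩
  rw [← Nat.card_congr (Equiv.ofBijective ψ hψ), Nat.card_eq_fintype_card]
  have := Set.card_ne_eq (0 : K × K)
  rw [Fintype.card_prod, ← sq] at this
  rw [← this]
  exact Fintype.card_congr (Equiv.refl _)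

end Ree

end Cfsg.Agent.Chev
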