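import Cfsg.Agent.Chev.TwG2

/-!
# The special graph automorphism of `G₂` in characteristic 3, III: the endomorphism `σ`
-/

set_option autoImplicit false
set_option linter.unusedSectionVars false
set_option linter.unusedVariables false
set_option maxRecDepth 100000

namespace Cfsg.Agent.Chev
open Cfsg.Lie
open scoped MatrixGroups

section
variable {K : Type*} [Field K] [CharP K 3]

theorem eG2_apply (x : Fin 7 ⊕ Fin 7) : eG2 x = eFunG2 x := rfl

theorem BT_xG2 (r : ℕ) (t : K) : BT eG2 (chevG2.x K r t) := by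
  by_cases hr : r < chevG2.nroots
  · intro a b
    unfold ChevalleyDatum.x
    rw [dif_pos hr, xMat_eq_pe]
    have := pe_eq_of_peqMod (F := K) 3 (chkBTG2 ⟨r, hr⟩ a b) t
    exact this.trans (by simp [pe])
  · unfold ChevalleyDatum.x
    rw [dif_neg hr]
    exact BT_one _

theorem Rel_xG2 (r : ℕ) (hr : r < 12) (t : K) :
    Qm eG2 (chevG2.x K r t) = Am eG2 (chevG2.x K (rhoG2 r) (t ^ lamG2 r)) := by
  ext a b
  rw [Qm_apply, Am_apply]
  unfold ChevalleyDatum.x
  rw [dif_pos (show r < chevG2.nroots from hr), dif_pos (show rhoG2 r < chevG2.nroots from rhoG2_lt r hr),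
    xMat_eq_pe, xMat_eq_pe, pe_pow]
  exact pe_eq_of_peqMod (F := K) 3 (chkRelG2 ⟨r, hr⟩ a b) t

theorem x_mapG2 (φ : K →+* K) (r : ℕ) (t : K) : (chevG2.x K r t).map φ = chevG2.x K r (φ t) :=
  congrArg Units.val ((relsG2 K).frob_xg φ r t)

theorem Qm_map (φ : K →+* K) (M : Matrix chevG2.Idx chevG2.Idx K) : (Qm eG2 M).map φ = Qm eG2 (M.map φ) := rfl

theorem BT_groupG2 : ∀ g ∈ chevG2.group K, BT eG2 (g : Matrix chevG2.Idx chevG2.Idx K) := by
  have key : ∀ g ∈ chevG2.group K, BT eG2 (g : Matrix chevG2.Idx chevG2.Idx K) ∧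
      BT eG2 ((g⁻¹ : GL chevG2.Idx K) : Matrix chevG2.Idx chevG2.Idx K) := by
    intro g hg
    unfold ChevalleyDatum.group at hg
    induction hg using Subgroup.closure_induction with
    | mem x hx =>
      obtain ⟨r, t, hx⟩ := hx
      have e1 : x = (relsG2 K).xg r t := by
        apply Units.ext
        rw [hx, Rels.coe_xg]
        unfold ChevalleyDatum.x
        rw [dif_pos r.2]
      rw [e1, (relsG2 K).xg_inv]
      exact ⟨BT_xG2 _ _, BT_xG2 _ _⟩
    | one => rw [inv_one]; exact ⟨BT_one _, BT_one _⟩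
    | mul x y _ _ hx hy =>
      rw [mul_inv_rev, Units.val_mul, Units.val_mul]
      exact ⟨BT_mul _ hx.1 hy.1, BT_mul _ hy.2 hx.2⟩
    | inv x _ hx => rw [inv_inv]; exact ⟨hx.2, hx.1⟩
  exact fun g hg => (key g hg).1

theorem exists_ne01 : ∃ a : K, a ≠ 0 ∧ a ≠ 1 := by
  refine ⟨-1, neg_ne_zero.mpr one_ne_zero, ?_⟩
  intro h
  have h2 : ((2 : ℕ) : K) = 0 := by
    have : (1 : K) + 1 = 0 := by nth_rewrite 1 [← h]; ring
    push_cast
    rw [← this]; norm_num
  have := (CharP.cast_eq_zero_iff K 3 2).mp h2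
  omega

/-- the representation on the submodule -/
noncomputable def homAG2 (K : Type*) [Field K] [CharP K 3] : ↥(chevG2.group K) →* Matrix (Fin 7) (Fin 7) K where
  toFun g := Am eG2 ((g : GL chevG2.Idx K) : Matrix chevG2.Idx chevG2.Idx K)
  map_one' := Am_one _
  map_mul' a b := by
    rw [Subgroup.coe_mul, Units.val_mul]
    exact Am_mul _ (BT_groupG2 _ b.2)

theorem faithfulG2 : ∀ g ∈ chevG2.group K, Am eG2 (g : Matrix chevG2.Idx chevG2.Idx K) = 1 → g = 1 := by
  intro g hg h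
  have hs := (Cfsg.Agent.S1055.result (F := K) exists_ne01).1
  have hk : (⟨g, hg⟩ : ↥(chevG2.group K)) ∈ (homAG2 K).ker := h
  rcases hs.eq_bot_or_eq_top_of_normal (homAG2 K).ker inferInstance with h1 | h1
  · rw [h1, Subgroup.mem_bot] at hk
    exact congrArg Subtype.val hk
  · exfalso
    have h2 : (⟨(relsG2 K).xg 7 1, (relsG2 K).xg_mem_group _ _⟩ : ↥(chevG2.group K)) ∈ (homAG2 K).ker := by
      rw [h1]; trivial
    have h3 : Am eG2 (chevG2.x K 7 1) = 1 := h2
    have h4 := congrFun (congrFun h3 4) 0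
    rw [Am_apply, Matrix.one_apply_ne (by decide)] at h4
    unfold ChevalleyDatum.x at h4
    rw [dif_pos (by decide), xMat_eq_pe] at h4
    have h5 : xPoly chevG2 ⟨7, by decide⟩ (eG2 (Sum.inl 4)) (eG2 (Sum.inl 0)) = [(1, -2)] := by decide +kernel
    rw [h5] at h4
    simp [pe] at h4
    have h6 : ((2 : ℕ) : K) = 0 := by exact_mod_cast h4
    have := (CharP.cast_eq_zero_iff K 3 2).mp h6
    omega

theorem totalG2 (φ : K →+* K) : ∀ g ∈ chevG2.group K, ∃ g' ∈ chevG2.group K,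
    (Qm eG2 (g : Matrix chevG2.Idx chevG2.Idx K)).map φ = Am eG2 (g' : Matrix chevG2.Idx chevG2.Idx K) := by
  have key : ∀ g ∈ chevG2.group K, ∃ g' ∈ chevG2.group K,
      (Qm eG2 (g : Matrix chevG2.Idx chevG2.Idx K)).map φ = Am eG2 (g' : Matrix chevG2.Idx chevG2.Idx K) ∧
      (Qm eG2 ((g⁻¹ : GL chevG2.Idx K) : Matrix chevG2.Idx chevG2.Idx K)).map φ =
        Am eG2 ((g'⁻¹ : GL chevG2.Idx K) : Matrix chevG2.Idx chevG2.Idx K) := by
    intro g hg
    have hg0 := hg
    unfold ChevalleyDatum.group at hg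
    induction hg using Subgroup.closure_induction with
    | mem x hx =>
      obtain ⟨r, t, hx⟩ := hx
      have e1 : x = (relsG2 K).xg r t := by
        apply Units.ext
        rw [hx, Rels.coe_xg]
        unfold ChevalleyDatum.x
        rw [dif_pos r.2]
      have hgen : ∀ u : K, (Qm eG2 (((relsG2 K).xg r u : GL chevG2.Idx K) : Matrix chevG2.Idx chevG2.Idx K)).map φ =
          Am eG2 (((relsG2 K).xg (rhoG2 r) (φ u ^ lamG2 r) : GL chevG2.Idx K) : Matrix chevG2.Idx chevG2.Idx K) := by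
        intro u
        rw [Rels.coe_xg, Rels.coe_xg, Qm_map, x_mapG2, Rel_xG2 r r.2]
      refine ⟨(relsG2 K).xg (rhoG2 r) (φ t ^ lamG2 r), (relsG2 K).xg_mem_group _ _, ?_, ?_⟩
      · rw [e1]; exact hgen t
      · rw [e1, (relsG2 K).xg_inv, (relsG2 K).xg_inv, hgen, map_neg]
        have hodd : Odd (lamG2 r) := by
          have : ∀ r : Fin 12, Odd (lamG2 r) := by decide
          exact this r
        rw [hodd.neg_pow]
    | one => exact ⟨1, Subgroup.one_mem _, by simp [Qm_one, Am_one], by simp [Qm_one, Am_one]⟩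
    | mul x y hx' hy' hx hy =>
      have hxG : x ∈ chevG2.group K := hx'
      have hyG : y ∈ chevG2.group K := hy'
      obtain ⟨x', hx1, hx2, hx3⟩ := hx hxG
      obtain ⟨y', hy1, hy2, hy3⟩ := hy hyG
      refine ⟨x' * y', Subgroup.mul_mem _ hx1 hy1, ?_, ?_⟩
      · rw [Units.val_mul, Units.val_mul, Qm_mul _ (BT_groupG2 _ hxG), Am_mul _ (BT_groupG2 _ hy1), Matrix.map_mul,
          hx2, hy2]
      · rw [mul_inv_rev, mul_inv_rev, Units.val_mul, Units.val_mul,
          Qm_mul _ (BT_groupG2 _ (Subgroup.inv_mem _ hyG)), Am_mul _ (BT_groupG2 _ (Subgroup.inv_mem _ hx1)),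
          Matrix.map_mul, hx3, hy3]
    | inv x hx' hx =>
      have hxG : x ∈ chevG2.group K := hx'
      obtain ⟨x', hx1, hx2, hx3⟩ := hx hxG
      exact ⟨x'⁻¹, Subgroup.inv_mem _ hx1, hx3, by rw [inv_inv, inv_inv]; exact hx2⟩
  intro g hg
  obtain ⟨g', h1, h2, _⟩ := key g hg
  exact ⟨g', h1, h2⟩

/-- the endomorphism `x_r(t) ↦ x_{ρ r}(φ(t)^{λ(r)})` -/
theorem exists_sigmaG2 (φ : K →+* K) : ∃ σ : ↥(chevG2.group K) →* ↥(chevG2.group K),
    ∀ (r : ℕ) (t : K), r < 12 → ((σ ⟨(relsG2 K).xg r t, (relsG2 K).xg_mem_group r t⟩ : ↥(chevG2.group K)) : GL chevG2.Idx K) =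
      (relsG2 K).xg (rhoG2 r) (φ t ^ lamG2 r) := by
  obtain ⟨σ, hσ⟩ := exists_sigma eG2 φ (chevG2.group K) BT_groupG2 faithfulG2 (totalG2 φ)
  refine ⟨σ, fun r t hr => ?_⟩
  have := (hσ ⟨(relsG2 K).xg r t, (relsG2 K).xg_mem_group r t⟩
    ⟨(relsG2 K).xg (rhoG2 r) (φ t ^ lamG2 r), (relsG2 K).xg_mem_group _ _⟩).mpr (by
      show (Qm eG2 (chevG2.x K r t)).map φ = Am eG2 (chevG2.x K (rhoG2 r) (φ t ^ lamG2 r))
      rw [Qm_map, x_mapG2, Rel_xG2 r hr])
  rw [this]

end

end Cfsg.Agent.Chev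

namespace Cfsg.Agent.Chev
open Cfsg.Lie
open scoped MatrixGroups

theorem graph_autG2 {K : Type*} [Field K] [CharP K 3] (hperf : ∀ x : K, ∃ y : K, y ^ 3 = x) :
    ∃ α : ↥(chevG2.group K) ≃* ↥(chevG2.group K), ∀ (r : ℕ) (t : K), r < 12 →
      ((α ⟨(relsG2 K).xg r t, (relsG2 K).xg_mem_group r t⟩ : ↥(chevG2.group K)) : GL chevG2.Idx K) =
      (relsG2 K).xg (rhoG2 r) (t ^ lamG2 r) := by
  obtain ⟨σ, hσ⟩ := exists_sigmaG2 (RingHom.id K)
  have hs := (Cfsg.Agent.S1055.result (F := K) exists_ne01).1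
  have hinj : Function.Injective σ := by
    rw [injective_iff_map_eq_one]
    intro g hg
    have hk : g ∈ σ.ker := hg
    rcases hs.eq_bot_or_eq_top_of_normal σ.ker inferInstance with h1 | h1
    · rw [h1, Subgroup.mem_bot] at hk
      exact hk
    · exfalso
      have h2 : (⟨(relsG2 K).xg 6 1, (relsG2 K).xg_mem_group _ _⟩ : ↥(chevG2.group K)) ∈ σ.ker := by
        rw [h1]; trivial
      have h3 := congrArg Subtype.val (MonoidHom.mem_ker.mp h2)
      rw [hσ 6 1 (by decide)] at h3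
      have h4 : (relsG2 K).xg 7 1 = 1 := by simpa [rhoG2, lamG2] using h3
      exact one_ne_zero (((relsG2 K).xg_eq_one_iff (r := 7) (by decide) 1).mp h4)
  have hsurj : Function.Surjective σ := by
    rw [← MonoidHom.range_eq_top, eq_top_iff]
    rintro ⟨g, hg⟩ _
    have key : chevG2.group K ≤ (σ.range).map (chevG2.group K).subtype := by
      unfold ChevalleyDatum.group
      rw [Subgroup.closure_le]
      rintro x ⟨r, t, hx⟩
      have e1 : x = (relsG2 K).xg r t := by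
        apply Units.ext
        rw [hx, Rels.coe_xg]
        unfold ChevalleyDatum.x
        rw [dif_pos r.2]
      have hr2 : ∀ r : Fin 12, rhoG2 (rhoG2 r) = r := by decide
      have hl : ∀ r : Fin 12, lamG2 (rhoG2 r) = 1 ∨ lamG2 (rhoG2 r) = 3 := by decide
      obtain ⟨y, hy⟩ : ∃ y : K, y ^ lamG2 (rhoG2 r) = t := by
        rcases hl r with h | h
        · exact ⟨t, by rw [h, pow_one]⟩
        · rw [h]; exact hperf t
      refine ⟨σ ⟨(relsG2 K).xg (rhoG2 r) y, (relsG2 K).xg_mem_group _ _⟩, ⟨_, rfl⟩, ?_⟩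
      show ((σ _ : ↥(chevG2.group K)) : GL chevG2.Idx K) = x
      rw [hσ _ _ (rhoG2_lt r r.2), e1, hr2 r]
      simp [hy]
    obtain ⟨y, hy, e⟩ := key hg
    have : y = ⟨g, hg⟩ := Subtype.ext e
    rwa [← this]
  refine ⟨MulEquiv.ofBijective σ ⟨hinj, hsurj⟩, fun r t hr => ?_⟩
  have := hσ r t hr
  rw [RingHom.id_apply] at this
  exact this

end Cfsg.Agent.Chev
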