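import Cfsg.Agent.Chev.TwG4
import Cfsg.Agent.Chev.Tw1

/-!
# The Ree groups `²G₂`: the fixed points in `U`
-/

set_option autoImplicit false
set_option linter.unusedSectionVars false
set_option linter.unusedVariables false
set_option maxRecDepth 100000

namespace Cfsg.Agent.Chev
open Cfsg.Lie
open scoped MatrixGroups

section
variable {K : Type*} [Field K] [CharP K 3]

theorem wg_eq_one_of_zero (w : List (ℕ × K)) (h : ∀ p ∈ w, p.2 = 0) : (relsG2 K).wg w = 1 := by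
  induction w with
  | nil => rfl
  | cons p w ih =>
    rw [(relsG2 K).wg_cons, h p List.mem_cons_self, (relsG2 K).xg_zero, one_mul,
      ih (fun x hx => h x (List.mem_cons_of_mem _ hx))]

theorem xg_comm_char3 {r s : ℕ} (hr : r < 12) (hs : s < 12) (h1 : s ≠ r) (h2 : s ≠ chevG2.neg r)
    (ht : ∀ c ∈ chevG2.commTerms r s, (3 : ℤ) ∣ c.2.1) (t u : K) :
    Commute ((relsG2 K).xg r t) ((relsG2 K).xg s u) := by
  have h3 := (relsG2 K).comm_g (r := r) (s := s) hr hs h1 h2 t u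
  have h4 : (relsG2 K).wg (chevG2.commWord K r s t u) = 1 := by
    apply wg_eq_one_of_zero
    intro p hp
    unfold ChevalleyDatum.commWord at hp
    obtain ⟨c, hc, rfl⟩ := List.mem_map.mp hp
    have : ((c.2.1 : ℤ) : K) = 0 := (CharP.intCast_eq_zero_iff K 3 _).mpr (by exact_mod_cast ht c hc)
    simp [this]
  rw [h4, mul_one] at h3
  show (relsG2 K).xg r t * (relsG2 K).xg s u = (relsG2 K).xg s u * (relsG2 K).xg r t
  calc (relsG2 K).xg r t * (relsG2 K).xg s u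
      = (relsG2 K).xg r t * (((relsG2 K).xg r t)⁻¹ * (relsG2 K).xg s u * (relsG2 K).xg r t) := by rw [h3]
    _ = _ := by group

theorem xg_comm_self (r : ℕ) (t u : K) : Commute ((relsG2 K).xg r t) ((relsG2 K).xg r u) := by
  show _ * _ = _ * _
  rw [(relsG2 K).xg_add, (relsG2 K).xg_add, add_comm]

theorem comm_hiU : ∀ r ∈ [8, 9, 10, 11], ∀ s ∈ [8, 9, 10, 11], ∀ t u : K,
    Commute ((relsG2 K).xg r t) ((relsG2 K).xg s u) := by
  intro r hr s hs t u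
  by_cases h : s = r
  · rw [h]; exact xg_comm_self r t u
  · have key : ∀ r ∈ [8, 9, 10, 11], ∀ s ∈ [8, 9, 10, 11], s ≠ r → r < 12 ∧ s < 12 ∧ s ≠ chevG2.neg r ∧
        ∀ c ∈ chevG2.commTerms r s, (3 : ℤ) ∣ c.2.1 := by decide +kernel
    obtain ⟨a, b, c, d⟩ := key r hr s hs h
    exact xg_comm_char3 a b h c d t u

theorem comm_hiV : ∀ r ∈ [3, 2, 1, 0], ∀ s ∈ [3, 2, 1, 0], ∀ t u : K,
    Commute ((relsG2 K).xg r t) ((relsG2 K).xg s u) := by
  intro r hr s hs t u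
  by_cases h : s = r
  · rw [h]; exact xg_comm_self r t u
  · have key : ∀ r ∈ [3, 2, 1, 0], ∀ s ∈ [3, 2, 1, 0], s ≠ r → r < 12 ∧ s < 12 ∧ s ≠ chevG2.neg r ∧
        ∀ c ∈ chevG2.commTerms r s, (3 : ℤ) ∣ c.2.1 := by decide +kernel
    obtain ⟨a, b, c, d⟩ := key r hr s hs h
    exact xg_comm_char3 a b h c d t u

omit [CharP K 3] in
theorem swapU (t u : K) : (relsG2 K).xg 6 u * (relsG2 K).xg 7 t = (relsG2 K).xg 7 t * (relsG2 K).xg 6 u *
    ((relsG2 K).xg 8 (1 * t * u) * (relsG2 K).xg 9 (1 * t ^ 2 * u) * (relsG2 K).xg 10 (-1 * t ^ 3 * u) *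
      (relsG2 K).xg 11 (-1 * t ^ 3 * u ^ 2)) := by
  have h3 := (relsG2 K).comm_g (r := 7) (s := 6) (by decide) (by decide) (by decide) (by decide) t u
  have e : chevG2.commTerms 7 6 = [(8, -1, 1, 1), (9, 1, 2, 1), (10, 1, 3, 1), (11, 1, 3, 2)] := by decide +kernel
  unfold ChevalleyDatum.commWord at h3
  rw [e] at h3
  simp only [List.map_cons, List.map_nil, Rels.wg_cons, Rels.wg_nil, mul_one] at h3
  calc (relsG2 K).xg 6 u * (relsG2 K).xg 7 t
      = (relsG2 K).xg 7 t * (((relsG2 K).xg 7 t)⁻¹ * (relsG2 K).xg 6 u * (relsG2 K).xg 7 t) := by group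
    _ = _ := by
      have e1 : ((-1 : ℤ) : K) * (-t) ^ 1 * u ^ 1 = 1 * t * u := by push_cast; ring
      have e2 : ((1 : ℤ) : K) * (-t) ^ 2 * u ^ 1 = 1 * t ^ 2 * u := by push_cast; ring
      have e3 : ((1 : ℤ) : K) * (-t) ^ 3 * u ^ 1 = -1 * t ^ 3 * u := by push_cast; ring
      have e4 : ((1 : ℤ) : K) * (-t) ^ 3 * u ^ 2 = -1 * t ^ 3 * u ^ 2 := by push_cast; ring
      rw [h3, e1, e2, e3, e4]
      simp only [mul_assoc]

omit [CharP K 3] in
theorem swapV (t u : K) : (relsG2 K).xg 5 u * (relsG2 K).xg 4 t = (relsG2 K).xg 4 t * (relsG2 K).xg 5 u *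
    ((relsG2 K).xg 3 (-1 * t * u) * (relsG2 K).xg 2 (1 * t ^ 2 * u) * (relsG2 K).xg 1 (1 * t ^ 3 * u) *
      (relsG2 K).xg 0 (-1 * t ^ 3 * u ^ 2)) := by
  have h3 := (relsG2 K).comm_g (r := 4) (s := 5) (by decide) (by decide) (by decide) (by decide) t u
  have e : chevG2.commTerms 4 5 = [(3, 1, 1, 1), (2, 1, 2, 1), (1, -1, 3, 1), (0, 1, 3, 2)] := by decide +kernel
  unfold ChevalleyDatum.commWord at h3
  rw [e] at h3
  simp only [List.map_cons, List.map_nil, Rels.wg_cons, Rels.wg_nil, mul_one] at h3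
  calc (relsG2 K).xg 5 u * (relsG2 K).xg 4 t
      = (relsG2 K).xg 4 t * (((relsG2 K).xg 4 t)⁻¹ * (relsG2 K).xg 5 u * (relsG2 K).xg 4 t) := by group
    _ = _ := by
      have e1 : ((1 : ℤ) : K) * (-t) ^ 1 * u ^ 1 = -1 * t * u := by push_cast; ring
      have e2 : ((1 : ℤ) : K) * (-t) ^ 2 * u ^ 1 = 1 * t ^ 2 * u := by push_cast; ring
      have e3 : ((-1 : ℤ) : K) * (-t) ^ 3 * u ^ 1 = 1 * t ^ 3 * u := by push_cast; ring
      have e4 : ((1 : ℤ) : K) * (-t) ^ 3 * u ^ 2 = -1 * t ^ 3 * u ^ 2 := by push_cast; ring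
      rw [h3, e1, e2, e3, e4]
      simp only [mul_assoc]

omit [CharP K 3] in
/-- rearranging the image of a product of six root elements -/
theorem rearr (r1 r2 r3 r4 r5 r6 : ℕ) (k1 k2 k3 k4 : K)
    (H1 : ∀ t u : K, (relsG2 K).xg r2 u * (relsG2 K).xg r1 t = (relsG2 K).xg r1 t * (relsG2 K).xg r2 u *
      ((relsG2 K).xg r3 (k1 * t * u) * (relsG2 K).xg r4 (k2 * t ^ 2 * u) * (relsG2 K).xg r5 (k3 * t ^ 3 * u) *
        (relsG2 K).xg r6 (k4 * t ^ 3 * u ^ 2)))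
    (H2 : ∀ r ∈ [r3, r4, r5, r6], ∀ s ∈ [r3, r4, r5, r6], ∀ t u : K,
      Commute ((relsG2 K).xg r t) ((relsG2 K).xg s u)) (A B C3 C4 C5 C6 : K) :
    (relsG2 K).xg r2 A * (relsG2 K).xg r1 B * (relsG2 K).xg r5 C5 * (relsG2 K).xg r6 C6 * (relsG2 K).xg r3 C3 *
      (relsG2 K).xg r4 C4 =
    (relsG2 K).xg r1 B * (relsG2 K).xg r2 A * (relsG2 K).xg r3 (k1 * B * A + C3) *
      (relsG2 K).xg r4 (k2 * B ^ 2 * A + C4) * (relsG2 K).xg r5 (k3 * B ^ 3 * A + C5) *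
      (relsG2 K).xg r6 (k4 * B ^ 3 * A ^ 2 + C6) := by
  rw [H1]
  simp only [← (relsG2 K).xg_add]
  let g : Fin 8 → GL chevG2.Idx K := ![(relsG2 K).xg r3 (k1 * B * A), (relsG2 K).xg r4 (k2 * B ^ 2 * A),
    (relsG2 K).xg r5 (k3 * B ^ 3 * A), (relsG2 K).xg r6 (k4 * B ^ 3 * A ^ 2), (relsG2 K).xg r5 C5,
    (relsG2 K).xg r6 C6, (relsG2 K).xg r3 C3, (relsG2 K).xg r4 C4]
  have hg : ∀ i j, Commute (g i) (g j) := by
    intro i j
    fin_cases i <;> fin_cases j <;> exact H2 _ (by simp) _ (by simp) _ _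
  have hp : (([0, 1, 2, 3, 4, 5, 6, 7] : List (Fin 8)).map g).prod = (([0, 6, 1, 7, 2, 4, 3, 5] : List (Fin 8)).map g).prod := by
    apply List.Perm.prod_eq' (List.Perm.map _ (by decide))
    rw [List.pairwise_map]
    exact List.pairwise_of_forall_mem_list (fun i _ j _ => hg i j)
  simp only [List.map_cons, List.map_nil, List.prod_cons, List.prod_nil, mul_one, g, Matrix.cons_val] at hp
  simp only [mul_assoc] at hp ⊢
  rw [hp]

end

end Cfsg.Agent.Chev
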