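import Cfsg.Agent.Chev.TwG5

/-!
# The Ree groups `²G₂`: the fixed points in `U`, II
-/

set_option autoImplicit false
set_option linter.unusedSectionVars false
set_option linter.unusedVariables false
set_option maxRecDepth 100000

namespace Cfsg.Agent.Chev
open Cfsg.Lie
open scoped MatrixGroups

section
variable {K : Type*} [Field K]

/-- products over the positive roots in the order `a, b, a+b, 2a+b, 3a+b, 3a+2b` -/
def PU (c7 c6 c8 c9 c10 c11 : K) : GL chevG2.Idx K :=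
  (relsG2 K).xg 7 c7 * (relsG2 K).xg 6 c6 * (relsG2 K).xg 8 c8 * (relsG2 K).xg 9 c9 * (relsG2 K).xg 10 c10 *
    (relsG2 K).xg 11 c11

/-- products over the negative roots -/
def PV (c4 c5 c3 c2 c1 c0 : K) : GL chevG2.Idx K :=
  (relsG2 K).xg 4 c4 * (relsG2 K).xg 5 c5 * (relsG2 K).xg 3 c3 * (relsG2 K).xg 2 c2 * (relsG2 K).xg 1 c1 *
    (relsG2 K).xg 0 c0

def cfU (c7 c6 c8 c9 c10 c11 : K) : ℕ → K := fun r => ([c6, c7, c8, c9, c10, c11] : List K).getD (r - 6) 0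

def LU : List ℕ := [7, 6, 8, 9, 10, 11]

theorem prodL_cfU (c7 c6 c8 c9 c10 c11 : K) : (relsG2 K).prodL (cfU c7 c6 c8 c9 c10 c11) LU = PU c7 c6 c8 c9 c10 c11 := by
  simp [Rels.prodL, LU, PU, cfU, mul_assoc]

theorem prodL_LU (c : ℕ → K) : (relsG2 K).prodL c LU = PU (c 7) (c 6) (c 8) (c 9) (c 10) (c 11) := by
  simp [Rels.prodL, LU, PU, mul_assoc]

theorem LU_sc : SC chevG2 LU := by decide +kernel

theorem mem_LU (r : ℕ) : r ∈ LU ↔ chevG2.nroots / 2 ≤ r ∧ r < chevG2.nroots := by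
  show r ∈ LU ↔ 6 ≤ r ∧ r < 12
  simp only [LU, List.mem_cons, List.not_mem_nil, or_false]
  omega

theorem negHtG2_addFn : AddFn chevG2 (fun r => - goodG2.ht r) where
  neg := fun r hr => by rw [goodG2.ht_addFn.neg r hr]
  ent := fun r hr s hs k e he => by
    have := goodG2.ht_addFn.ent r hr s hs k e he
    rw [this]; ring

theorem negHtG2_lt {r : ℕ} (hr : r ∈ LU) : - goodG2.ht r < 0 := by
  have h := (mem_LU r).mp hr
  have := (goodG2.ht_pos_iff h.2).mpr h.1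
  omega

theorem PU_inj [Fintype K] {c7 c6 c8 c9 c10 c11 d7 d6 d8 d9 d10 d11 : K}
    (h : PU c7 c6 c8 c9 c10 c11 = PU d7 d6 d8 d9 d10 d11) :
    c7 = d7 ∧ c6 = d6 ∧ c8 = d8 ∧ c9 = d9 ∧ c10 = d10 ∧ c11 = d11 := by
  rw [← prodL_cfU, ← prodL_cfU] at h
  have := (relsG2 K).prodL_inj good2G2 negHtG2_addFn LU LU_sc mem_LU
    (fun r hr h => absurd (negHtG2_lt hr) h) (fun r hr h => absurd (negHtG2_lt hr) h) h
  exact ⟨this 7 (by simp [LU]), this 6 (by simp [LU]), this 8 (by simp [LU]), this 9 (by simp [LU]),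
    this 10 (by simp [LU]), this 11 (by simp [LU])⟩

theorem exists_PU {u : GL chevG2.Idx K} (hu : u ∈ chevG2.posUnipotent K) :
    ∃ c7 c6 c8 c9 c10 c11 : K, u = PU c7 c6 c8 c9 c10 c11 := by
  have hU : chevG2.posUnipotent K = UU chevG2 K (fun s => s ∈ LU ∧ - goodG2.ht s < 0) := by
    rw [← UU_pos]
    apply UU_congr
    intro s
    rw [goodG2.isPosRoot_iff, ← mem_LU]
    exact ⟨fun h => ⟨h, negHtG2_lt h⟩, fun h => h.1⟩
  rw [hU] at hu
  obtain ⟨c, _, rfl⟩ := (relsG2 K).exists_prodL negHtG2_addFn LU LU_sc (fun r hr => (mem_LU r).mp hr) u hu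
  exact ⟨_, _, _, _, _, _, prodL_LU c⟩

theorem PU_mem_U (c7 c6 c8 c9 c10 c11 : K) : PU c7 c6 c8 c9 c10 c11 ∈ chevG2.posUnipotent K := by
  have h : ∀ r, 6 ≤ r → r < 12 → ∀ t : K, (relsG2 K).xg r t ∈ chevG2.posUnipotent K := by
    intro r h1 h2 t
    rw [← UU_pos]
    exact (relsG2 K).xg_mem_UU ((goodG2.isPosRoot_iff r).mpr ⟨h1, h2⟩) t
  unfold PU
  exact Subgroup.mul_mem _ (Subgroup.mul_mem _ (Subgroup.mul_mem _ (Subgroup.mul_mem _ (Subgroup.mul_mem _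
    (h 7 (by omega) (by omega) _) (h 6 (by omega) (by omega) _)) (h 8 (by omega) (by omega) _))
    (h 9 (by omega) (by omega) _)) (h 10 (by omega) (by omega) _)) (h 11 (by omega) (by omega) _)

theorem PV_mem_V (c4 c5 c3 c2 c1 c0 : K) : PV c4 c5 c3 c2 c1 c0 ∈ chevG2.negUnipotent K := by
  have h : ∀ r, r < 6 → ∀ t : K, (relsG2 K).xg r t ∈ chevG2.negUnipotent K := by
    intro r h1 t
    rw [← UU_neg]
    exact (relsG2 K).xg_mem_UU ((goodG2.isNegRoot_iff r).mpr h1) t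
  unfold PV
  exact Subgroup.mul_mem _ (Subgroup.mul_mem _ (Subgroup.mul_mem _ (Subgroup.mul_mem _ (Subgroup.mul_mem _
    (h 4 (by omega) _) (h 5 (by omega) _)) (h 3 (by omega) _)) (h 2 (by omega) _)) (h 1 (by omega) _)) (h 0 (by omega) _)

end

namespace Ree
variable {K : Type*} [Field K] [CharP K 3] (S : Ree K)

omit [CharP K 3] in
theorem sg_mul_xg {g : GL chevG2.Idx K} (hg : g ∈ chevG2.group K) {r : ℕ} (hr : r < 12) (t : K) :
    S.sg (g * (relsG2 K).xg r t) = S.sg g * (relsG2 K).xg (rhoG2 r) (S.φ t ^ lamG2 r) := by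
  rw [S.sg_mul hg ((relsG2 K).xg_mem_group _ _), S.sg_xg hr]

theorem sg_PU (c7 c6 c8 c9 c10 c11 : K) : S.sg (PU c7 c6 c8 c9 c10 c11) =
    PU (S.φ c6) (S.φ c7 ^ 3) (1 * S.φ c6 * S.φ c7 ^ 3 + S.φ c10) (1 * S.φ c6 ^ 2 * S.φ c7 ^ 3 + S.φ c11)
      (-1 * S.φ c6 ^ 3 * S.φ c7 ^ 3 + S.φ c8 ^ 3) (-1 * S.φ c6 ^ 3 * (S.φ c7 ^ 3) ^ 2 + S.φ c9 ^ 3) := by
  have hm := fun r (t : K) => (relsG2 K).xg_mem_group r t
  unfold PU
  rw [S.sg_mul_xg (by repeat' apply Subgroup.mul_mem <;> try exact hm _ _) (by decide),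
    S.sg_mul_xg (by repeat' apply Subgroup.mul_mem <;> try exact hm _ _) (by decide),
    S.sg_mul_xg (by repeat' apply Subgroup.mul_mem <;> try exact hm _ _) (by decide),
    S.sg_mul_xg (by repeat' apply Subgroup.mul_mem <;> try exact hm _ _) (by decide),
    S.sg_mul_xg (hm _ _) (by decide), S.sg_xg (by decide)]
  have := rearr (K := K) 7 6 8 9 10 11 1 1 (-1) (-1) swapU comm_hiU (S.φ c7 ^ 3) (S.φ c6) (S.φ c10) (S.φ c11)
    (S.φ c8 ^ 3) (S.φ c9 ^ 3)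
  rw [← this]
  simp [rhoG2, lamG2]

theorem sg_PV (c4 c5 c3 c2 c1 c0 : K) : S.sg (PV c4 c5 c3 c2 c1 c0) =
    PV (S.φ c5) (S.φ c4 ^ 3) (-1 * S.φ c5 * S.φ c4 ^ 3 + S.φ c1) (1 * S.φ c5 ^ 2 * S.φ c4 ^ 3 + S.φ c0)
      (1 * S.φ c5 ^ 3 * S.φ c4 ^ 3 + S.φ c3 ^ 3) (-1 * S.φ c5 ^ 3 * (S.φ c4 ^ 3) ^ 2 + S.φ c2 ^ 3) := by
  have hm := fun r (t : K) => (relsG2 K).xg_mem_group r t
  unfold PV
  rw [S.sg_mul_xg (by repeat' apply Subgroup.mul_mem <;> try exact hm _ _) (by decide),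
    S.sg_mul_xg (by repeat' apply Subgroup.mul_mem <;> try exact hm _ _) (by decide),
    S.sg_mul_xg (by repeat' apply Subgroup.mul_mem <;> try exact hm _ _) (by decide),
    S.sg_mul_xg (by repeat' apply Subgroup.mul_mem <;> try exact hm _ _) (by decide),
    S.sg_mul_xg (hm _ _) (by decide), S.sg_xg (by decide)]
  have := rearr (K := K) 4 5 3 2 1 0 (-1) 1 1 (-1) swapV comm_hiV (S.φ c4 ^ 3) (S.φ c5) (S.φ c1) (S.φ c0)
    (S.φ c3 ^ 3) (S.φ c2 ^ 3)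
  rw [← this]
  simp [rhoG2, lamG2]

/-- the fixed points in `U` -/
def uR (t u v : K) : GL chevG2.Idx K := PU (S.φ t) t (S.φ t * t + S.φ u) (S.φ t ^ 2 * t + S.φ v) u v

/-- the fixed points in `V` -/
def vR (t u v : K) : GL chevG2.Idx K :=
  PV (-S.φ t) (-t) (-(S.φ t * t + S.φ u)) (-(S.φ t ^ 2 * t + S.φ v)) (-u) (-v)

theorem cube_add (x y : K) : (x + y) ^ 3 = x ^ 3 + y ^ 3 := by
  have : Fact (Nat.Prime 3) := ⟨by norm_num⟩
  exact add_pow_char x y 3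

theorem uR_fixed (t u v : K) : S.sg (S.uR t u v) = S.uR t u v := by
  unfold uR
  rw [S.sg_PU]
  have h1 := S.phi_phi t
  have h2 := S.phi_phi u
  have h3 := S.phi_phi v
  have h1' : (S.φ (S.φ t) ^ 2) ^ 3 = t ^ 2 := by rw [← pow_mul, mul_comm, pow_mul, h1]
  congr 1
  · rw [h1]; ring
  · rw [h1]; ring
  · rw [map_add, map_mul, cube_add, mul_pow, h1, h2]; ring
  · rw [map_add, map_mul, map_pow, cube_add, mul_pow, h1', h1, h3]; ring

theorem vR_fixed (t u v : K) : S.sg (S.vR t u v) = S.vR t u v := by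
  unfold vR
  rw [S.sg_PV]
  have h1 := S.phi_phi t
  have h2 := S.phi_phi u
  have h3 := S.phi_phi v
  have h1' : (S.φ (S.φ t) ^ 2) ^ 3 = t ^ 2 := by rw [← pow_mul, mul_comm, pow_mul, h1]
  have o3 : ∀ x : K, (-x) ^ 3 = - x ^ 3 := fun x => by ring
  congr 1
  · rw [map_neg]
  · rw [map_neg, o3, h1]
  · rw [map_neg, map_neg, map_neg, o3, h1]; ring
  · rw [map_neg, map_neg, map_neg, o3, h1]; ring
  · rw [map_neg, map_neg, map_neg, o3, o3, o3, map_add, map_mul, cube_add, mul_pow, h1, h2]; ring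
  · rw [map_neg, map_neg, map_neg, o3, o3, o3, map_add, map_mul, map_pow, cube_add, mul_pow, h1', h1, h3]; ring

theorem uR_mem_Γ (t u v : K) : S.uR t u v ∈ S.Γ :=
  ⟨(relsG2 K).U_le_group (PU_mem_U _ _ _ _ _ _), S.uR_fixed t u v⟩

theorem vR_mem_Γ (t u v : K) : S.vR t u v ∈ S.Γ :=
  ⟨(relsG2 K).V_le_group (PV_mem_V _ _ _ _ _ _), S.vR_fixed t u v⟩

theorem U_fixed [Fintype K] {x : GL chevG2.Idx K} (hx : x ∈ chevG2.posUnipotent K ⊓ S.Γ) : ∃ t u v, x = S.uR t u v := by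
  obtain ⟨c7, c6, c8, c9, c10, c11, rfl⟩ := exists_PU hx.1
  have h := hx.2.2
  rw [S.sg_PU] at h
  obtain ⟨e7, e6, e8, e9, e10, e11⟩ := PU_inj h
  refine ⟨c6, c10, c11, ?_⟩
  unfold uR
  rw [e7, ← e8, ← e9, e7, e6]
  congr 1 <;> ring

end Ree

end Cfsg.Agent.Chev
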