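import Cfsg.Agent.Chev.TwG6

/-!
# The Ree groups `²G₂`: the Bruhat decomposition of the fixed points
-/

set_option autoImplicit false
set_option linter.unusedSectionVars false
set_option linter.unusedVariables false
set_option maxRecDepth 100000

namespace Cfsg.Agent.Chev
open Cfsg.Lie
open scoped MatrixGroups

/-- the longest element: `r ↦ -r` -/
def w0G2 : Equiv.Perm (Fin chevG2.nroots) where
  toFun r := goodG2.negF r
  invFun r := goodG2.negF r
  left_inv r := Fin.ext (goodG2.neg_neg r.2)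
  right_inv r := Fin.ext (goodG2.neg_neg r.2)

theorem w0G2_apply (r : Fin chevG2.nroots) : w0G2 r = goodG2.negF r := rfl

theorem w0G2_mul_self : w0G2 * w0G2 = 1 := by
  ext r
  rw [Equiv.Perm.mul_apply, w0G2_apply, w0G2_apply]
  exact goodG2.neg_neg r.2

theorem w0G2_mem : w0G2 ∈ goodG2.W := by
  have h0 : (0 : ℕ) < chevG2.rank := by decide
  have h1 : (1 : ℕ) < chevG2.rank := by decide
  have e : w0G2 = goodG2.wP 0 h0 * goodG2.wP 1 h1 * (goodG2.wP 0 h0 * goodG2.wP 1 h1) *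
      (goodG2.wP 0 h0 * goodG2.wP 1 h1) := by
    ext r
    simp only [Equiv.Perm.mul_apply, goodG2.wP_apply, w0G2_apply, Good.negF]
    have key : ∀ r : Fin 12, chevG2.neg r = chevG2.reflectRoot 0 (chevG2.reflectRoot 1 (chevG2.reflectRoot 0
      (chevG2.reflectRoot 1 (chevG2.reflectRoot 0 (chevG2.reflectRoot 1 r))))) := by decide +kernel
    exact key r
  rw [e]
  exact Subgroup.mul_mem _ (Subgroup.mul_mem _ (Subgroup.mul_mem _ (goodG2.wP_mem _ _) (goodG2.wP_mem _ _))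
    (Subgroup.mul_mem _ (goodG2.wP_mem _ _) (goodG2.wP_mem _ _)))
    (Subgroup.mul_mem _ (goodG2.wP_mem _ _) (goodG2.wP_mem _ _))

theorem W_fixG2 {w : Equiv.Perm (Fin chevG2.nroots)} (hw : w ∈ goodG2.W) (hc : rhoPG2 * w * rhoPG2⁻¹ = w) :
    w = 1 ∨ w = w0G2 := by
  by_cases h0 : goodG2.nn w = 0
  · exact Or.inl ((relsG2 ℚ).W_eq_one good2G2 hw h0)
  · right
    obtain ⟨j, hj, hneg⟩ := goodG2.exists_simple_neg hw h0
    have hcomm : ∀ s, w (rhoPG2 s) = rhoPG2 (w s) := by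
      intro s
      have : rhoPG2 * w = w * rhoPG2 := by
        calc rhoPG2 * w = (rhoPG2 * w * rhoPG2⁻¹) * rhoPG2 := by group
          _ = _ := by rw [hc]
      have h2 := congrArg (fun σ : Equiv.Perm (Fin chevG2.nroots) => σ s) this
      simp only [Equiv.Perm.mul_apply] at h2
      exact h2.symm
    have hall : ∀ i (hi : i < chevG2.rank), (w (goodG2.sF i hi) : ℕ) < chevG2.nroots / 2 := by
      intro i hi
      by_cases hij : i = j
      · subst hij; exact hneg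
      · have hj2 : j < 2 := hj
        have hi2 : i < 2 := hi
        have e : goodG2.sF i hi = rhoPG2 (goodG2.sF j hj) := by
          apply Fin.ext
          rw [rhoPG2_apply]
          have key : ∀ i < 2, ∀ j < 2, i ≠ j → chevG2.simple i = rhoG2 (chevG2.simple j) := by decide +kernel
          exact key i hi2 j hj2 hij
        rw [e, hcomm, rhoPG2_apply]
        exact rhoG2_negative _ hneg
    have h1 : goodG2.nn (w0G2 * w) = 0 := by
      by_contra hne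
      obtain ⟨i, hi, hn⟩ := goodG2.exists_simple_neg (Subgroup.mul_mem _ w0G2_mem hw) hne
      rw [Equiv.Perm.mul_apply, w0G2_apply] at hn
      have := goodG2.half_le_neg (hall i hi)
      simp only [Good.negF] at hn
      omega
    have h2 := (relsG2 ℚ).W_eq_one good2G2 (Subgroup.mul_mem _ w0G2_mem hw) h1
    calc w = w0G2 * w0G2 * w := by rw [w0G2_mul_self, one_mul]
      _ = w0G2 * (w0G2 * w) := by group
      _ = w0G2 := by rw [h2, mul_one]

theorem negP_w0G2 (s : ℕ) : negP chevG2 w0G2 s ↔ chevG2.IsPosRoot s := by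
  rw [goodG2.isPosRoot_iff]
  constructor
  · rintro ⟨h1, h2, _⟩; exact ⟨h2, h1⟩
  · rintro ⟨h1, h2⟩
    exact ⟨h2, h1, goodG2.neg_lt_half h2 h1⟩

theorem UU_negP_w0G2 (K : Type*) [Field K] : UU chevG2 K (negP chevG2 w0G2) = chevG2.posUnipotent K := by
  rw [← UU_pos]
  exact UU_congr negP_w0G2

namespace Ree
variable {K : Type*} [Field K] [Fintype K] [CharP K 3] (S : Ree K)

/-- the decomposition of a fixed element -/
theorem fixed_decomp {g : GL chevG2.Idx K} (hg : g ∈ S.Γ) : g ∈ chevG2.borelSubgroup K ∨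
    ∃ u1 ∈ chevG2.posUnipotent K ⊓ S.Γ, ∃ n ∈ chevG2.monomialSubgroup K ⊓ S.Γ, (relsG2 K).IsMono n w0G2 ∧
      ∃ u ∈ chevG2.posUnipotent K ⊓ S.Γ, g = u1 * n * u := by
  obtain ⟨b, hb, n, hn, w, hw, hm, u, hu, e⟩ := (relsG2 K).normal_form_exists good2G2 hg.1
  have huU : u ∈ chevG2.posUnipotent K := by
    have : UU chevG2 K (negP chevG2 w) ≤ chevG2.posUnipotent K := by
      rw [← UU_pos]
      exact UU_mono (fun s hs => (goodG2.isPosRoot_iff s).mpr ⟨hs.2.1, hs.1⟩)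
    exact this hu
  have hbG := (relsG2 K).B_le_group hb
  have hnG := (relsG2 K).N_le_group hn
  have huG := (relsG2 K).U_le_group huU
  have e2 : b * n * u = S.sg b * S.sg n * S.sg u := by
    rw [← S.sg_mul hbG hnG, ← S.sg_mul (Subgroup.mul_mem _ hbG hnG) huG, ← e, hg.2]
  have h1 := (relsG2 K).bruhat_unique_GL good2G2 hn (S.sg_N n hn) hb ((relsG2 K).U_le_B huU) (S.sg_B b hb)
    ((relsG2 K).U_le_B (S.sg_U u huU)) e2
  have hm2 : (relsG2 K).IsMono (S.sg n) w := by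
    have := Rels.IsMono.mul (relsG2 K) hm (Rels.IsMono.of_tor (relsG2 K) ((relsG2 K).H_le_Tor h1))
    rwa [mul_one, mul_inv_cancel_left] at this
  have hc := Rels.IsMono.unique (relsG2 K) (S.sg_mono hn hm) hm2
  rcases W_fixG2 hw hc with rfl | rfl
  · left
    rw [e]
    exact Subgroup.mul_mem _ (Subgroup.mul_mem _ hb ((relsG2 K).H_le_B ((relsG2 K).mono_one_mem_H good2G2 hn hm)))
      ((relsG2 K).U_le_B huU)
  · right
    have h2 : S.sg n * n⁻¹ ∈ chevG2.diagonalSubgroup K := by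
      have := (Subgroup.mem_normalizer_iff.mp ((relsG2 K).N_le_normalizer_H good2G2 hn) _).mp h1
      have e3 : n * (n⁻¹ * S.sg n) * n⁻¹ = S.sg n * n⁻¹ := by group
      rwa [e3] at this
    have hsu : S.sg u ∈ UU chevG2 K (negP chevG2 w0G2) := by
      rw [UU_negP_w0G2]; exact S.sg_U u huU
    have e3 : b * n * u = (S.sg b * (S.sg n * n⁻¹)) * n * S.sg u := by rw [e2]; group
    obtain ⟨e4, e5⟩ := (relsG2 K).normal_form_unique hb
      (Subgroup.mul_mem _ (S.sg_B b hb) ((relsG2 K).H_le_B h2)) hm hu hsu e3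
    obtain ⟨u1, hu1, h, hh, rfl⟩ := exists_mul_of_mem_sup (relsG2 K).H_le_normalizer_U hb
    have hu1G := (relsG2 K).U_le_group hu1
    have hhG := (relsG2 K).H_le_group hh
    rw [S.sg_mul hu1G hhG] at e4
    have e6 : u1⁻¹ * S.sg u1 = h * (S.sg h * (S.sg n * n⁻¹))⁻¹ := by
      calc u1⁻¹ * S.sg u1 = u1⁻¹ * (S.sg u1 * S.sg h * (S.sg n * n⁻¹)) * (S.sg h * (S.sg n * n⁻¹))⁻¹ := by group
        _ = _ := by rw [← e4]; group
    have h3 : u1⁻¹ * S.sg u1 ∈ chevG2.posUnipotent K ⊓ chevG2.diagonalSubgroup K :=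
      ⟨Subgroup.mul_mem _ (Subgroup.inv_mem _ hu1) (S.sg_U u1 hu1),
        e6 ▸ Subgroup.mul_mem _ hh (Subgroup.inv_mem _ (Subgroup.mul_mem _ (S.sg_H h hh) h2))⟩
    rw [(relsG2 K).U_inf_H, Subgroup.mem_bot] at h3
    have hu1Γ : u1 ∈ S.Γ := ⟨hu1G, (inv_mul_eq_one.mp h3).symm⟩
    have huΓ : u ∈ S.Γ := ⟨huG, e5.symm⟩
    have hnΓ : h * n ∈ S.Γ := by
      have := Subgroup.mul_mem _ (Subgroup.mul_mem _ (Subgroup.inv_mem _ hu1Γ) hg) (Subgroup.inv_mem _ huΓ)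
      have e7 : u1⁻¹ * g * u⁻¹ = h * n := by rw [e]; group
      rwa [e7] at this
    refine ⟨u1, ⟨hu1, hu1Γ⟩, h * n, ⟨Subgroup.mul_mem _ ((relsG2 K).H_le_N hh) hn, hnΓ⟩, ?_, u, ⟨huU, huΓ⟩, ?_⟩
    · have := Rels.IsMono.mul (relsG2 K) (Rels.IsMono.of_tor (relsG2 K) ((relsG2 K).H_le_Tor hh)) hm
      rwa [one_mul] at this
    · rw [e]; group

/-- the Ree group -/
def G1 : Subgroup (GL chevG2.Idx K) := Subgroup.closure {g | ∃ t u v, g = S.uR t u v ∨ g = S.vR t u v}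

theorem G1_le_Γ : S.G1 ≤ S.Γ := by
  unfold G1
  rw [Subgroup.closure_le]
  rintro g ⟨t, u, v, rfl | rfl⟩
  · exact S.uR_mem_Γ t u v
  · exact S.vR_mem_Γ t u v

theorem U_fixed_le : chevG2.posUnipotent K ⊓ S.Γ ≤ S.G1 := by
  intro x hx
  obtain ⟨t, u, v, rfl⟩ := S.U_fixed hx
  exact Subgroup.subset_closure ⟨t, u, v, Or.inl rfl⟩

theorem U_inf_G1 : chevG2.posUnipotent K ⊓ S.G1 = chevG2.posUnipotent K ⊓ S.Γ :=
  le_antisymm (inf_le_inf_left _ S.G1_le_Γ) (le_inf inf_le_left S.U_fixed_le)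

/-- the decomposition of an element of the Ree group -/
theorem G1_decomp {g : GL chevG2.Idx K} (hg : g ∈ S.G1) : g ∈ chevG2.borelSubgroup K ⊓ S.G1 ∨
    ∃ u1 ∈ chevG2.posUnipotent K ⊓ S.G1, ∃ n ∈ chevG2.monomialSubgroup K ⊓ S.G1, (relsG2 K).IsMono n w0G2 ∧
      ∃ u ∈ chevG2.posUnipotent K ⊓ S.G1, g = u1 * n * u := by
  rcases S.fixed_decomp (S.G1_le_Γ hg) with h | ⟨u1, hu1, n, hn, hm, u, hu, e⟩
  · exact Or.inl ⟨h, hg⟩
  · right
    have h1 := S.U_fixed_le hu1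
    have h2 := S.U_fixed_le hu
    refine ⟨u1, ⟨hu1.1, h1⟩, n, ⟨hn.1, ?_⟩, hm, u, ⟨hu.1, h2⟩, e⟩
    have := Subgroup.mul_mem _ (Subgroup.mul_mem _ (Subgroup.inv_mem _ h1) hg) (Subgroup.inv_mem _ h2)
    have e7 : u1⁻¹ * g * u⁻¹ = n := by rw [e]; group
    rwa [e7] at this

end Ree

end Cfsg.Agent.Chev
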