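import Cfsg.Agent.Chev.TwG7

/-!
# The Ree groups `²G₂`: the (B, N)-pair
-/

set_option autoImplicit false
set_option linter.unusedSectionVars false
set_option linter.unusedVariables false
set_option maxRecDepth 100000

namespace Cfsg.Agent.Chev
open Cfsg.Lie
open scoped MatrixGroups

namespace Ree
variable {K : Type*} [Field K] [Fintype K] [CharP K 3] (S : Ree K)

theorem uR_inj {t u v t' u' v' : K} (h : S.uR t u v = S.uR t' u' v') : t = t' ∧ u = u' ∧ v = v' := by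
  obtain ⟨_, h1, _, _, h2, h3⟩ := PU_inj h
  exact ⟨h1, h2, h3⟩

theorem uR_zero : S.uR 0 0 0 = 1 := by
  simp [uR, PU, Rels.xg_zero]

theorem uR_ne_one : S.uR 0 0 1 ≠ 1 := by
  intro h
  rw [← S.uR_zero] at h
  exact one_ne_zero (S.uR_inj h).2.2

theorem uR_mem_G1 (t u v : K) : S.uR t u v ∈ S.G1 := Subgroup.subset_closure ⟨t, u, v, Or.inl rfl⟩
theorem vR_mem_G1 (t u v : K) : S.vR t u v ∈ S.G1 := Subgroup.subset_closure ⟨t, u, v, Or.inr rfl⟩

omit [CharP K 3] in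
theorem mono_w0_conj_U {n : GL chevG2.Idx K} (hm : (relsG2 K).IsMono n w0G2) :
    ∀ u ∈ chevG2.posUnipotent K, n * u * n⁻¹ ∈ chevG2.negUnipotent K := by
  apply Rels.IsMono.conj_UU (relsG2 K) hm (p := chevG2.IsPosRoot) (q := chevG2.IsNegRoot)
    (fun s hs => ((goodG2.isPosRoot_iff s).mp hs).2)
  intro s hs
  rw [goodG2.isNegRoot_iff, w0G2_apply]
  exact goodG2.neg_lt_half s.2 ((goodG2.isPosRoot_iff s).mp hs).1

omit [CharP K 3] in
theorem mono_w0_conj_V {n : GL chevG2.Idx K} (hm : (relsG2 K).IsMono n w0G2) :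
    ∀ u ∈ chevG2.negUnipotent K, n * u * n⁻¹ ∈ chevG2.posUnipotent K := by
  apply Rels.IsMono.conj_UU (relsG2 K) hm (p := chevG2.IsNegRoot) (q := chevG2.IsPosRoot)
    (fun s hs => by have := (goodG2.isNegRoot_iff s).mp hs; have : chevG2.nroots = 12 := rfl; omega)
  intro s hs
  rw [goodG2.isPosRoot_iff, w0G2_apply]
  exact ⟨goodG2.half_le_neg ((goodG2.isNegRoot_iff s).mp hs), (goodG2.negF s).2⟩

theorem vR_ne_one : S.vR 0 0 1 ≠ 1 := by
  intro h
  obtain ⟨n, hn, hm⟩ := (relsG2 K).exists_N_of_W w0G2_mem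
  obtain ⟨c, hc, e⟩ := hm.conj ⟨2, by decide⟩
  obtain ⟨c', hc', e'⟩ := hm.conj ⟨0, by decide⟩
  have h1 : S.vR 0 0 1 = (relsG2 K).xg 2 (-1) * (relsG2 K).xg 0 (-1) := by
    simp [vR, PV, Rels.xg_zero]
  rw [h1] at h
  have h2 : n * ((relsG2 K).xg 2 (-1) * (relsG2 K).xg 0 (-1)) * n⁻¹ =
      (relsG2 K).xg 9 (c * -1) * (relsG2 K).xg 11 (c' * -1) := by
    have := e (-1)
    have := e' (-1)
    calc n * ((relsG2 K).xg 2 (-1) * (relsG2 K).xg 0 (-1)) * n⁻¹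
        = (n * (relsG2 K).xg 2 (-1) * n⁻¹) * (n * (relsG2 K).xg 0 (-1) * n⁻¹) := by group
      _ = _ := by rw [e (-1), e' (-1)]; rfl
  rw [h, mul_one, mul_inv_cancel] at h2
  have h3 : PU 0 0 0 0 0 0 = PU 0 0 0 (c * -1) 0 (c' * -1) := by
    simp only [PU, Rels.xg_zero, one_mul, mul_one]
    exact h2
  have := (PU_inj h3).2.2.2.1
  have h4 : c = 0 := by linear_combination this
  exact hc h4

/-- a representative of the non-trivial element of the Weyl group -/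
theorem exists_n0 : ∃ n0 ∈ chevG2.monomialSubgroup K ⊓ S.G1, (relsG2 K).IsMono n0 w0G2 := by
  rcases S.G1_decomp (S.vR_mem_G1 0 0 1) with h | ⟨_, _, n, hn, hm, _⟩
  · exfalso
    have : S.vR 0 0 1 ∈ chevG2.borelSubgroup K ⊓ chevG2.negUnipotent K := ⟨h.1, PV_mem_V _ _ _ _ _ _⟩
    rw [(relsG2 K).B_inf_V, Subgroup.mem_bot] at this
    exact S.vR_ne_one this
  · exact ⟨n, hn, hm⟩

/-- the type of an element of `N¹` -/
theorem N1_cases {n : GL chevG2.Idx K} (hn : n ∈ chevG2.monomialSubgroup K ⊓ S.G1) :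
    (relsG2 K).IsMono n 1 ∨ (relsG2 K).IsMono n w0G2 := by
  obtain ⟨w, hw, hm⟩ := (relsG2 K).N_mono good2G2 hn.1
  have h1 := S.sg_mono hn.1 hm
  rw [(S.G1_le_Γ hn.2).2] at h1
  rcases W_fixG2 hw (Rels.IsMono.unique (relsG2 K) h1 hm) with rfl | rfl
  · exact Or.inl hm
  · exact Or.inr hm

omit [CharP K 3] in
theorem w0G2_inv : w0G2⁻¹ = w0G2 := rfl

theorem H1_of_mono_one {n : GL chevG2.Idx K} (hn : n ∈ chevG2.monomialSubgroup K ⊓ S.G1)
    (hm : (relsG2 K).IsMono n 1) : n ∈ chevG2.diagonalSubgroup K ⊓ S.G1 :=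
  ⟨(relsG2 K).mono_one_mem_H good2G2 hn.1 hm, hn.2⟩

theorem H1_of_two {n n' : GL chevG2.Idx K} (hn : n ∈ chevG2.monomialSubgroup K ⊓ S.G1)
    (hn' : n' ∈ chevG2.monomialSubgroup K ⊓ S.G1) (hm : (relsG2 K).IsMono n w0G2) (hm' : (relsG2 K).IsMono n' w0G2) :
    n * n'⁻¹ ∈ chevG2.diagonalSubgroup K ⊓ S.G1 ∧ n'⁻¹ * n ∈ chevG2.diagonalSubgroup K ⊓ S.G1 ∧
      n * n' ∈ chevG2.diagonalSubgroup K ⊓ S.G1 := by
  refine ⟨S.H1_of_mono_one (Subgroup.mul_mem _ hn (Subgroup.inv_mem _ hn')) ?_,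
    S.H1_of_mono_one (Subgroup.mul_mem _ (Subgroup.inv_mem _ hn') hn) ?_,
    S.H1_of_mono_one (Subgroup.mul_mem _ hn hn') ?_⟩
  · have := Rels.IsMono.mul (relsG2 K) hm (Rels.IsMono.inv (relsG2 K) hm')
    rwa [mul_inv_cancel] at this
  · have := Rels.IsMono.mul (relsG2 K) (Rels.IsMono.inv (relsG2 K) hm') hm
    rwa [inv_mul_cancel] at this
  · have := Rels.IsMono.mul (relsG2 K) hm hm'
    rwa [w0G2_mul_self] at this

theorem H1_le_B1 : chevG2.diagonalSubgroup K ⊓ S.G1 ≤ chevG2.borelSubgroup K ⊓ S.G1 :=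
  inf_le_inf_right _ (relsG2 K).H_le_B

theorem U1_le_B1 : chevG2.posUnipotent K ⊓ S.G1 ≤ chevG2.borelSubgroup K ⊓ S.G1 :=
  inf_le_inf_right _ (relsG2 K).U_le_B

/-- the two double cosets -/
theorem two_cosets {g y y' : GL chevG2.Idx K} (hg : g ∈ S.G1) (hy : y ∈ chevG2.monomialSubgroup K ⊓ S.G1)
    (hy' : y' ∈ chevG2.monomialSubgroup K ⊓ S.G1) (hm : (relsG2 K).IsMono y 1) (hm' : (relsG2 K).IsMono y' w0G2) :
    (∃ b ∈ chevG2.borelSubgroup K ⊓ S.G1, ∃ b' ∈ chevG2.borelSubgroup K ⊓ S.G1, g = b * y * b') ∨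
    (∃ b ∈ chevG2.borelSubgroup K ⊓ S.G1, ∃ b' ∈ chevG2.borelSubgroup K ⊓ S.G1, g = b * y' * b') := by
  rcases S.G1_decomp hg with h | ⟨u1, hu1, n, hn, hmn, u, hu, e⟩
  · left
    exact ⟨g * y⁻¹, Subgroup.mul_mem _ h (Subgroup.inv_mem _ (S.H1_le_B1 (S.H1_of_mono_one hy hm))), 1,
      Subgroup.one_mem _, by group⟩
  · right
    exact ⟨u1 * (n * y'⁻¹), Subgroup.mul_mem _ (S.U1_le_B1 hu1) (S.H1_le_B1 (S.H1_of_two hn hy' hmn hm').1), u,
      S.U1_le_B1 hu, by rw [e]; group⟩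

theorem B1_sup_N1 : (chevG2.borelSubgroup K ⊓ S.G1) ⊔ (chevG2.monomialSubgroup K ⊓ S.G1) = S.G1 := by
  apply le_antisymm (sup_le inf_le_right inf_le_right)
  intro g hg
  rcases S.G1_decomp hg with h | ⟨u1, hu1, n, hn, hmn, u, hu, e⟩
  · exact Subgroup.mem_sup_left h
  · rw [e]
    exact Subgroup.mul_mem _ (Subgroup.mul_mem _ (Subgroup.mem_sup_left (S.U1_le_B1 hu1)) (Subgroup.mem_sup_right hn))
      (Subgroup.mem_sup_left (S.U1_le_B1 hu))

set_option maxHeartbeats 2000000 in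
/-- the (B, N)-pair of the Ree group -/
def bnPair {n0 : GL chevG2.Idx K} (hn0 : n0 ∈ chevG2.monomialSubgroup K ⊓ S.G1) (hm0 : (relsG2 K).IsMono n0 w0G2) :
    Cfsg.BNPair ↥S.G1 where
  B := (chevG2.borelSubgroup K ⊓ S.G1).subgroupOf S.G1
  N := (chevG2.monomialSubgroup K ⊓ S.G1).subgroupOf S.G1
  S := {⟨n0, hn0.2⟩}
  sup_eq_top := by
    rw [← Subgroup.subgroupOf_sup inf_le_right inf_le_right, S.B1_sup_N1, Subgroup.subgroupOf_self]
  conj_mem := by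
    rintro n hn t ht
    obtain ⟨ht1, ht2⟩ := Subgroup.mem_inf.mp ht
    rw [Subgroup.mem_subgroupOf] at hn ht1 ht2 ⊢
    have h1 : (t : GL chevG2.Idx K) ∈ chevG2.borelSubgroup K ⊓ chevG2.monomialSubgroup K := ⟨ht1.1, ht2.1⟩
    rw [(relsG2 K).B_inf_N good2G2] at h1
    have := (Subgroup.mem_normalizer_iff.mp ((relsG2 K).N_le_normalizer_H good2G2 hn.1) _).mp h1
    exact ⟨(relsG2 K).H_le_B this, (n * t * n⁻¹).2⟩
  subset := by
    rintro n rfl
    exact Subgroup.mem_subgroupOf.mpr hn0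
  sq_mem := by
    rintro n rfl
    exact Subgroup.mem_subgroupOf.mpr (S.H1_le_B1 (S.H1_of_two hn0 hn0 hm0 hm0).2.2)
  inj := by
    rintro s rfl s' rfl _
    rfl
  closure_sup := by
    apply le_antisymm
    · apply sup_le
      · rw [Subgroup.closure_le]
        rintro n rfl
        exact Subgroup.mem_subgroupOf.mpr hn0
      · exact inf_le_right
    · intro n hn
      have hn' := Subgroup.mem_subgroupOf.mp hn
      rcases S.N1_cases hn' with hm | hm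
      · apply Subgroup.mem_sup_right
        have := S.H1_of_mono_one hn' hm
        exact ⟨Subgroup.mem_subgroupOf.mpr (S.H1_le_B1 this), hn⟩
      · have h1 := (S.H1_of_two hn' hn0 hm hm0).2.1
        have e : n = ⟨n0, hn0.2⟩ * (⟨n0, hn0.2⟩⁻¹ * n) := by group
        rw [e]
        apply Subgroup.mul_mem _ (Subgroup.mem_sup_left (Subgroup.subset_closure (Set.mem_singleton _)))
        apply Subgroup.mem_sup_right
        rw [Subgroup.mem_inf, Subgroup.mem_subgroupOf, Subgroup.mem_subgroupOf, Subgroup.coe_mul, Subgroup.coe_inv]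
        exact ⟨S.H1_le_B1 h1, (relsG2 K).H_le_N h1.1, h1.2⟩
  mul_mem_union := by
    intro s hs n hn b hb
    have hs' : (s : GL chevG2.Idx K) = n0 := congrArg Subtype.val (Set.mem_singleton_iff.mp hs)
    have hn' := Subgroup.mem_subgroupOf.mp hn
    have hg : n0 * (b : GL chevG2.Idx K) * n ∈ S.G1 := Subgroup.mul_mem _ (Subgroup.mul_mem _ hn0.2 b.2) n.2
    have hfin : ∀ (y : ↥S.G1), (∃ b1 ∈ chevG2.borelSubgroup K ⊓ S.G1, ∃ b2 ∈ chevG2.borelSubgroup K ⊓ S.G1,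
        n0 * (b : GL chevG2.Idx K) * n = b1 * y * b2) →
        s * b * n ∈ DoubleCoset.doubleCoset y
          (((chevG2.borelSubgroup K ⊓ S.G1).subgroupOf S.G1 : Subgroup ↥S.G1) : Set ↥S.G1)
          ((chevG2.borelSubgroup K ⊓ S.G1).subgroupOf S.G1) := by
      rintro y ⟨b1, hb1, b2, hb2, h⟩
      rw [DoubleCoset.mem_doubleCoset]
      refine ⟨⟨b1, hb1.2⟩, Subgroup.mem_subgroupOf.mpr hb1, ⟨b2, hb2.2⟩, Subgroup.mem_subgroupOf.mpr hb2, ?_⟩
      apply Subtype.ext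
      simp only [Subgroup.coe_mul, hs']
      exact h
    rcases S.N1_cases hn' with hm | hm
    · have hm2 : (relsG2 K).IsMono (n0 * (n : GL chevG2.Idx K)) w0G2 := by
        have := Rels.IsMono.mul (relsG2 K) hm0 hm
        rwa [mul_one] at this
      rcases S.two_cosets hg hn' (Subgroup.mul_mem _ hn0 hn') hm hm2 with h | h
      · exact Or.inr (hfin n h)
      · refine Or.inl (hfin (s * n) ?_)
        rw [Subgroup.coe_mul, hs']
        exact h
    · have hm2 : (relsG2 K).IsMono (n0 * (n : GL chevG2.Idx K)) 1 := by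
        have := Rels.IsMono.mul (relsG2 K) hm0 hm
        rwa [w0G2_mul_self] at this
      rcases S.two_cosets hg (Subgroup.mul_mem _ hn0 hn') hn' hm2 hm with h | h
      · refine Or.inl (hfin (s * n) ?_)
        rw [Subgroup.coe_mul, hs']
        exact h
      · exact Or.inr (hfin n h)
  conj_ne := by
    intro s hs heq
    have hs' : (s : GL chevG2.Idx K) = n0 := congrArg Subtype.val (Set.mem_singleton_iff.mp hs)
    have hxG := S.uR_mem_G1 0 0 1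
    have hx : (⟨S.uR 0 0 1, hxG⟩ : ↥S.G1) ∈ ((chevG2.borelSubgroup K ⊓ S.G1).subgroupOf S.G1 : Set ↥S.G1) :=
      Subgroup.mem_subgroupOf.mpr ⟨(relsG2 K).U_le_B (PU_mem_U _ _ _ _ _ _), hxG⟩
    have h1 : s * ⟨S.uR 0 0 1, hxG⟩ * s ∈ ((chevG2.borelSubgroup K ⊓ S.G1).subgroupOf S.G1 : Set ↥S.G1) := by
      rw [← heq]; exact ⟨_, hx, rfl⟩
    have h2 := (Subgroup.mem_subgroupOf.mp h1).1
    simp only [Subgroup.coe_mul, hs'] at h2
    have h3 : n0 * S.uR 0 0 1 * n0⁻¹ ∈ chevG2.borelSubgroup K := by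
      have h4 := Subgroup.mul_mem _ h2 (Subgroup.inv_mem _ (S.H1_le_B1 (S.H1_of_two hn0 hn0 hm0 hm0).2.2).1)
      have e : n0 * S.uR 0 0 1 * n0 * (n0 * n0)⁻¹ = n0 * S.uR 0 0 1 * n0⁻¹ := by group
      rwa [e] at h4
    have h5 : n0 * S.uR 0 0 1 * n0⁻¹ ∈ chevG2.borelSubgroup K ⊓ chevG2.negUnipotent K :=
      ⟨h3, mono_w0_conj_U hm0 _ (PU_mem_U _ _ _ _ _ _)⟩
    rw [(relsG2 K).B_inf_V, Subgroup.mem_bot] at h5
    apply S.uR_ne_one
    have e : S.uR 0 0 1 = n0⁻¹ * (n0 * S.uR 0 0 1 * n0⁻¹) * n0 := by group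
    rw [e, h5]; group

end Ree

end Cfsg.Agent.Chev
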