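import Cfsg.Agent.Chev.TwG8

/-!
# The Ree groups `²G₂`: the link with the definition, first results
-/

set_option autoImplicit false
set_option linter.unusedSectionVars false
set_option linter.unusedVariables false
set_option maxRecDepth 100000

namespace Cfsg.Agent.Chev
open Cfsg.Lie
open scoped MatrixGroups

section
variable {K : Type*} [Field K] [Fintype K] {m : ℕ}

theorem charP3_of_card (hK : Fintype.card K = 3 ^ (2 * m + 1)) : CharP K 3 := by
  obtain ⟨p, hchar⟩ := CharP.exists K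
  obtain ⟨n, hp, hc⟩ := FiniteField.card K p
  have : p = 3 := by
    have h1 : p ∣ 3 ^ (2 * m + 1) := by rw [← hK, hc]; exact dvd_pow_self _ n.ne_zero
    exact (Nat.prime_dvd_prime_iff_eq hp (by norm_num)).mp (hp.dvd_of_dvd_pow h1)
  rw [← this]; exact hchar

/-- the twisting data over the field with `3 ^ (2 m + 1)` elements -/
noncomputable def mkRee [CharP K 3] (hK : Fintype.card K = 3 ^ (2 * m + 1)) : Ree K :=
  haveI : Fact (Nat.Prime 3) := ⟨by norm_num⟩
  { θ := 3 ^ m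
    φ := iterateFrobenius K 3 m
    phi_eq := fun a => iterateFrobenius_def 3 m a
    phi_phi := fun a => by
      rw [iterateFrobenius_def, iterateFrobenius_def, ← pow_mul, ← pow_mul]
      have : 3 ^ m * (3 ^ m * 3) = Fintype.card K := by rw [hK]; ring
      rw [this, FiniteField.pow_card]
    σ := Classical.choose (exists_sigmaG2 (iterateFrobenius K 3 m))
    sig_xg := Classical.choose_spec (exists_sigmaG2 (iterateFrobenius K 3 m)) }

theorem mkRee_theta [CharP K 3] (hK : Fintype.card K = 3 ^ (2 * m + 1)) : (mkRee hK).θ = 3 ^ m := rfl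

end

namespace Ree
variable {K : Type*} [Field K] [Fintype K] [CharP K 3] (S : Ree K)

omit [Fintype K] [CharP K 3] in
theorem wg_reeU (t u v : K) : (relsG2 K).wg (reeWordU S.θ t u v) = S.uR t u v := by
  have e1 : t ^ (S.θ + 1) = S.φ t * t := by rw [pow_succ, S.phi_eq]
  have e2 : t ^ (2 * S.θ + 1) = S.φ t ^ 2 * t := by rw [pow_succ, mul_comm 2, pow_mul, S.phi_eq]
  unfold reeWordU uR PU
  rw [e1, e2, ← S.phi_eq, ← S.phi_eq, ← S.phi_eq]
  simp only [Rels.wg_cons, Rels.wg_nil, mul_one, mul_assoc]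
  rfl

omit [Fintype K] [CharP K 3] in
theorem wg_reeV (t u v : K) : (relsG2 K).wg (reeWordV S.θ t u v) = S.vR t u v := by
  have e1 : t ^ (S.θ + 1) = S.φ t * t := by rw [pow_succ, S.phi_eq]
  have e2 : t ^ (2 * S.θ + 1) = S.φ t ^ 2 * t := by rw [pow_succ, mul_comm 2, pow_mul, S.phi_eq]
  unfold reeWordV reeWordU ChevalleyDatum.negWord vR PV
  rw [e1, e2, ← S.phi_eq, ← S.phi_eq, ← S.phi_eq]
  simp only [List.map_cons, List.map_nil, Rels.wg_cons, Rels.wg_nil, mul_one, mul_assoc]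
  rfl

omit [Fintype K] [CharP K 3] in
theorem twistedG2_eq : twistedG2 K S.θ = S.G1 := by
  unfold twistedG2 ChevalleyDatum.genSubgroup G1
  congr 1
  ext g
  constructor
  · rintro ⟨w, ⟨t, u, v, rfl | rfl⟩, hg⟩
    · exact ⟨t, u, v, Or.inl (by rw [← S.wg_reeU]; exact ((relsG2 K).eq_wg_iff _ _).mp hg)⟩
    · exact ⟨t, u, v, Or.inr (by rw [← S.wg_reeV]; exact ((relsG2 K).eq_wg_iff _ _).mp hg)⟩
  · rintro ⟨t, u, v, rfl | rfl⟩
    · exact ⟨_, ⟨t, u, v, Or.inl rfl⟩, by rw [← S.wg_reeU]; exact (relsG2 K).coe_wg _⟩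
    · exact ⟨_, ⟨t, u, v, Or.inr rfl⟩, by rw [← S.wg_reeV]; exact (relsG2 K).coe_wg _⟩

theorem mem_U1_iff (g : GL chevG2.Idx K) : g ∈ chevG2.posUnipotent K ⊓ S.G1 ↔ ∃ t u v, g = S.uR t u v := by
  constructor
  · intro h
    rw [S.U_inf_G1] at h
    exact S.U_fixed h
  · rintro ⟨t, u, v, rfl⟩
    exact ⟨PU_mem_U _ _ _ _ _ _, S.uR_mem_G1 t u v⟩

theorem card_U1 : Nat.card ↥(chevG2.posUnipotent K ⊓ S.G1) = Fintype.card K ^ 3 := by
  let ψ : K × K × K → ↥(chevG2.posUnipotent K ⊓ S.G1) := fun x =>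
    ⟨S.uR x.1 x.2.1 x.2.2, (S.mem_U1_iff _).mpr ⟨_, _, _, rfl⟩⟩
  have hψ : Function.Bijective ψ := by
    constructor
    · rintro ⟨t, u, v⟩ ⟨t', u', v'⟩ h
      obtain ⟨h1, h2, h3⟩ := S.uR_inj (congrArg Subtype.val h)
      simp only at h1 h2 h3
      rw [h1, h2, h3]
    · rintro ⟨g, hg⟩
      obtain ⟨t, u, v, rfl⟩ := (S.mem_U1_iff g).mp hg
      exact ⟨(t, u, v), rfl⟩
  rw [← Nat.card_congr (Equiv.ofBijective ψ hψ), Nat.card_prod, Nat.card_prod, Nat.card_eq_fintype_card]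
  ring

end Ree

end Cfsg.Agent.Chev
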