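import Cfsg.Agent.Chev.Tw13
import Cfsg.Agent.Chev.Tw11
import Cfsg.Agent.Chev.Torus
import Cfsg.Agent.Chev.Tw6

/-!
# Twisted groups: the diagonal subgroup
-/

set_option autoImplicit false
set_option linter.unusedSectionVars false
set_option linter.unusedVariables false

namespace Cfsg.Agent.Chev
open Cfsg.Lie
open scoped MatrixGroups

section abstract
variable {T : Type*} [CommGroup T]

theorem fix_of_two (s : T →* T) (hs : ∀ x, s (s x) = x) (a : T) (hz : (s a * a⁻¹) ^ 3 = 1) :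
    s (a * (s a * a⁻¹)⁻¹) = a * (s a * a⁻¹)⁻¹ := by
  rw [map_mul, map_inv, map_mul, map_inv, hs]
  have h1 : s a * s a * s a = a * a * a := by
    have : (s a * a⁻¹) ^ 3 = (s a * s a * s a) * (a * a * a)⁻¹ := by
      rw [pow_succ, pow_succ, pow_one]
      simp only [mul_inv_rev]
      simp only [mul_assoc, mul_comm, mul_left_comm]
    rw [this] at hz
    exact mul_inv_eq_one.mp hz
  have h2 : s a * (a * (s a)⁻¹)⁻¹ = (s a * s a * s a) * (a * s a)⁻¹ := by
    simp only [mul_inv_rev, inv_inv]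
    have : s a * s a * s a * ((s a)⁻¹ * a⁻¹) = s a * s a * a⁻¹ := by
      rw [← mul_assoc, mul_inv_cancel_right]
    rw [this, mul_assoc]
  rw [h2, h1]
  simp only [mul_inv_rev, inv_inv]
  have : a * a * a * ((s a)⁻¹ * a⁻¹) = a * a * (s a)⁻¹ := by
    rw [mul_comm (s a)⁻¹ a⁻¹, ← mul_assoc, mul_inv_cancel_right]
  rw [this, mul_assoc]

theorem fix_of_three (s : T →* T) (hs : ∀ x, s (s (s x)) = x) (a : T) (hz : (s a * a⁻¹) ^ 2 = 1) :
    s (a * s (s a * a⁻¹)) = a * s (s a * a⁻¹) := by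
  set b := s a with hb
  set c := s b with hc
  have hca : s c = a := hs a
  have h1 : b * b = a * a := by
    have : (b * a⁻¹) ^ 2 = (b * b) * (a * a)⁻¹ := by
      rw [pow_succ, pow_one]
      simp only [mul_inv_rev]
      simp only [mul_assoc, mul_comm, mul_left_comm]
    rw [this] at hz
    exact mul_inv_eq_one.mp hz
  have h2 : c * c = b * b := by
    have := congrArg s h1
    rwa [map_mul, map_mul, ← hb, ← hc] at this
  rw [map_mul, map_mul, map_mul, map_inv, map_inv, ← hb, ← hc, hca]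
  -- `b * (a * c⁻¹) = a * (c * b⁻¹)`
  have h3 : b * (a * c⁻¹) * (c * b) = a * (b * b) := by
    calc b * (a * c⁻¹) * (c * b) = a * (b * b) * (c⁻¹ * c) := by
          simp only [mul_assoc, mul_comm, mul_left_comm]
      _ = _ := by rw [inv_mul_cancel, mul_one]
  have h4 : a * (c * b⁻¹) * (c * b) = a * (c * c) := by
    calc a * (c * b⁻¹) * (c * b) = a * (c * c) * (b⁻¹ * b) := by
          simp only [mul_assoc, mul_comm, mul_left_comm]
      _ = _ := by rw [inv_mul_cancel, mul_one]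
  apply mul_right_cancel (b := c * b)
  rw [h3, h4, h2]

end abstract

variable {D : ChevalleyDatum} {G : Good D} {K : Type*} [Field K]

/-- the parametrization of the diagonal subgroup -/
def tau (D : ChevalleyDatum) (K : Type*) [Field K] : (Fin D.rank → Kˣ) →* GL D.Idx K := (diagG D.Idx K).comp (kap D K)

/-- table facts for the torus -/
structure TwT (D : ChevalleyDatum) (C : TwC) : Prop where
  cart_rho : ∀ i < D.rank, ∀ s < D.nroots, D.cartan (C.π i) (C.ρ s) = D.cartan i s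

namespace TwS
variable {C : TwC} {O : TwOK D C} {R : Rels D G K} (S : TwS C O R)
include S

theorem pi_pow {j : ℕ} (hj : j < D.rank) : C.π^[C.d] j = j := by
  have h := O.simple_iter hj C.d
  rw [O.rho_pow _ (G.simple_lt j hj)] at h
  exact (R.Good_simple_inj hj h.1 h.2).symm

omit S in
/-- `π` as a permutation of the fundamental roots -/
def piP (S : TwS C O R) : Equiv.Perm (Fin D.rank) where
  toFun j := ⟨C.π j, (O.simple j j.2).1⟩
  invFun j := ⟨C.π^[C.d - 1] j, (O.simple_iter j.2 _).1⟩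
  left_inv j := by
    apply Fin.ext
    show C.π^[C.d - 1] (C.π j) = j
    rw [← Function.iterate_succ_apply C.π, show (C.d - 1).succ = C.d from Nat.succ_pred_eq_of_pos O.d_pos]
    exact S.pi_pow j.2
  right_inv j := by
    apply Fin.ext
    show C.π (C.π^[C.d - 1] j) = j
    rw [← Function.iterate_succ_apply' C.π, show (C.d - 1).succ = C.d from Nat.succ_pred_eq_of_pos O.d_pos]
    exact S.pi_pow j.2

theorem piP_apply (j : Fin D.rank) : ((S.piP j : Fin D.rank) : ℕ) = C.π j := rfl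

/-- the action of the twisting on the parameters of the torus -/
def sh : (Fin D.rank → Kˣ) →* (Fin D.rank → Kˣ) where
  toFun c j := Units.map (S.φ : K →* K) (c (S.piP⁻¹ j))
  map_one' := by ext j; simp
  map_mul' c c' := by ext j; simp

theorem sh_apply (c : Fin D.rank → Kˣ) (j : Fin D.rank) : S.sh c j = Units.map (S.φ : K →* K) (c (S.piP⁻¹ j)) := rfl

theorem sh_pi (c : Fin D.rank → Kˣ) (i : Fin D.rank) : S.sh c (S.piP i) = Units.map (S.φ : K →* K) (c i) := by
  rw [S.sh_apply]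
  congr 2
  exact S.piP.symm_apply_apply i

theorem tau_mem_H (c : Fin D.rank → Kˣ) : tau D K c ∈ D.diagonalSubgroup K := by
  rw [← R.range_tor]
  exact ⟨c, rfl⟩

theorem sig_tau (T : TwT D C) (c : Fin D.rank → Kˣ) : S.sig (tau D K c) = tau D K (S.sh c) := by
  have hh := S.tau_mem_H c
  obtain ⟨χ, c1, c2, c3⟩ := R.H_le_Tor hh
  obtain ⟨χ', c1', c2', c3'⟩ := R.H_le_Tor (S.sig_H _ hh)
  have hχ : ∀ a, (χ a : K) = (kap D K c a : Kˣ) := by
    intro a
    have : Matrix.diagonal (fun a => (χ a : K)) = Matrix.diagonal (fun a => ((kap D K c a : Kˣ) : K)) := by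
      rw [← c2]; rfl
    exact congrFun (Matrix.diagonal_injective this) a
  apply Units.ext
  rw [c2']
  show _ = Matrix.diagonal (fun a => ((kap D K (S.sh c) a : Kˣ) : K))
  congr 1
  funext a
  rcases a with i | s'
  · rw [c1']
    show (1 : K) = ((∏ j, S.sh c j ^ wtI D (D.cartan j) (Sum.inl i) : Kˣ) : K)
    simp [wtI]
  · obtain ⟨s, rfl⟩ : ∃ s, s' = O.rhoP s := ⟨O.rhoP⁻¹ s', by simp⟩
    have hε : (C.ε s : K) ≠ 0 := by
      rcases S.eps_cases s.2 with h | h <;> rw [h] <;> simp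
    have e1 := congrArg S.sig (c3 s 1)
    rw [map_mul, map_mul, S.sig_xg s s.2, S.sig_xg s s.2, map_one, mul_one, mul_one] at e1
    have e2 := c3' (O.rhoP s) (C.ε s : K)
    rw [O.rhoP_apply, e1] at e2
    have e3 := S.xg_inj (O.rho_lt s s.2) (mul_right_cancel e2)
    have e4 : (χ' (Sum.inr (O.rhoP s)) : K) = S.φ (χ (Sum.inr s)) := by
      rw [mul_comm] at e3
      exact (mul_right_cancel₀ hε e3).symm
    rw [e4, hχ]
    show S.φ ((∏ i : Fin D.rank, c i ^ D.cartan i s : Kˣ) : K) =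
      ((∏ j : Fin D.rank, S.sh c j ^ D.cartan j (C.ρ s) : Kˣ) : K)
    rw [← Equiv.prod_comp S.piP (fun j : Fin D.rank => S.sh c j ^ D.cartan j (C.ρ s))]
    push_cast
    rw [map_prod]
    apply Finset.prod_congr rfl
    intro i _
    rw [S.sh_pi, S.piP_apply, T.cart_rho i i.2 s s.2, map_zpow₀]
    rfl

theorem tau_single (i : Fin D.rank) (a : Kˣ) : tau D K (Pi.mulSingle i a) = R.hg (D.simple i) (a : K) := by
  apply Units.ext
  rw [R.coe_hg, R.hmat _ (G.simple_lt i i.2) _ a.ne_zero]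
  show Matrix.diagonal (fun b => ((kap D K (Pi.mulSingle i a) b : Kˣ) : K)) = _
  congr 1
  funext b
  show ((∏ j, (Pi.mulSingle i a : Fin D.rank → Kˣ) j ^ wtI D (D.cartan j) b : Kˣ) : K) = _
  rw [Finset.prod_eq_single i]
  · rw [Pi.mulSingle_eq_same]
    push_cast
    congr 1
    rcases b with b | b
    · rfl
    · exact (G.pairing_simple i i.2 b).symm
  · intro j _ hj
    rw [Pi.mulSingle_eq_of_ne hj, one_zpow]
  · intro h; exact absurd (Finset.mem_univ i) h

theorem tau_ker : (tau D K).ker = (zphi (cartanM D) : (Fin D.rank → Kˣ) →* _).ker := by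
  rw [← G.kap_ker]
  ext c
  unfold tau
  rw [MonoidHom.mem_ker, MonoidHom.mem_ker, MonoidHom.comp_apply, map_eq_one_iff _ diagG_injective]

theorem ker_exponent {N : Matrix (Fin D.rank) (Fin D.rank) ℤ} {k : ℕ} (hN : cartanM D * N = (k : ℤ) • 1)
    {z : Fin D.rank → Kˣ} (hz : z ∈ (tau D K).ker) : z ^ k = 1 := by
  rw [S.tau_ker, MonoidHom.mem_ker] at hz
  have h1 := zphi_mul (cartanM D) N z
  rw [hz, map_one, hN] at h1
  rw [← h1]
  ext j
  rw [zphi_apply, Finset.prod_eq_single j]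
  · simp
  · intro i _ hij
    simp [Matrix.one_apply_ne hij]
  · intro h; exact absurd (Finset.mem_univ j) h

theorem sh_iter (c : Fin D.rank → Kˣ) : (S.sh)^[C.d] c = c := by
  have key : ∀ m (c : Fin D.rank → Kˣ) (j : Fin D.rank), ((S.sh)^[m] c ((S.piP ^ m) j) : Kˣ) =
      Units.map ((S.φ ^ m : K →+* K) : K →* K) (c j) := by
    intro m
    induction m with
    | zero => intro c j; ext; simp
    | succ m ih =>
      intro c j
      rw [Function.iterate_succ_apply', pow_succ', Equiv.Perm.mul_apply, S.sh_pi, ih]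
      ext
      simp [pow_succ']
  have hp : S.piP ^ C.d = 1 := by
    ext j
    have : ∀ m, (((S.piP ^ m) j : Fin D.rank) : ℕ) = C.π^[m] j := by
      intro m
      induction m with
      | zero => rfl
      | succ m ih => rw [pow_succ', Equiv.Perm.mul_apply, S.piP_apply, ih, Function.iterate_succ_apply']
    rw [this, S.pi_pow j.2]; rfl
  funext j
  have := key C.d c j
  rw [hp, Equiv.Perm.one_apply] at this
  rw [this]
  ext
  simp only [Units.coe_map, MonoidHom.coe_coe, RingHom.coe_pow]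
  exact S.phi_pow _

/-- the fixed points of the torus -/
def Tfix : Subgroup (Fin D.rank → Kˣ) := MonoidHom.eqLocus S.sh (MonoidHom.id _)

theorem mem_Tfix (c : Fin D.rank → Kˣ) : c ∈ S.Tfix ↔ S.sh c = c := Iff.rfl

theorem H_fixed_le (T : TwT D C)
    (hZ : ∀ a : Fin D.rank → Kˣ, S.sh a * a⁻¹ ∈ (tau D K).ker → ∃ z' ∈ (tau D K).ker, S.sh (a * z') = a * z') :
    ∀ h ∈ D.diagonalSubgroup K ⊓ S.Γ, ∃ a ∈ S.Tfix, tau D K a = h := by
  rintro h ⟨h1, h2⟩
  rw [← R.range_tor] at h1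
  obtain ⟨a, rfl⟩ := h1
  change S.sig (tau D K a) = tau D K a at h2
  rw [S.sig_tau T] at h2
  have h3 : S.sh a * a⁻¹ ∈ (tau D K).ker := by
    rw [MonoidHom.mem_ker, map_mul, map_inv, h2, mul_inv_cancel]
  obtain ⟨z', hz', e⟩ := hZ a h3
  refine ⟨a * z', e, ?_⟩
  rw [map_mul, MonoidHom.mem_ker.mp hz', mul_one]
  rfl

theorem H1_eq (G2 : Good2 D) [Fintype K] (T : TwT D C)
    (hZ : ∀ a : Fin D.rank → Kˣ, S.sh a * a⁻¹ ∈ (tau D K).ker → ∃ z' ∈ (tau D K).ker, S.sh (a * z') = a * z')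
    (hG : ∀ a ∈ S.Tfix, tau D K a ∈ S.G1) :
    ((tau D K).comp S.Tfix.subtype).range = D.diagonalSubgroup K ⊓ S.G1 := by
  apply le_antisymm
  · rintro _ ⟨a, rfl⟩
    exact ⟨S.tau_mem_H a.1, hG a.1 a.2⟩
  · intro h hh
    obtain ⟨a, ha, e⟩ := S.H_fixed_le T hZ h ⟨hh.1, S.G1_le_Γ hh.2⟩
    exact ⟨⟨a, ha⟩, e⟩

theorem card_H1 (G2 : Good2 D) [Fintype K] (T : TwT D C)
    (hZ : ∀ a : Fin D.rank → Kˣ, S.sh a * a⁻¹ ∈ (tau D K).ker → ∃ z' ∈ (tau D K).ker, S.sh (a * z') = a * z')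
    (hG : ∀ a ∈ S.Tfix, tau D K a ∈ S.G1) :
    Nat.card ((tau D K).comp S.Tfix.subtype).ker * Nat.card ↥(D.diagonalSubgroup K ⊓ S.G1) = Nat.card ↥S.Tfix := by
  rw [← S.H1_eq G2 T hZ hG, ← Subgroup.index_ker]
  exact Subgroup.card_mul_index _

/-- the Frobenius map on units -/
def Phi : Kˣ →* Kˣ := Units.map (S.φ : K →* K)

theorem Phi_eq (u : Kˣ) : S.Phi u = u ^ S.q := by
  ext
  simp only [Phi, Units.coe_map, MonoidHom.coe_coe, Units.val_pow_eq_pow_val]
  exact S.phi_eq _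

theorem q_pos : 0 < S.q := by
  rcases Nat.eq_zero_or_pos S.q with h | h
  · have h1 := S.phi_eq 0
    rw [h, pow_zero, map_zero] at h1
    exact absurd h1 zero_ne_one
  · exact h

theorem Phi_fix_iff (u : Kˣ) : S.Phi u = u ↔ u ^ (S.q - 1) = 1 := by
  rw [S.Phi_eq]
  have h : u ^ S.q = u ^ (S.q - 1) * u := by rw [← pow_succ, Nat.sub_add_cancel S.q_pos]
  rw [h]
  constructor
  · intro e
    exact mul_eq_right.mp e
  · intro e
    rw [e, one_mul]

theorem card_Phi_fix [Fintype K] : Nat.card {u : Kˣ // S.Phi u = u} = S.q - 1 := by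
  rw [Nat.card_congr (Equiv.subtypeEquivRight S.Phi_fix_iff), card_units_pow_eq_one]
  have hK : Fintype.card K = S.q ^ C.d := by rw [← Nat.card_eq_fintype_card]; exact S.card_K
  rw [hK]
  apply Nat.gcd_eq_right
  have := Nat.sub_dvd_pow_sub_pow S.q 1 C.d
  rwa [one_pow] at this

theorem card_units [Fintype K] : Nat.card Kˣ = S.q ^ C.d - 1 := by
  rw [Nat.card_units, S.card_K]

end TwS

end Cfsg.Agent.Chev
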