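import Cfsg.Agent.Chev.Bridge

/-!
# Fast application of the unipotent operators `x_r(p)` through column descriptors
-/

set_option autoImplicit false

namespace Cfsg.Agent.Chev
open Cfsg.Lie

/-- `p^k`, kernel friendly -/
noncomputable def ppow (p : Vec) (k : ℕ) : Vec :=
  Nat.rec (motive := fun _ => Vec) [⟨0, 0, 0, 1, 0⟩] (fun m ih => bite (Nat.beq m 0) p (pmul p ih)) k

theorem ppow_succ (p : Vec) (m : ℕ) : ppow p (m+1) = bite (Nat.beq m 0) p (pmul p (ppow p m)) := rfl

theorem pv_ppow {F : Type*} [CommRing F] (a b : F) (p : Vec) (k : ℕ) :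
    pv a b (ppow p k) = pv a b p ^ k := by
  induction k with
  | zero => simp [ppow, Tm.val]
  | succ m ih =>
    rw [ppow_succ]
    by_cases h : m = 0
    · subst h; simp
    · rw [(nbeq_false_iff _ _).mpr h, bite_false, pv_pmul, ih, pow_succ, mul_comm]

/-- insert `(cp - cn) * q * τ` at key `k` into the accumulator -/
noncomputable def placeS (k cp cn : ℕ) (τ : Tm) (q acc : Vec) : Vec :=
  List.rec (motive := fun _ => Vec → Vec) (fun acc => acc) (fun μ _ ih acc =>
     ih (ins ⟨k, Nat.add μ.i τ.i, Nat.add μ.j τ.j,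
       Nat.add (Nat.mul cp (Nat.add (Nat.mul μ.p τ.p) (Nat.mul μ.n τ.n)))
               (Nat.mul cn (Nat.add (Nat.mul μ.p τ.n) (Nat.mul μ.n τ.p))),
       Nat.add (Nat.mul cp (Nat.add (Nat.mul μ.p τ.n) (Nat.mul μ.n τ.p)))
               (Nat.mul cn (Nat.add (Nat.mul μ.p τ.p) (Nat.mul μ.n τ.n)))⟩ acc)) q acc

theorem placeS_nil (k cp cn : ℕ) (τ : Tm) (acc : Vec) : placeS k cp cn τ [] acc = acc := rfl
theorem placeS_cons (k cp cn : ℕ) (τ μ : Tm) (q acc : Vec) : placeS k cp cn τ (μ :: q) acc =
     placeS k cp cn τ q (ins ⟨k, Nat.add μ.i τ.i, Nat.add μ.j τ.j,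
       Nat.add (Nat.mul cp (Nat.add (Nat.mul μ.p τ.p) (Nat.mul μ.n τ.n)))
               (Nat.mul cn (Nat.add (Nat.mul μ.p τ.n) (Nat.mul μ.n τ.p))),
       Nat.add (Nat.mul cp (Nat.add (Nat.mul μ.p τ.n) (Nat.mul μ.n τ.p)))
               (Nat.mul cn (Nat.add (Nat.mul μ.p τ.p) (Nat.mul μ.n τ.n)))⟩ acc) := rfl

theorem ev_placeS {F : Type*} [CommRing F] (a b : F) (k cp cn : ℕ) (τ : Tm) (q acc : Vec) (x : ℕ) :
    ev a b (placeS k cp cn τ q acc) x =
      (if k = x then τ.val a b * (((cp : F) - (cn : F)) * pv a b q) else 0) + ev a b acc x := by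
  induction q generalizing acc with
  | nil => simp [placeS_nil]
  | cons μ q ih =>
    rw [placeS_cons, ih, ev_ins, pv_cons]
    simp only [Tm.val, Nat.add_eq, Nat.mul_eq, Nat.cast_add, Nat.cast_mul, pow_add]
    split_ifs <;> ring

/-- insert the extra terms of `x (τ)` into the accumulator -/
noncomputable def extra (p : Vec) (τ : Tm) (d : Desc) (acc : Vec) : Vec :=
  List.rec (motive := fun _ => Vec → Vec) (fun acc => acc)
    (fun e _ ih acc => ih (placeS e.k e.cp e.cn τ (ppow p e.e) acc)) d acc

theorem extra_nil (p : Vec) (τ : Tm) (acc : Vec) : extra p τ [] acc = acc := rfl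
theorem extra_cons (p : Vec) (τ : Tm) (e : DE) (d : Desc) (acc : Vec) :
    extra p τ (e :: d) acc = extra p τ d (placeS e.k e.cp e.cn τ (ppow p e.e) acc) := rfl

/-- the coordinate `x` of the vector described by a descriptor -/
def dsum {F : Type*} [CommRing F] (P : F) : Desc → ℕ → F
  | [], _ => 0
  | e :: d, x => (if e.k = x then ((e.cp : F) - (e.cn : F)) * P ^ e.e else 0) + dsum P d x

theorem ev_extra {F : Type*} [CommRing F] (a b : F) (p : Vec) (τ : Tm) (d : Desc) (acc : Vec) (x : ℕ) :
    ev a b (extra p τ d acc) x = τ.val a b * dsum (pv a b p) d x + ev a b acc x := by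
  induction d generalizing acc with
  | nil => simp [extra_nil, dsum]
  | cons e d ih =>
    rw [extra_cons, ih, ev_placeS, pv_ppow]
    simp only [dsum]
    split_ifs <;> ring

/-- fast application of a unipotent operator (accumulator version, merging equal keys and
skipping zero terms) -/
noncomputable def applyUAux (d : ℕ → Desc) (p : Vec) (v acc : Vec) : Vec :=
  List.rec (motive := fun _ => Vec → Vec) (fun acc => acc)
    (fun τ _ ih acc => Bool.rec (ih (extra p τ (d τ.k) (ins τ acc))) (ih acc) (Nat.beq τ.p τ.n)) v acc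

noncomputable def applyU (d : ℕ → Desc) (p : Vec) (v : Vec) : Vec := applyUAux d p v []

theorem applyUAux_nil (d : ℕ → Desc) (p acc : Vec) : applyUAux d p [] acc = acc := rfl
theorem applyUAux_cons (d : ℕ → Desc) (p : Vec) (τ : Tm) (v acc : Vec) :
    applyUAux d p (τ :: v) acc =
      Bool.rec (applyUAux d p v (extra p τ (d τ.k) (ins τ acc))) (applyUAux d p v acc) (Nat.beq τ.p τ.n) := rfl

section
variable {l n : ℕ} {F : Type*} [CommRing F]

theorem repA_applyU (a b : F) (d : ℕ → Desc) (p : Vec) (M : Matrix (Fin l ⊕ Fin n) (Fin l ⊕ Fin n) F)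
    (hcol : ∀ row col, M row col = (if code col = code row then 1 else 0) + dsum (pv a b p) (d (code col)) (code row))
    (hoor : ∀ k, l + n ≤ k → d k = []) : RepA a b (applyU d p) M := by
  intro v row
  have key : ∀ acc : Vec, ev a b (applyUAux d p v acc) (code row) =
      ∑ c, M row c * ev a b v (code c) + ev a b acc (code row) := by
    induction v with
    | nil => intro acc; simp [applyUAux_nil]
    | cons τ v ih =>
      intro acc
      rw [applyUAux_cons]
      simp only [ev_cons, mul_add, Finset.sum_add_distrib]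
      cases hz : Nat.beq τ.p τ.n with
      | true =>
        have hz' : τ.p = τ.n := (nbeq_iff _ _).mp hz
        have hv : τ.val a b = 0 := by simp [Tm.val, hz']
        simp only [ih, hv, ite_self, mul_zero, Finset.sum_const_zero, zero_add]
      | false =>
        simp only [ih, ev_extra, ev_ins]
        have : (∑ c, M row c * if τ.k = code c then τ.val a b else 0) =
            (if τ.k = code row then τ.val a b else 0) + τ.val a b * dsum (pv a b p) (d τ.k) (code row) := by
          by_cases hk : τ.k < l + n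
          · obtain ⟨c, hc⟩ := exists_code hk
            rw [Finset.sum_eq_single c]
            · rw [hcol, hc]
              simp only [if_true]
              split_ifs <;> ring
            · intro c' _ hne
              have : τ.k ≠ code c' := by
                rw [← hc]; exact fun e => hne (code_injective e.symm)
              simp [this]
            · simp
          · rw [hoor _ (not_lt.mp hk)]
            have h1 : τ.k ≠ code row := fun e => hk (e ▸ code_lt row)
            rw [if_neg h1]
            simp only [dsum, mul_zero, add_zero]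
            apply Finset.sum_eq_zero
            intro c _
            have : τ.k ≠ code c := fun e => hk (e ▸ code_lt c)
            simp [this]
        rw [this]; ring
  have := key []
  simpa [applyU] using this

end

/-! ### the descriptor derived from an accessor record -/

noncomputable def chainD (l : ℕ) (L : List (ℕ × ℤ)) (e : ℕ) : Desc :=
  List.rec (motive := fun _ => ℕ → Desc) (fun _ => [])
    (fun x _ ih e => ⟨Nat.add l x.1, Int.toNat x.2, Int.toNat (Int.neg x.2), e⟩ :: ih (Nat.succ e)) L e

theorem chainD_nil (l e : ℕ) : chainD l [] e = [] := rfl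
theorem chainD_cons (l : ℕ) (x : ℕ × ℤ) (L : List (ℕ × ℤ)) (e : ℕ) :
    chainD l (x :: L) e = ⟨Nat.add l x.1, Int.toNat x.2, Int.toNat (Int.neg x.2), e⟩ :: chainD l L (Nat.succ e) := rfl

noncomputable def hD (H : ℕ → ℤ) (m : ℕ) (rest : Desc) : Desc :=
  Nat.rec (motive := fun _ => Desc) rest
    (fun i ih => ⟨i, Int.toNat (H i), Int.toNat (Int.neg (H i)), 1⟩ :: ih) m

theorem hD_zero (H : ℕ → ℤ) (rest : Desc) : hD H 0 rest = rest := rfl
theorem hD_succ (H : ℕ → ℤ) (m : ℕ) (rest : Desc) :
    hD H (m+1) rest = ⟨m, Int.toNat (H m), Int.toNat (Int.neg (H m)), 1⟩ :: hD H m rest := rfl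

noncomputable def Acc.desc (T : Acc) (r key : ℕ) : Desc :=
  bite (nlt key T.l)
    (bite (decide (T.A key r = 0)) []
      [⟨Nat.add T.l r, Int.toNat (Int.neg (T.A key r)), Int.toNat (T.A key r), 1⟩])
    (bite (nlt key (Nat.add T.l T.n))
      (bite (Nat.beq (Nat.sub key T.l) r) []
        (bite (Nat.beq (Nat.sub key T.l) (T.neg r)) (hD (T.H r) T.l [⟨Nat.add T.l r, 0, 1, 2⟩])
           (chainD T.l (T.ent r (Nat.sub key T.l)) 1)))
      [])

section
variable {F : Type*} [Field F]

theorem dsum_hD (P : F) (H : ℕ → ℤ) (m : ℕ) (rest : Desc) (x : ℕ) :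
    dsum P (hD H m rest) x = (if x < m then (H x : F) * P else 0) + dsum P rest x := by
  induction m with
  | zero => simp [hD_zero]
  | succ m ih =>
    rw [hD_succ]
    simp only [dsum, ih, pow_one]
    have hneg : Int.neg (H m) = -(H m) := rfl
    rw [hneg, toNat_sub_toNat_neg_cast]
    by_cases h1 : m = x
    · subst h1; simp
    · have : x < m + 1 ↔ x < m := by omega
      simp [h1, this]

theorem dsum_chainD (P : F) (l : ℕ) (L : List (ℕ × ℤ)) (e x : ℕ) :
    dsum P (chainD l L (e + 1)) x =
      ((L.zipIdx).map fun y => if l + y.1.1 = x then (y.1.2 : F) * (P ^ (e + 1) * P ^ y.2) else 0).sum := by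
  induction L generalizing e with
  | nil => simp [chainD_nil, dsum]
  | cons y L ih =>
    rw [chainD_cons, List.zipIdx_cons, List.map_cons, List.sum_cons]
    simp only [dsum]
    rw [show Nat.succ (e + 1) = (e + 1) + 1 from rfl, ih]
    have hneg : Int.neg y.2 = -y.2 := rfl
    rw [hneg, toNat_sub_toNat_neg_cast, List.zipIdx_succ, List.map_map]
    congr 1
    · simp
    · congr 1
      apply List.map_congr_left
      intro z _
      simp only [Function.comp, pow_succ]
      split_ifs <;> ring

theorem dsum_desc (T : Acc) (a b : F) (r : ℕ) (p : Vec) (key x : ℕ) (hkey : key < T.l + T.n) :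
    (if key = x then 1 else 0) + dsum (pv a b p) (T.desc r key) x = ev a b (T.xop r p key) x := by
  rw [ev_xop]
  unfold Acc.desc
  by_cases h0 : key < T.l
  · rw [(nlt_iff _ _).mpr h0, bite_true, if_pos h0]
    congr 1
    by_cases hA : T.A key r = 0
    · simp [hA, dsum]
    · rw [decide_eq_false hA, bite_false]
      simp only [dsum, add_zero, pow_one, Nat.add_eq]
      have hneg : Int.neg (T.A key r) = -(T.A key r) := rfl
      have := toNat_sub_toNat_neg_cast (F := F) (-(T.A key r))
      rw [neg_neg] at this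
      rw [hneg, this]
      push_cast
      rfl
  · rw [(nlt_false_iff _ _).mpr h0, bite_false, if_neg h0, Nat.add_eq, (nlt_iff _ _).mpr hkey, bite_true,
      Nat.sub_eq]
    by_cases h1 : key - T.l = r
    · rw [(nbeq_iff _ _).mpr h1, bite_true, if_pos h1]; simp [dsum]
    · rw [(nbeq_false_iff _ _).mpr h1, bite_false, if_neg h1]
      by_cases h2 : key - T.l = T.neg r
      · rw [(nbeq_iff _ _).mpr h2, bite_true, if_pos h2, dsum_hD]
        simp only [dsum, add_zero, Nat.cast_zero, Nat.cast_one, zero_sub, pow_two, neg_mul, one_mul, Nat.add_eq]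
      · rw [(nbeq_false_iff _ _).mpr h2, bite_false, if_neg h2]
        have := dsum_chainD (pv a b p) T.l (T.ent r (key - T.l)) 0 x
        simp only [zero_add, pow_one] at this
        rw [this]

theorem desc_oor (T : Acc) (r key : ℕ) (hkey : T.l + T.n ≤ key) : T.desc r key = [] := by
  unfold Acc.desc
  rw [(nlt_false_iff _ _).mpr (by omega), bite_false, Nat.add_eq, (nlt_false_iff _ _).mpr (by omega), bite_false]

/-- the fast operator represents `x_r(p)` -/
theorem repA_x (D : ChevalleyDatum) (hD : WF D) (a b : F) (r : ℕ) (hr : r < D.nroots) (p : Vec)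
    (d : ℕ → Desc) (hd : ∀ key, d key = (acc D).desc r key) :
    RepA (l := D.rank) (n := D.nroots) a b (applyU d p) (D.x F r (pv a b p)) := by
  apply repA_applyU
  · intro row col
    rw [(rep_x D hD a b r hr p).col, hd, dsum_desc (acc D) a b r p _ _ (code_lt col)]
  · intro k hk
    rw [hd]; exact desc_oor _ _ _ hk

end

/-! ### descriptors from packed tables -/

noncomputable def dc1 (x e : ℕ) (rest : Desc) : Desc :=
  bite (Nat.beq x 0) []
    (⟨Nat.sub (Nat.land x 255) 1, Nat.sub (Nat.land (Nat.shiftRight x 8) 15) 8,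
      Nat.sub 8 (Nat.land (Nat.shiftRight x 8) 15), e⟩ :: rest)

noncomputable def decC (x : ℕ) : Desc :=
  dc1 x 1 (dc1 (Nat.shiftRight x 12) 2 (dc1 (Nat.shiftRight x 24) 3 []))

noncomputable def Packed.fdRec (P : Packed) (r x : ℕ) : Desc :=
  bite (Nat.beq x 0) []
    (bite (Nat.beq x P.mask) (hD (P.acc.H r) P.l [⟨Nat.add P.l r, 0, 1, 2⟩]) (decC x))

/-- the fast column descriptor -/
noncomputable def Packed.fd (P : Packed) (r key : ℕ) : Desc :=
  bite (nlt key P.m)
    (P.fdRec r (Nat.land (Nat.shiftRight (Nat.land (Nat.shiftRight P.tC (Nat.mul (Nat.mul P.w P.m) r)) P.rC)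
      (Nat.mul P.w key)) P.mask))
    []

/-- row check of the fast descriptors -/
noncomputable def descRow (P : Packed) (r : ℕ) : Bool :=
  allBelow (fun key => decide (P.fd r key = P.acc.desc r key)) P.m

/-- the fast descriptors agree with the derived ones -/
structure DescOK (P : Packed) : Prop where
  m_eq : P.m = P.l + P.n
  eq : ∀ r < P.n, descRow P r = true

theorem DescOK.fd_eq {D : ChevalleyDatum} {P : Packed} (hB : Bridge D P) (h : DescOK P) (r : ℕ)
    (hr : r < D.nroots) (key : ℕ) : P.fd r key = (acc D).desc r key := by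
  rw [hB.acc_eq]
  by_cases hk : key < P.m
  · exact of_decide_eq_true ((allBelow_iff _ _).mp (h.eq r (hB.nroots ▸ hr)) key hk)
  · rw [desc_oor _ _ _ (by
      have : P.acc.l + P.acc.n = P.l + P.n := rfl
      rw [this, ← h.m_eq]; omega)]
    unfold Packed.fd
    rw [(nlt_false_iff _ _).mpr hk, bite_false]

/-- a datum together with verified packed tables -/
structure Fast (D : ChevalleyDatum) (P : Packed) : Prop where
  bridge : Bridge D P
  desc : DescOK P

theorem Fast.wf {D : ChevalleyDatum} {P : Packed} (h : Fast D P) : WF D := h.bridge.wf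

theorem Fast.m_eq {D : ChevalleyDatum} {P : Packed} (h : Fast D P) : P.m = D.rank + D.nroots := by
  rw [h.desc.m_eq, h.bridge.rank, h.bridge.nroots]

/-- the operator of `x_r(p)` on sparse vectors -/
noncomputable def Packed.X (P : Packed) (r : ℕ) (p : Vec) : Vec → Vec := applyU (P.fd r) p

theorem Fast.repA {D : ChevalleyDatum} {P : Packed} (h : Fast D P) {F : Type*} [Field F] (a b : F)
    (r : ℕ) (hr : r < D.nroots) (p : Vec) :
    RepA (l := D.rank) (n := D.nroots) a b (P.X r p) (D.x F r (pv a b p)) :=
  repA_x D h.wf a b r hr p _ (h.desc.fd_eq h.bridge r hr)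

end Cfsg.Agent.Chev
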