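import Cfsg.Agent.Chev.Thy8

/-!
# The Weyl group as a group of permutations of the roots
-/

set_option autoImplicit false
set_option linter.unusedSectionVars false
set_option linter.unusedVariables false

namespace Cfsg.Agent.Chev
open Cfsg.Lie

variable {D : ChevalleyDatum}

/-- the fundamental roots as elements of `Fin` -/
def Good.sF (G : Good D) (i : ℕ) (hi : i < D.rank) : Fin D.nroots := ⟨D.simple i, G.simple_lt i hi⟩

/-- the Weyl group -/
def Good.W (G : Good D) : Subgroup (Equiv.Perm (Fin D.nroots)) :=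
  Subgroup.closure {σ | ∃ (i : ℕ) (hi : i < D.rank), σ = G.wP i hi}

theorem Good.wP_mem (G : Good D) (i : ℕ) (hi : i < D.rank) : G.wP i hi ∈ G.W :=
  Subgroup.subset_closure ⟨i, hi, rfl⟩

theorem Good.W_ind_left (G : Good D) {p : Equiv.Perm (Fin D.nroots) → Prop} (one : p 1)
    (mul : ∀ i hi σ, σ ∈ G.W → p σ → p (G.wP i hi * σ)) : ∀ σ ∈ G.W, p σ := by
  intro σ hσ
  induction hσ using Subgroup.closure_induction_left with
  | one => exact one
  | mul_left x hx y hy ih =>
    obtain ⟨i, hi, rfl⟩ := hx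
    exact mul i hi y hy ih
  | inv_mul_cancel x hx y hy ih =>
    obtain ⟨i, hi, rfl⟩ := hx
    rw [G.wP_inv]
    exact mul i hi y hy ih

theorem Good.W_ind_right (G : Good D) {p : Equiv.Perm (Fin D.nroots) → Prop} (one : p 1)
    (mul : ∀ i hi σ, σ ∈ G.W → p σ → p (σ * G.wP i hi)) : ∀ σ ∈ G.W, p σ := by
  intro σ hσ
  induction hσ using Subgroup.closure_induction_right with
  | one => exact one
  | mul_right x hx y hy ih =>
    obtain ⟨i, hi, rfl⟩ := hy
    exact mul i hi x hx ih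
  | mul_inv_cancel x hx y hy ih =>
    obtain ⟨i, hi, rfl⟩ := hy
    rw [G.wP_inv]
    exact mul i hi x hx ih

theorem Good.lin_simple (G : Good D) (lam : ℕ → ℤ) (k : ℕ) (hk : k < D.rank) : G.lin lam (D.simple k) = lam k := by
  unfold Good.lin
  rw [Finset.sum_eq_single k]
  · rw [G.rc_simple k hk k hk, if_pos rfl, one_mul]
  · intro j hj hjk
    rw [G.rc_simple k hk j (Finset.mem_range.mp hj), if_neg (fun h => hjk h.symm), zero_mul]
  · intro h; exact absurd (Finset.mem_range.mpr hk) h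

theorem Good.lin_congr (G : Good D) {lam lam' : ℕ → ℤ} (h : ∀ k < D.rank, lam k = lam' k) (r : ℕ) :
    G.lin lam r = G.lin lam' r := by
  unfold Good.lin
  apply Finset.sum_congr rfl
  intro j hj
  rw [h j (Finset.mem_range.mp hj)]

/-- the action of a fundamental reflection on linear functions -/
def rv (D : ChevalleyDatum) (i : ℕ) (lam : ℕ → ℤ) : ℕ → ℤ := fun k => lam k - D.cartan i (D.simple k) * lam i

theorem Good.lin_refl' (G : Good D) (i : ℕ) (hi : i < D.rank) (lam : ℕ → ℤ) (r : ℕ) (hr : r < D.nroots) :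
    G.lin lam (D.reflectRoot i r) = G.lin lam r - D.cartan i r * lam i := by
  unfold Good.lin
  have h1 : ∀ j ∈ Finset.range D.rank, G.rc (D.reflectRoot i r) j * lam j =
      G.rc r j * lam j - (if i = j then D.cartan i r * lam i else 0) := by
    intro j hj
    rw [G.rc_refl i hi r hr j (Finset.mem_range.mp hj)]
    split_ifs with h
    · subst h; ring
    · ring
  rw [Finset.sum_congr rfl h1, Finset.sum_sub_distrib, Finset.sum_ite_eq, if_pos (Finset.mem_range.mpr hi)]

theorem Good.lin_refl (G : Good D) (i : ℕ) (hi : i < D.rank) (lam : ℕ → ℤ) (r : ℕ) (hr : r < D.nroots) :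
    G.lin lam (D.reflectRoot i r) = G.lin (rv D i lam) r := by
  rw [G.lin_refl' i hi lam r hr, G.cartan_lin i hi r hr, isum_eq]
  unfold Good.lin rv
  rw [Finset.sum_mul, ← Finset.sum_sub_distrib]
  apply Finset.sum_congr rfl
  intro j _
  ring

theorem Good.W_lin (G : Good D) {σ : Equiv.Perm (Fin D.nroots)} (hσ : σ ∈ G.W) :
    ∀ lam : ℕ → ℤ, ∃ lam' : ℕ → ℤ, ∀ r : Fin D.nroots, G.lin lam (σ r) = G.lin lam' r := by
  refine G.W_ind_left (p := fun σ => ∀ lam : ℕ → ℤ, ∃ lam' : ℕ → ℤ, ∀ r : Fin D.nroots, G.lin lam (σ r) = G.lin lam' r)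
    (fun lam => ⟨lam, fun r => rfl⟩) ?_ σ hσ
  intro i hi σ _ ih lam
  obtain ⟨lam', h⟩ := ih (rv D i lam)
  refine ⟨lam', fun r => ?_⟩
  rw [← h r, Equiv.Perm.mul_apply, G.wP_apply, G.lin_refl i hi lam _ (σ r).2]

theorem Good.W_neg (G : Good D) {σ : Equiv.Perm (Fin D.nroots)} (hσ : σ ∈ G.W) (r : Fin D.nroots) :
    σ (G.negF r) = G.negF (σ r) := by
  obtain ⟨lam', h⟩ := G.W_lin hσ (wgt D.rank)
  apply Fin.ext
  apply G.ht_inj (σ (G.negF r)).2 (G.negF (σ r)).2
  have h1 : G.ht (σ (G.negF r)) = G.lin lam' (G.negF r) := h _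
  have h2 : G.ht (σ r) = G.lin lam' r := h _
  rw [h1]
  simp only [Good.negF]
  rw [(G.lin_addFn lam').neg r r.2, G.ht_addFn.neg _ (σ r).2, h2]

theorem Good.lin_pos (G : Good D) {lam : ℕ → ℤ} {r : ℕ} (hr : r < D.nroots) (hp : D.nroots / 2 ≤ r)
    (h : ∀ k < D.rank, 0 < G.rc r k → 0 < lam k) : 0 < G.lin lam r := by
  unfold Good.lin
  have h0 : ∀ j ∈ Finset.range D.rank, 0 ≤ G.rc r j * lam j := by
    intro j hj
    have h1 := (G.rc_sign r hr j (Finset.mem_range.mp hj)).1 hp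
    rcases h1.eq_or_lt with h2 | h2
    · rw [← h2, zero_mul]
    · exact (mul_pos h2 (h j (Finset.mem_range.mp hj) h2)).le
  apply Finset.sum_pos' h0
  by_contra hne
  push Not at hne
  have h3 : G.ht r = 0 := by
    unfold Good.ht Good.lin
    apply Finset.sum_eq_zero
    intro j hj
    have h1 := (G.rc_sign r hr j (Finset.mem_range.mp hj)).1 hp
    rcases h1.eq_or_lt with h2 | h2
    · rw [← h2, zero_mul]
    · exact absurd (mul_pos h2 (h j (Finset.mem_range.mp hj) h2)) (not_lt.mpr (hne j hj))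
  exact G.ht_ne_zero hr h3

/-! ### counting -/

/-- the positive roots -/
def Good.posF (G : Good D) : Finset (Fin D.nroots) := Finset.univ.filter (fun r => D.nroots / 2 ≤ (r : ℕ))

theorem Good.mem_posF (G : Good D) (r : Fin D.nroots) : r ∈ G.posF ↔ D.nroots / 2 ≤ (r : ℕ) := by
  simp [Good.posF]

/-- the number of positive roots at which a function is negative -/
def Good.cnt (G : Good D) (f : Fin D.nroots → ℤ) : ℕ := (G.posF.filter (fun r => f r < 0)).card

theorem Good.cnt_split (G : Good D) (i : ℕ) (hi : i < D.rank) (f : Fin D.nroots → ℤ) :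
    G.cnt f = ((G.posF.erase (G.sF i hi)).filter (fun r => f r < 0)).card + if f (G.sF i hi) < 0 then 1 else 0 := by
  unfold Good.cnt
  have h1 : G.sF i hi ∈ G.posF := (G.mem_posF _).mpr (G.simple_pos hi)
  conv_lhs => rw [← Finset.insert_erase h1]
  rw [Finset.filter_insert]
  split_ifs with h
  · rw [Finset.card_insert_of_notMem]
    simp
  · rfl

theorem Good.cnt_refl (G : Good D) (i : ℕ) (hi : i < D.rank) (f : Fin D.nroots → ℤ)
    (hodd : f (G.negF (G.sF i hi)) = - f (G.sF i hi)) :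
    G.cnt (fun r => f (G.wP i hi r)) + (if f (G.sF i hi) < 0 then 1 else 0) =
      G.cnt f + (if 0 < f (G.sF i hi) then 1 else 0) := by
  rw [G.cnt_split i hi f, G.cnt_split i hi (fun r => f (G.wP i hi r))]
  have h1 : G.wP i hi (G.sF i hi) = G.negF (G.sF i hi) := Fin.ext (G.refl_simple i)
  have h2 : ((G.posF.erase (G.sF i hi)).filter (fun r => f (G.wP i hi r) < 0)).card =
      ((G.posF.erase (G.sF i hi)).filter (fun r => f r < 0)).card := by
    have hmap : ∀ r ∈ G.posF.erase (G.sF i hi), G.wP i hi r ∈ G.posF.erase (G.sF i hi) := by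
      intro r hr
      rw [Finset.mem_erase, G.mem_posF] at hr ⊢
      have h3 := G.refl_pos hi r.2 hr.2 (fun e => hr.1 (Fin.ext e))
      exact ⟨fun e => h3.2 (congrArg Fin.val e), h3.1⟩
    apply Finset.card_bij (fun r _ => G.wP i hi r)
    · intro r hr
      rw [Finset.mem_filter] at hr ⊢
      exact ⟨hmap r hr.1, hr.2⟩
    · intro a _ b _ h
      exact (G.wP i hi).injective h
    · intro b hb
      rw [Finset.mem_filter] at hb
      have h4 : G.wP i hi (G.wP i hi b) = b := Fin.ext (G.refl_refl i hi b b.2)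
      refine ⟨G.wP i hi b, ?_, h4⟩
      rw [Finset.mem_filter, h4]
      exact ⟨hmap b hb.1, hb.2⟩
  simp only [h1, hodd, h2, Left.neg_neg_iff]
  ring

/-- the number of positive roots made negative -/
def Good.nn (G : Good D) (σ : Equiv.Perm (Fin D.nroots)) : ℕ := G.cnt (fun r => G.ht (σ r))

theorem Good.nn_mul_refl (G : Good D) {σ : Equiv.Perm (Fin D.nroots)} (hσ : σ ∈ G.W) (i : ℕ) (hi : i < D.rank) :
    G.nn (σ * G.wP i hi) + (if (σ (G.sF i hi) : ℕ) < D.nroots / 2 then 1 else 0) =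
      G.nn σ + (if D.nroots / 2 ≤ (σ (G.sF i hi) : ℕ) then 1 else 0) := by
  have := G.cnt_refl i hi (fun r => G.ht (σ r)) (by
    rw [G.W_neg hσ]
    exact G.ht_addFn.neg _ (σ _).2)
  simp only [G.ht_neg_iff (σ (G.sF i hi)).2, G.ht_pos_iff (σ (G.sF i hi)).2] at this
  exact this

theorem Good.nn_eq_zero_iff (G : Good D) (σ : Equiv.Perm (Fin D.nroots)) :
    G.nn σ = 0 ↔ ∀ r : Fin D.nroots, D.nroots / 2 ≤ (r : ℕ) → D.nroots / 2 ≤ (σ r : ℕ) := by
  unfold Good.nn Good.cnt
  rw [Finset.card_eq_zero, Finset.filter_eq_empty_iff]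
  constructor
  · intro h r hr
    have := h ((G.mem_posF r).mpr hr)
    rw [G.ht_neg_iff (σ r).2] at this
    omega
  · intro h r hr
    rw [G.ht_neg_iff (σ r).2]
    have := h r ((G.mem_posF r).mp hr)
    omega

theorem Good.pos_of_simple_pos (G : Good D) {σ : Equiv.Perm (Fin D.nroots)} (hσ : σ ∈ G.W) {r : Fin D.nroots}
    (hr : D.nroots / 2 ≤ (r : ℕ))
    (h : ∀ k (hk : k < D.rank), 0 < G.rc r k → D.nroots / 2 ≤ (σ (G.sF k hk) : ℕ)) : D.nroots / 2 ≤ (σ r : ℕ) := by
  obtain ⟨lam', h1⟩ := G.W_lin hσ (wgt D.rank)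
  rw [← G.ht_pos_iff (σ r).2]
  have h2 : G.ht (σ r) = G.lin lam' r := h1 r
  rw [h2]
  apply G.lin_pos r.2 hr
  intro k hk hpos
  have h3 : G.ht (σ (G.sF k hk)) = G.lin lam' (G.sF k hk) := h1 _
  have h4 : G.lin lam' (G.sF k hk) = lam' k := G.lin_simple lam' k hk
  rw [← h4, ← h3, G.ht_pos_iff (σ _).2]
  exact h k hk hpos

theorem Good.exists_simple_neg (G : Good D) {σ : Equiv.Perm (Fin D.nroots)} (hσ : σ ∈ G.W) (h : G.nn σ ≠ 0) :
    ∃ i, ∃ hi : i < D.rank, (σ (G.sF i hi) : ℕ) < D.nroots / 2 := by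
  by_contra hne
  push Not at hne
  apply h
  rw [G.nn_eq_zero_iff]
  intro r hr
  exact G.pos_of_simple_pos hσ hr (fun k hk _ => hne k hk)

end Cfsg.Agent.Chev
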